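import Cfsg.Agent.H75.QO.Red_m3
import Cfsg.Agent.H240.F4.Card_mg_m3
import Cfsg.Agent.Nodes.LeviDec
import Mathlib
import Cfsg.Agent.H181.TC.Main
import Cfsg.Agent.S0294
import Cfsg.Agent.H6.ORE.LargeOre
import Cfsg.Agent.Nodes.RGDLift
import Cfsg.Agent.H259.U6.Main_m3
import Cfsg.Agent.KFacts.Mult.TwESixTwo
import Cfsg.Agent.Cit.OmB3.PairEx_m3
import Cfsg.Agent.KFacts.RgdAutFacts
import Cfsg.Agent.Nodes.RGDTwActE6
import Cfsg.Agent.Lib.Refl
import Cfsg.Agent.Co2Type.Quad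
import Cfsg.Agent.H898.TE6Facts
import Cfsg.Agent.TwoESix.LeviHyp_m3
import Cfsg.Agent.OddHalf.Quat.KTwoOf_m3
import Cfsg.Agent.FastGrp
import Cfsg.Agent.Prune
set_option linter.all false

section
prune_inst 0x7ff0ecf92bb8a9dfdfff7e7fa691cffc39901fffa6dff94b3fe821ef0bdf030009e56b8d8de012fc1ec2e21c10387813b9ffca3fe26bd87ffffd1ff41ffbee1fa5e6b50871948c340fbc0ffe03f0778e7f3fffffffffffffffffffffffffffbeffbdffffffff

-- part: H590/F4/P4Iden
section
set_option linter.all false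
open scoped Cfsg.Agent.FastGrp

-- part: H584/F4/Fus
section
/-!
# The element of order `21` of `²E₆(2)` in the cover (S2491, QS row F4; helper584)

* `om` : a word of `W(F₄)` fixing the long roots `α₀`, `α₁`, whose image in `W(F₄) / W(D₄) = S₃` has order `3`;
* `comm_f` : the representatives of `om` centralise the block `f : SL₃(2) → ²E₆(2)` of the nodes `0`, `1`;
* `exists_fuse` : in a perfect central extension with kernel of order `3` the representative of `om` conjugates the lift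
  `b` of `Q₃(dg v)` to `b ζ`, `ζ ≠ 1`.
-/

set_option autoImplicit false
set_option linter.unusedSectionVars false

namespace Cfsg.Agent.H584.F4.Fus

open CoxeterSystem Cfsg.Agent.ChevalleyStructure.CoxeterGeom Cfsg.Agent.Tits.Roots Cfsg.Agent.Tits.Core
  Cfsg.Agent.Nodes Cfsg.Agent.Nodes.Reps Cfsg.Agent.Nodes.BNOf Cfsg.Agent.Nodes.RGDLib Cfsg.Agent.Nodes.Bruhat
  Cfsg.Agent.Nodes.OppDec Cfsg.Agent.Nodes.LeviDec Cfsg.Agent.Nodes.StabComb Cfsg.Agent.Nodes.KindChev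
  Cfsg.Agent.Nodes.ChevCls Cfsg.Agent.Nodes.RGDLift
  Cfsg.Agent.OddHalf.NI.ModelChev
  Cfsg.Agent.H928.Ore.TwE Cfsg.Agent.H928.Ore.TwS Cfsg.Agent.H928.Ore.TwF
open Cfsg.Lie Cfsg.Agent.ChevalleyStructure Cfsg.Agent.ChevalleyStructure.Elts
  Cfsg.Agent.ChevalleyStructure.NPerm
  Cfsg.Agent.ChevalleyStructure.CoxeterGeomTypes Cfsg.Agent.Nodes.RGDChev Cfsg.Agent.KFacts.RgdChevCoord
open Cfsg.Agent.Nodes.RGDTwGen Cfsg.Agent.Nodes.RGDFold Cfsg.Agent.Nodes.RGDTwE6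
open Cfsg.Agent.Nodes.RGDFoldSL (Fx mem_Fx psi psi_up psi_lo hv)
open Cfsg.Agent.Nodes.RGDTwNode.E6 (rest)
open Cfsg.Agent.FixBN.FieldRGD (uu vv dd ww)
open Cfsg.Agent.OddHalf.NI.Mult (dg nn up lo dgHom Coord)
open Cfsg.Agent.H162.GaussExcMain (r6)
open Cfsg.Agent.H162.GaussReg (hom_ext)
open Cfsg.Agent.H335.Sr
open Cfsg.Agent.H231.QS.Lift Cfsg.Agent.H231.QS.TwCen
open scoped MatrixGroups

universe u

/-! ### The word -/

/-- the word -/
def om : List (Fin 4) := [2, 1, 2, 3, 2, 1, 2, 0, 1, 2, 3, 1, 0, 2, 1, 2, 3, 2, 1, 2]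

section

variable {W : Type*} [Group W] (cs : CoxeterSystem CoxeterMatrix.F₄ W)

theorem rep_word (ω : List (Fin 4)) (x : Fin 4 → ℤ) : rep cs RGDTwE6.isCartan (cs.wordProd ω) x =
    ω.foldr (fun i y => CoxeterGeom.refl RGDTwE6.A i y) x := by
  induction ω with
  | nil => rw [wordProd_nil, map_one]; rfl
  | cons i ω ih =>
    rw [wordProd_cons, rep_mul_apply, ih, rep_simple]
    rfl

theorem om_fix : om.foldr (fun i y => CoxeterGeom.refl RGDTwE6.A i y) (sr 0 : Fin 4 → ℤ) = sr 0 ∧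
    om.foldr (fun i y => CoxeterGeom.refl RGDTwE6.A i y) (sr 1 : Fin 4 → ℤ) = sr 1 := by decide +kernel

theorem rep_om {z : Fin 4 → ℤ} (h2 : z 2 = 0) (h3 : z 3 = 0) :
    rep cs RGDTwE6.isCartan (cs.wordProd om) z = z := by
  have e : z = z 0 • (sr 0 : Fin 4 → ℤ) + z 1 • (sr 1 : Fin 4 → ℤ) := by
    funext k
    fin_cases k <;> simp [sr, h2, h3]
  have e0 : rep cs RGDTwE6.isCartan (cs.wordProd om) (sr 0) = sr 0 := by rw [rep_word]; exact om_fix.1
  have e1 : rep cs RGDTwE6.isCartan (cs.wordProd om) (sr 1) = sr 1 := by rw [rep_word]; exact om_fix.2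
  conv_lhs => rw [e]
  rw [map_add, map_smul, map_smul, e0, e1, ← e]

end

/-! ### The action on an element of order three -/

section

variable {E : Type*} [Group E]

/-- the exponents -/
def st (ω : List (Fin 4)) : ℤ × ℤ :=
  ω.foldr (fun i s => if i = 2 then (-s.1, s.2 - s.1) else if i = 3 then (-s.1, s.2) else s) (1, 0)

theorem st_om : st om = (1, -1) := by decide +kernel

theorem act_word {b ζ : E} (hz : ∀ x, x * ζ = ζ * x) {m : Fin 4 → E} (h0 : m 0 * b * (m 0)⁻¹ = b)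
    (h1 : m 1 * b * (m 1)⁻¹ = b) (h2 : m 2 * b * (m 2)⁻¹ = b⁻¹ * ζ⁻¹) (h3 : m 3 * b * (m 3)⁻¹ = b⁻¹)
    (ω : List (Fin 4)) : (ω.map m).prod * b * ((ω.map m).prod)⁻¹ = b ^ (st ω).1 * ζ ^ (st ω).2 := by
  induction ω with
  | nil => simp [st]
  | cons i ω ih =>
    have hzz : ∀ (x : E) (k : ℤ), x * ζ ^ k * x⁻¹ = ζ ^ k := by
      intro x k
      have : Commute x (ζ ^ k) := (show Commute x ζ from hz x).zpow_right k
      rw [this.eq, mul_inv_cancel_right]
    have hcj : ∀ (x : E) (k : ℤ), x * b ^ k * x⁻¹ = (x * b * x⁻¹) ^ k := fun x k => by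
      have := map_zpow (MulAut.conj x) b k
      simpa only [MulAut.conj_apply] using this
    have e1 : ((i :: ω).map m).prod * b * (((i :: ω).map m).prod)⁻¹ =
        (m i * b * (m i)⁻¹) ^ (st ω).1 * ζ ^ (st ω).2 := by
      rw [List.map_cons, List.prod_cons, _root_.mul_inv_rev]
      calc m i * (ω.map m).prod * b * (((ω.map m).prod)⁻¹ * (m i)⁻¹)
          = m i * ((ω.map m).prod * b * ((ω.map m).prod)⁻¹) * (m i)⁻¹ := by group
        _ = (m i * b ^ (st ω).1 * (m i)⁻¹) * (m i * ζ ^ (st ω).2 * (m i)⁻¹) := by rw [ih]; group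
        _ = _ := by rw [hzz, hcj]
    rw [e1]
    have e2 : st (i :: ω) = if i = 2 then (-(st ω).1, (st ω).2 - (st ω).1) else
        if i = 3 then (-(st ω).1, (st ω).2) else st ω := rfl
    have hi : i = 0 ∨ i = 1 ∨ i = 2 ∨ i = 3 := by
      have : ∀ i : Fin 4, i = 0 ∨ i = 1 ∨ i = 2 ∨ i = 3 := by decide
      exact this i
    have hcm : Commute b⁻¹ ζ⁻¹ := (show Commute b ζ from hz b).inv_inv
    rcases hi with rfl | rfl | rfl | rfl
    · rw [e2, if_neg (by decide), if_neg (by decide), h0]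
    · rw [e2, if_neg (by decide), if_neg (by decide), h1]
    · rw [e2, if_pos rfl, h2, hcm.mul_zpow, inv_zpow, inv_zpow, ← zpow_neg, ← zpow_neg]
      change b ^ (-(st ω).1) * ζ ^ (-(st ω).1) * ζ ^ (st ω).2 = b ^ (-(st ω).1) * ζ ^ ((st ω).2 - (st ω).1)
      rw [mul_assoc, ← zpow_add]
      congr 2
      ring
    · rw [e2, if_neg (by decide), if_pos rfl, h3, inv_zpow, ← zpow_neg]

end

/-! ### The representative centralises the block -/

section

variable {K : Type u} [Field K] [Fintype K] {φ : K →+* K} (hφ : ∀ t, φ t = t ^ 2)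
  (hqq : ∀ t : K, (t ^ 2) ^ 2 = t)
  {P : Matrix.SpecialLinearGroup (Fin 3) K →* ↥(chevE6.group K)}
  (hP : ∀ a b (hab : a ≠ b) c, P (Matrix.SpecialLinearGroup.transvection hab c) =
      xc RGDTwE6.hp (vec chevE6 6 (r6 a b)) (((1 : ℤ) : K) * c))
  {f : Matrix.SpecialLinearGroup (Fin 3) (Fx φ 1) →* ↥(twistedE6 K 2)}
  (hf : ∀ A, inc K 2 (f A) = P (Matrix.SpecialLinearGroup.map (Fx φ 1).subtype A))
  {W : Type*} [Group W] (cs : CoxeterSystem CoxeterMatrix.F₄ W)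

include hφ in
omit [Fintype K] in
/-- the field of two elements -/
theorem fx_two (c : Fx φ 1) : c = 0 ∨ c = 1 := by
  have h1 : φ (c : K) = c := mem_Fx.1 c.2
  rw [hφ] at h1
  have h2 : (c : K) * ((c : K) - 1) = 0 := by linear_combination h1
  rcases mul_eq_zero.1 h2 with h | h
  · exact Or.inl (Subtype.ext h)
  · exact Or.inr (Subtype.ext (sub_eq_zero.1 h))

include hφ hqq hP hf in
/-- **The representatives of `om` centralise the block.** -/
theorem comm_f {p : ℕ} (R : RGD cs RGDTwE6.isCartan p (T K 2) (RGDTwE6.nn hφ) (RGDTwE6.X φ 2))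
    {g : ↥(twistedE6 K 2)} (hg : Rp cs R.nsys (cs.wordProd om) g)
    (A : Matrix.SpecialLinearGroup (Fin 3) (Fx φ 1)) : g * f A * g⁻¹ = f A := by
  have h : (MulAut.conj g).toMonoidHom.comp f = f := by
    refine hom_ext fun a b hab c => ?_
    change g * f (Matrix.SpecialLinearGroup.transvection hab c) * g⁻¹ = f (Matrix.SpecialLinearGroup.transvection hab c)
    by_cases hc : f (Matrix.SpecialLinearGroup.transvection hab c) = 1
    · rw [hc]; group
    have hz := RGDTwComE6.isRoot_V (cs := cs) (rlt a b hab)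
    obtain ⟨z2, z3⟩ := V_r6 a b hab
    have h1 := f_X hφ hqq hP hf hab c
    have h2 := R.conj_mem hg hz h1
    rw [rep_om cs z2 z3] at h2
    obtain ⟨a', b', hab', -, -, h3⟩ := X_eq_f hφ hqq hP hf cs hz (fun k hk => by
      have hk' : k = 2 ∨ k = 3 := by
        have h : ∀ k : Fin 4, ¬ (k = 0 ∨ k = 1) → k = 2 ∨ k = 3 := by decide
        exact h k hk
      rcases hk' with rfl | rfl
      · exact z2
      · exact z3)
    have h4 : ∀ y ∈ RGDTwE6.X φ 2 (V chevE6 J (r6 a b)), y ≠ 1 →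
        y = f (Matrix.SpecialLinearGroup.transvection hab' 1) := by
      intro y hy hy1
      obtain ⟨d, rfl⟩ := h3 y hy
      rcases fx_two hφ d with rfl | rfl
      · exfalso
        apply hy1
        have e0 : Matrix.SpecialLinearGroup.transvection hab' (0 : Fx φ 1) = 1 :=
          Subtype.ext (Matrix.transvection_zero a' b')
        rw [e0, map_one]
      · rfl
    rw [h4 _ h1 hc]
    rw [h4 _ h1 hc] at h2
    refine h4 _ h2 fun h5 => ?_
    have h6 : f (Matrix.SpecialLinearGroup.transvection hab' 1) = 1 := by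
      calc f (Matrix.SpecialLinearGroup.transvection hab' 1)
          = g⁻¹ * (g * f (Matrix.SpecialLinearGroup.transvection hab' 1) * g⁻¹) * g := by group
        _ = 1 := by rw [h5]; group
    rw [← h4 _ h1 hc] at h6
    exact hc h6
  exact DFunLike.congr_fun h A

end

/-! ### The cover with kernel of order three -/

/-- the torus centralises the rank one groups over the field of two elements -/
theorem tor_two {I W Y : Type*} [Fintype I] [DecidableEq I] [Group W] [Group Y] {M : CoxeterMatrix I}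
    {cs : CoxeterSystem M W} {A : I → I → ℤ} {h : IsCartan M A} {p : ℕ} {T : Subgroup Y} {n : I → Y}
    {X : (I → ℤ) → Subgroup Y} (R : RGD cs h p T n X) {F : I → Type*} [∀ i, Field (F i)]
    {s : ∀ i, Matrix.SpecialLinearGroup (Fin 2) (F i) →* Y} (C : Coord X F s) {i : I}
    (h2 : ∀ c : F i, c = 0 ∨ c = 1) {b : Y} (hb : b ∈ T) (A : Matrix.SpecialLinearGroup (Fin 2) (F i)) :
    b * s i A * b⁻¹ = s i A := by
  have key : ∀ (u : F i → Matrix.SpecialLinearGroup (Fin 2) (F i)), u 0 = 1 → (∀ x, IsRoot cs h x →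
      (X x : Set Y) = Set.range (fun a : F i => s i (u a)) → ∀ a, b * s i (u a) * b⁻¹ = s i (u a)) := by
    intro u hu0 x hx hX a
    rcases h2 a with rfl | rfl
    · rw [hu0, map_one]; group
    · have h3 : s i (u 1) ∈ X x := by
        have : s i (u 1) ∈ (X x : Set Y) := by rw [hX]; exact ⟨1, rfl⟩
        exact this
      have h4 : b * s i (u 1) * b⁻¹ ∈ X x := by
        rw [← R.tor x hx b hb]
        exact conj_mem_cj.2 h3
      have h5 : b * s i (u 1) * b⁻¹ ∈ (X x : Set Y) := h4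
      rw [hX] at h5
      obtain ⟨c, hc⟩ := h5
      change s i (u c) = b * s i (u 1) * b⁻¹ at hc
      rcases h2 c with rfl | rfl
      · rw [hu0, map_one] at hc
        have h6 : s i (u 1) = 1 := by
          calc s i (u 1) = b⁻¹ * (b * s i (u 1) * b⁻¹) * b := by group
            _ = 1 := by rw [← hc]; group
        rw [h6]; group
      · exact hc.symm
  have h3 : (MonoidHom.eqLocus ((MulAut.conj b).toMonoidHom.comp (s i)) (s i)) = ⊤ :=
    Cfsg.Agent.OddHalf.NI.Mult.mem_of_up_lo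
      (fun a => key up (Cfsg.Agent.OddHalf.NI.Mult.up_zero) (sr i) (isRoot_sr cs h i) (C.up i) a)
      (fun a => key lo (Cfsg.Agent.OddHalf.NI.Mult.lo_zero) (-sr i) (isRoot_sr cs h i).neg (C.lo i) a)
  have h4 : A ∈ MonoidHom.eqLocus ((MulAut.conj b).toMonoidHom.comp (s i)) (s i) := by
    rw [h3]; exact Subgroup.mem_top A
  exact h4

/-- **The cover.** -/
theorem exists_fuse {K : Type u} [Field K] [Fintype K] (hK : Fintype.card K = 4) {φ : K →+* K}
    (hφ : ∀ t, φ t = t ^ 2) (hqq : ∀ t : K, (t ^ 2) ^ 2 = t)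
    {E : Type*} [Group E] [Finite E] {π : E →* ↥(twistedE6 K 2)} (hsur : Function.Surjective π)
    (hc : π.ker ≤ Subgroup.center E) (h3 : Nat.card π.ker = 3) (hE : commutator E = ⊤) {p : ℕ} [Fact p.Prime]
    [CharP K p] (R : RGD CoxeterMatrix.F₄.toCoxeterSystem RGDTwE6.isCartan p (T K 2) (RGDTwE6.nn hφ) (RGDTwE6.X φ 2)) :
    ∃ n : E, Rp CoxeterMatrix.F₄.toCoxeterSystem R.nsys (CoxeterMatrix.F₄.toCoxeterSystem.wordProd om) (π n) ∧
      ∃ ζ ∈ π.ker, ζ ≠ 1 ∧ ∃ v : (Fx φ 2)ˣ, v ≠ 1 ∧ ∃ b : E, π b = Q3 hφ hqq (dg v) ∧ n * b * n⁻¹ = b * ζ := by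
  have : Fact (Nat.Prime 3) := ⟨Nat.prime_three⟩
  have h0 : (p : K) = 0 := CharP.cast_eq_zero K p
  have hp2 : p = 2 := by
    have h4 : ((4 : ℕ) : K) = 0 := by rw [← hK]; exact Nat.cast_card_eq_zero K
    have h5 : p ∣ 2 ^ 2 := (CharP.cast_eq_zero_iff K p 4).1 h4
    exact (Nat.prime_dvd_prime_iff_eq Fact.out Nat.prime_two).1 ((Fact.out : p.Prime).dvd_of_dvd_pow h5)
  have hp3 : p ≠ 3 := by omega
  have h3' : IsPGroup 3 π.ker := IsPGroup.of_card (n := 1) (by rw [h3, pow_one])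
  have hfin : Finite (GL chevE6.Idx K) := by
    have : Finite (Matrix chevE6.Idx chevE6.Idx K) := inferInstance
    infer_instance
  have : Finite ↥(twistedE6 K 2) := inferInstance
  have : Finite CoxeterMatrix.F₄.Group := Cfsg.Agent.Nodes.RGDFold.finite_W (hp := RGDTwE6.hp)
    CoxeterMatrix.F₄.toCoxeterSystem RGDTwE6.isCartan RGDTwE6.foldData
  have hker : (Nat.card π.ker).Coprime p := by
    rw [h3, hp2]; decide
  have hn : ∃ n' : Fin 4 → E, ∀ i, π (n' i) = RGDTwE6.nn hφ i := by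
    choose n' hn' using fun i => hsur (RGDTwE6.nn hφ i)
    exact ⟨n', hn'⟩
  obtain ⟨n', hn'⟩ := hn
  have R' := rgd_lift hc hker hsur R hn'
  have hG := RGDTwE6.G1_eq_top CoxeterMatrix.F₄.toCoxeterSystem hφ hqq
  have hG' := Cfsg.Agent.OddHalf.NI.Mult.G1_lift R hG hsur hc hker hE
  have C := Cfsg.Agent.H958.TS.TwCommon.coordP hφ hqq
  have hch : ∀ i : Fin 4, ((p : ℕ) : Fx φ ((rest i).length + 1)) = 0 := fun i =>
    Subtype.ext (by
      rw [Subring.coe_natCast, ZeroMemClass.coe_zero]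
      exact h0)
  have hlift : ∀ i, ∃ s' : Matrix.SpecialLinearGroup (Fin 2) (Fx φ ((rest i).length + 1))
      →* E, π.comp s' = Cfsg.Agent.H958.TS.TwCommon.P hφ hqq i := fun i =>
    Cfsg.Agent.H231.QS.Lift.exists_lift (p := p) (r := 3) hp3 hsur hc h3' _ (closure_pow (hch i))
      (fun P => cyc_two (hch i) hp3 P)
  choose t ht using hlift
  have ht' : ∀ i A, π (t i A) = Cfsg.Agent.H958.TS.TwCommon.P hφ hqq i A := fun i A => DFunLike.congr_fun (ht i) A
  have C' := Cfsg.Agent.OddHalf.NI.Mult.coord_lift R C hc hker ht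
  have hT := Cfsg.Agent.OddHalf.NI.Mult.torus R' C' hG'
  obtain ⟨s2, hs2⟩ : ∃ s2 : SL(2, Fx φ 2) →* E, s2 = t 2 := ⟨_, rfl⟩
  obtain ⟨s3, hs3⟩ : ∃ s3 : SL(2, Fx φ 2) →* E, s3 = t 3 := ⟨_, rfl⟩
  have hq2 : ∀ A, π (s2 A) = Q2 hφ hqq A := by
    rw [hs2]
    exact fun A => ht' 2 A
  have hq3 : ∀ A, π (s3 A) = Q3 hφ hqq A := by
    rw [hs3]
    exact fun A => ht' 3 A
  have hcard : 4 ≤ Nat.card (Fx φ 2) := by
    have h5 : (Fx φ 2) = ⊤ := by
      rw [eq_top_iff]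
      intro y _
      rw [mem_Fx]
      change φ (φ y) = y
      rw [hφ, hφ, hqq]
    have h6 : Nat.card (Fx φ 2) = Nat.card K := by
      rw [h5]
      exact Nat.card_congr Subfield.topEquiv.toEquiv
    rw [h6, Nat.card_eq_fintype_card, hK]
  have hperf : commutator SL(2, Fx φ 2) = ⊤ := perf2 hcard
  have h32 : ∀ v A, s3 (dg v) * s2 A * (s3 (dg v))⁻¹ = s2 (cj2 v⁻¹ A) := by
    intro v
    have h5 : (MulAut.conj (s3 (dg v))).toMonoidHom.comp s2 = s2.comp (cj2 v⁻¹) := by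
      refine hom_eq hperf hc fun A => ?_
      change π (s3 (dg v) * s2 A * (s3 (dg v))⁻¹) = π (s2 (cj2 v⁻¹ A))
      rw [map_mul, map_mul, map_inv, hq3, hq2, hq2]
      exact rel32 hφ hqq v A
    exact fun A => DFunLike.congr_fun h5 A
  have h32c : ∀ v w, s3 (dg v) * s2 (dg w) = s2 (dg w) * s3 (dg v) := by
    intro v w
    have h5 := h32 v (dg w)
    have h6 : cj2 v⁻¹ (dg w) = dg w := by
      apply Subtype.ext
      change !![((w : Fx φ 2)), ((v⁻¹ : (Fx φ 2)ˣ) : Fx φ 2) * 0; ((v⁻¹⁻¹ : (Fx φ 2)ˣ) : Fx φ 2) * 0,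
        ((w⁻¹ : (Fx φ 2)ˣ) : Fx φ 2)] = !![(w : Fx φ 2), 0; 0, ((w⁻¹ : (Fx φ 2)ˣ) : Fx φ 2)]
      rw [mul_zero, mul_zero]
    rw [h6] at h5
    exact mul_inv_eq_iff_eq_mul.1 h5
  have htwo : ∀ i : Fin 4, (i = 0 ∨ i = 1) → ∀ c : Fx φ ((rest i).length + 1), c = 0 ∨ c = 1 := by
    rintro i (rfl | rfl) c
    · exact fx_two hφ c
    · exact fx_two hφ c
  have hone : ∀ i : Fin 4, (i = 0 ∨ i = 1) → ∀ a : (Fx φ ((rest i).length + 1))ˣ, a = 1 := fun i hi a =>
    Units.ext ((htwo i hi a).resolve_left a.ne_zero)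
  have hcom : ∀ i j, i ≠ j → ∀ a b, Commute (t i (dg a)) (t j (dg b)) := by
    have k1 : ∀ i : Fin 4, (i = 0 ∨ i = 1) → ∀ a, t i (dg a) = 1 := fun i hi a => by
      rw [hone i hi a, Cfsg.Agent.OddHalf.NI.Mult.dg_one, map_one]
    intro i j hij a b
    by_cases hi : i = 0 ∨ i = 1
    · rw [k1 i hi]; exact Commute.one_left _
    by_cases hj : j = 0 ∨ j = 1
    · rw [k1 j hj]; exact Commute.one_right _
    have hcase : ∀ i j : Fin 4, i ≠ j → ¬ (i = 0 ∨ i = 1) → ¬ (j = 0 ∨ j = 1) → (i = 2 ∧ j = 3) ∨ (i = 3 ∧ j = 2) := by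
      decide
    rcases hcase i j hij hi hj with ⟨rfl, rfl⟩ | ⟨rfl, rfl⟩
    · have := h32c b a
      rw [hs2, hs3] at this
      exact this.symm
    · have := h32c a b
      rw [hs2, hs3] at this
      exact this
  have hcomm : Pairwise fun i j => ∀ (a : (Fx φ ((rest i).length + 1))ˣ) (b : (Fx φ ((rest j).length + 1))ˣ),
      Commute (((t i).comp dgHom) a) (((t j).comp dgHom) b) := fun i j hij a b => hcom i j hij a b
  -- a nontrivial element of the kernel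
  obtain ⟨x, hx, hx1⟩ : ∃ x ∈ π.ker, x ≠ 1 := by
    by_contra hcon
    push Not at hcon
    have h5 : π.ker = ⊥ := (Subgroup.eq_bot_iff_forall _).2 hcon
    rw [h5, Subgroup.card_bot] at h3
    exact absurd h3 (by norm_num)
  have hx' : x ∈ (MonoidHom.noncommPiCoprod (fun i => (t i).comp dgHom) hcomm).range := by
    rw [MonoidHom.noncommPiCoprod_range, ← hT, Subgroup.mem_comap]
    rw [MonoidHom.mem_ker] at hx
    rw [hx]
    exact one_mem _
  obtain ⟨u, hu⟩ := hx'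
  have hsingle : ∀ i (a : (Fx φ ((rest i).length + 1))ˣ), MonoidHom.noncommPiCoprod (fun i => (t i).comp dgHom) hcomm
      (Pi.mulSingle i a) = t i (dg a) := by
    intro i a
    rw [MonoidHom.noncommPiCoprod_mulSingle]
    rfl
  have hu1 : u = Pi.mulSingle 0 (u 0) * Pi.mulSingle 1 (u 1) * Pi.mulSingle 2 (u 2) * Pi.mulSingle 3 (u 3) := by
    rw [← Fin.prod_univ_four (fun i => Pi.mulSingle i (u i)), Finset.univ_prod_mulSingle]
  rw [hu1, map_mul, map_mul, map_mul, hsingle, hsingle, hsingle, hsingle] at hu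
  have hx2 : π x = 1 := hx
  rw [← hu, map_mul, map_mul, map_mul, ht', ht', ht', ht'] at hx2
  obtain ⟨e0, e1, e2⟩ := ker_tor hφ hqq (t0 := u 0) (t1 := u 1) (t2 := u 2) (t3 := u 3) hx2
  obtain ⟨v, hv⟩ : ∃ v : (Fx φ 2)ˣ, v = u 3 := ⟨_, rfl⟩
  have h9 : x = s3 (dg v) * (s2 (dg v))⁻¹ := by
    rw [← hu]
    have k0 : t 0 (dg (u 0)) = 1 := by
      have : u 0 = 1 := e0
      rw [this, Cfsg.Agent.OddHalf.NI.Mult.dg_one, map_one]
    have k1 : t 1 (dg (u 1)) = 1 := by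
      have : u 1 = 1 := e1
      rw [this, Cfsg.Agent.OddHalf.NI.Mult.dg_one, map_one]
    have k2 : t 2 (dg (u 2)) = (s2 (dg v))⁻¹ := by
      have h7 : (u 2 : (Fx φ 2)ˣ) = v⁻¹ := by rw [hv]; exact e2
      have h8 : s2 (dg (u 2 : (Fx φ 2)ˣ)) = (s2 (dg v))⁻¹ := by
        rw [h7, ← map_inv, ← Cfsg.Agent.OddHalf.NI.Mult.dg_inv]
      rw [← h8, hs2]
      rfl
    have k3 : t 3 (dg (u 3)) = s3 (dg v) := by
      rw [hs3, hv]
      rfl
    rw [k0, k1, k2, k3, one_mul, one_mul]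
    have h8 : Commute (s2 (dg v)) (s3 (dg v)) := (h32c v v).symm
    exact h8.inv_left.eq
  have hv1 : v ≠ 1 := by
    intro h5
    rw [h5, Cfsg.Agent.OddHalf.NI.Mult.dg_one, map_one, map_one] at h9
    exact hx1 (by rw [h9]; group)
  -- the action
  obtain ⟨b, hb⟩ : ∃ b, b = s3 (dg v) := ⟨_, rfl⟩
  obtain ⟨a, ha⟩ : ∃ a, a = s2 (dg v) := ⟨_, rfl⟩
  rw [← ha, ← hb] at h9
  have hxc : ∀ y, y * x = x * y := Subgroup.mem_center_iff.1 (hc hx)
  have hab : a = b * x⁻¹ := by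
    have h10 : x * a = b := by rw [h9]; group
    have h11 : a * x = b := by rw [hxc]; exact h10
    rw [← h11]; group
  have hb3 : b * b * b = 1 := by
    have h10 : v ^ 3 = 1 := by
      have h11 : Nat.card (Fx φ 2)ˣ ∣ 3 := by
        have h12 : Nat.card (Fx φ 2) = 4 := by
          have h5 : (Fx φ 2) = ⊤ := by
            rw [eq_top_iff]
            intro y _
            rw [mem_Fx]
            change φ (φ y) = y
            rw [hφ, hφ, hqq]
          rw [h5, ← hK, ← Nat.card_eq_fintype_card]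
          exact Nat.card_congr Subfield.topEquiv.toEquiv
        rw [Nat.card_units, h12]
      have h13 : v ^ Nat.card (Fx φ 2)ˣ = 1 := pow_card_eq_one'
      obtain ⟨k, hk⟩ := h11
      rw [hk, pow_mul, h13, one_pow]
    have h14 : dg v * dg v * dg v = (1 : SL(2, Fx φ 2)) := by
      have h15 := congrArg (dgHom (F := Fx φ 2)) h10
      rw [map_pow, map_one] at h15
      rw [← h15, pow_succ, pow_two]
      rfl
    rw [hb, ← map_mul, ← map_mul, h14, map_one]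
  have m3 : s3 (nn 1) * b * (s3 (nn 1))⁻¹ = b⁻¹ := by
    rw [hb, ← map_mul, ← map_inv, ← map_mul, nn_dg, map_inv]
  have m2 : s2 (nn 1) * b * (s2 (nn 1))⁻¹ = b⁻¹ * x⁻¹ := by
    have g1 := h32 v (nn 1)
    rw [cj2_nn, map_mul, Cfsg.Agent.OddHalf.NI.Mult.dg_inv, map_inv, ← hb, ← ha] at g1
    obtain ⟨w, hw⟩ : ∃ w, w = s2 (nn 1) := ⟨_, rfl⟩
    rw [← hw] at g1 ⊢
    -- `b w b⁻¹ = a⁻¹ w`
    have g2 : w * b * w⁻¹ = a * b := by
      have g3 : w = a * (b * w * b⁻¹) := by rw [g1]; group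
      have hcomab : a * b = b * a := by rw [ha, hb]; exact (h32c v v).symm
      have g4 : w * b = a * b * w := by
        calc w * b = a * (b * w * b⁻¹) * b := by rw [← g3]
          _ = a * b * w := by group
      rw [g4]; group
    have g5 : b⁻¹ = b * b := inv_eq_of_mul_eq_one_left (by rw [← hb3])
    have g6 : x⁻¹ * b = b * x⁻¹ := by
      calc x⁻¹ * b = x⁻¹ * (b * x) * x⁻¹ := by group
        _ = x⁻¹ * (x * b) * x⁻¹ := by rw [hxc]
        _ = b * x⁻¹ := by group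
    rw [g2, hab, g5]
    calc b * x⁻¹ * b = b * (x⁻¹ * b) := by group
      _ = b * b * x⁻¹ := by rw [g6]; group
  refine ⟨(om.map fun i => t i (nn 1)).prod, ?_, x⁻¹, inv_mem hx, inv_ne_one.2 hx1, v, hv1, b, ?_, ?_⟩
  · have key : ∀ ω : List (Fin 4), Rp CoxeterMatrix.F₄.toCoxeterSystem R.nsys
        (CoxeterMatrix.F₄.toCoxeterSystem.wordProd ω) (π (ω.map fun i => t i (nn 1)).prod) := by
      intro ω
      induction ω with
      | nil => rw [wordProd_nil, List.map_nil, List.prod_nil, map_one]; exact rp_one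
      | cons i ω ih =>
        rw [wordProd_cons, List.map_cons, List.prod_cons, map_mul, ht']
        exact (Cfsg.Agent.OddHalf.NI.Mult.rp_nn R C i 1).mul ih
    exact key om
  · rw [hb, hq3]
  · have hbT : b ∈ (T K 2).comap π := by
      rw [Subgroup.mem_comap, hb, hq3]
      exact Cfsg.Agent.OddHalf.NI.Mult.dg_mem_T R C 3 v
    have m0 : t 0 (nn 1) * b * (t 0 (nn 1))⁻¹ = b := by
      have g1 := tor_two R' C' (i := 0) (htwo 0 (Or.inl rfl)) hbT (nn 1)
      calc t 0 (nn 1) * b * (t 0 (nn 1))⁻¹ = (b * t 0 (nn 1) * b⁻¹) * b * (t 0 (nn 1))⁻¹ := by rw [g1]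
        _ = b := by group
    have m1 : t 1 (nn 1) * b * (t 1 (nn 1))⁻¹ = b := by
      have g1 := tor_two R' C' (i := 1) (htwo 1 (Or.inr rfl)) hbT (nn 1)
      calc t 1 (nn 1) * b * (t 1 (nn 1))⁻¹ = (b * t 1 (nn 1) * b⁻¹) * b * (t 1 (nn 1))⁻¹ := by rw [g1]
        _ = b := by group
    have g2 := act_word (m := fun i => t i (nn 1)) hxc m0 m1 (by rw [hs2] at m2; exact m2) (by rw [hs3] at m3; exact m3) om
    rw [st_om] at g2
    rw [g2]
    change b ^ (1 : ℤ) * x ^ (-1 : ℤ) = b * x⁻¹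
    rw [zpow_one, zpow_neg_one]

end Cfsg.Agent.H584.F4.Fus
end

-- part: H584/F4/X21
section
/-!
# The element of order `21` of `²E₆(2)` (S2491, QS row F4, box X21; helper584)

`x = s * f X`, `f : SL₃(2) → ²E₆(2)` the block of the nodes `0`, `1`, `X` of order `7`, `s = Q₃(dg v)` of order `3`.

* `exists_x21` : `x` lies in the Levi subgroup of `P_J` (`J = {0, 1, 2}`), has order `21`, is real, has no fixed points on
  `V_J` and `V_J⁻` (even for `J = {0, 1}`), and in every perfect central extension with kernel of order dividing `12` every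
  lift `y` of `x` is conjugate to `y ζ` for all `ζ` of the kernel with `ζ ^ 3 = 1`.
-/

set_option autoImplicit false
set_option linter.unusedSectionVars false

namespace Cfsg.Agent.H584.F4.X21

open CoxeterSystem Cfsg.Agent.ChevalleyStructure.CoxeterGeom Cfsg.Agent.Tits.Roots Cfsg.Agent.Tits.Core
  Cfsg.Agent.Nodes Cfsg.Agent.Nodes.Reps Cfsg.Agent.Nodes.BNOf Cfsg.Agent.Nodes.RGDLib Cfsg.Agent.Nodes.Bruhat
  Cfsg.Agent.Nodes.OppDec Cfsg.Agent.Nodes.LeviDec Cfsg.Agent.Nodes.StabComb Cfsg.Agent.Nodes.KindChev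
  Cfsg.Agent.Nodes.ChevCls Cfsg.Agent.Nodes.RGDLift
  Cfsg.Agent.OddHalf.NI.ModelChev
  Cfsg.Agent.H928.Ore.TwE Cfsg.Agent.H928.Ore.TwS Cfsg.Agent.H928.Ore.TwF
open Cfsg.Lie Cfsg.Agent.ChevalleyStructure Cfsg.Agent.ChevalleyStructure.Elts
  Cfsg.Agent.ChevalleyStructure.NPerm
  Cfsg.Agent.ChevalleyStructure.CoxeterGeomTypes Cfsg.Agent.Nodes.RGDChev Cfsg.Agent.KFacts.RgdChevCoord
open Cfsg.Agent.Nodes.RGDTwGen Cfsg.Agent.Nodes.RGDFold Cfsg.Agent.Nodes.RGDTwE6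
open Cfsg.Agent.Nodes.RGDFoldSL (Fx mem_Fx psi psi_up psi_lo hv)
open Cfsg.Agent.Nodes.RGDTwNode.E6 (rest)
open Cfsg.Agent.FixBN.FieldRGD (uu vv dd ww)
open Cfsg.Agent.OddHalf.NI.Mult (dg nn up lo dgHom Coord)
open Cfsg.Agent.H162.GaussExcMain (r6 rt6 exists_hom_D)
open Cfsg.Agent.H162.GaussReg (hom_ext)
open Cfsg.Agent.H335.Sr
open Cfsg.Agent.H231.QS.Lift Cfsg.Agent.H231.QS.TwCen
open Cfsg.Agent.H51.Mult (PCE)
open Cfsg.Agent.H584.F4.Fus
open scoped MatrixGroups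

universe u v

/-! ### Group theory -/

/-- `c` of order dividing `7` modulo the centre, commuting with `n` modulo a central element of order dividing `3` -/
theorem comm_seven {E : Type*} [Group E] {n c κ : E} (hκ : ∀ x, x * κ = κ * x) (h3 : κ ^ 3 = 1)
    (h7 : ∀ x, x * c ^ 7 = c ^ 7 * x) (h : n * c * n⁻¹ = c * κ) : κ = 1 := by
  have h1 : (n * c * n⁻¹) ^ 7 = c ^ 7 := by
    rw [conj_pow, h7, mul_inv_cancel_right]
  have h2 : (c * κ) ^ 7 = c ^ 7 * κ ^ 7 := (show Commute c κ from hκ c).mul_pow 7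
  rw [h, h2] at h1
  have h4 : κ ^ 7 = 1 := mul_eq_left.1 h1
  have h5 : κ ^ 7 = (κ ^ 3) ^ 2 * κ := by rw [← pow_mul, ← pow_succ]
  rw [h5, h3, one_pow, one_mul] at h4
  exact h4

/-- **From the quotient modulo the 2-part of the kernel to the group** -/
theorem fuse_lift {L Y : Type*} [Group L] [Finite L] [Group Y] {π : L →* Y} (hc : π.ker ≤ Subgroup.center L)
    (hk : Nat.card π.ker ∣ 12) {N : Subgroup L} [N.Normal] (hN : ∀ z, z ∈ N ↔ z ∈ π.ker ∧ z ^ 4 = 1) {y ζ : L}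
    (hy : y ^ 21 ∈ π.ker) (h3 : ζ ^ 3 = 1) (hζ : ζ ∈ π.ker)
    (h : ∃ k : L ⧸ N, k * (y : L ⧸ N) * k⁻¹ = (y : L ⧸ N) * (ζ : L ⧸ N)) : ∃ k : L, k * y * k⁻¹ = y * ζ := by
  obtain ⟨k, hk⟩ := h
  obtain ⟨k, rfl⟩ := QuotientGroup.mk_surjective k
  have h1 : ((y * ζ)⁻¹ * (k * y * k⁻¹)) ∈ N := by
    rw [← QuotientGroup.eq]
    exact hk.symm
  obtain ⟨w, hw⟩ : ∃ w, w = (y * ζ)⁻¹ * (k * y * k⁻¹) := ⟨_, rfl⟩
  rw [← hw] at h1
  obtain ⟨hw1, hw4⟩ := (hN w).1 h1
  have h2 : k * y * k⁻¹ = y * ζ * w := by rw [hw]; group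
  have hwc : ∀ x, x * w = w * x := Subgroup.mem_center_iff.1 (hc hw1)
  have hζc : ∀ x, x * ζ = ζ * x := Subgroup.mem_center_iff.1 (hc hζ)
  have hyc : ∀ x, x * y ^ 21 = y ^ 21 * x := Subgroup.mem_center_iff.1 (hc hy)
  have h4 : (k * y * k⁻¹) ^ 21 = y ^ 21 := by
    rw [conj_pow, hyc, mul_inv_cancel_right]
  have h5 : (y * ζ * w) ^ 21 = y ^ 21 * w ^ 21 := by
    rw [(show Commute (y * ζ) w from hwc _).mul_pow, (show Commute y ζ from hζc _).mul_pow,
      show (21 : ℕ) = 3 * 7 from rfl, pow_mul ζ, h3, one_pow, mul_one]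
  rw [h2, h5] at h4
  have h6 : w ^ 21 = 1 := mul_eq_left.1 h4
  have h7 : w ^ 21 = (w ^ 4) ^ 5 * w := by rw [← pow_mul, ← pow_succ]
  rw [h7, hw4, one_pow, one_mul] at h6
  exact ⟨k, by rw [h2, h6, mul_one]⟩

/-! ### The matrix of order seven -/

/-- the matrix of order seven -/
def m7 : Matrix.SpecialLinearGroup (Fin 3) (ZMod 2) := ⟨!![0, 0, 1; 1, 0, 1; 0, 1, 0], by decide +kernel⟩

theorem m7_pow : m7 ^ 7 = 1 := by decide +kernel

open Polynomial in
theorem m7_charpoly : (m7 : Matrix (Fin 3) (Fin 3) (ZMod 2)).charpoly = Polynomial.X ^ 3 - Polynomial.X - 1 := by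
  change (!![0, 0, 1; 1, 0, 1; 0, 1, 0] : Matrix (Fin 3) (Fin 3) (ZMod 2)).charpoly = _
  rw [Matrix.charpoly, Matrix.det_fin_three]
  simp only [Matrix.charmatrix_apply, Matrix.diagonal_apply]
  simp
  ring

open Polynomial in
/-- over a field of two elements -/
theorem exists_seven {F : Type*} [Field F] (h2 : ∀ c : F, c = 0 ∨ c = 1) (hch : (2 : F) = 0) :
    ∃ A : Matrix.SpecialLinearGroup (Fin 3) F, A ^ 7 = 1 ∧ Irreducible (A : Matrix (Fin 3) (Fin 3) F).charpoly := by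
  have : CharP F 2 := by
    refine ringChar.of_eq (CharP.ringChar_of_prime_eq_zero Nat.prime_two ?_)
    exact_mod_cast hch
  let g : ZMod 2 →+* F := ZMod.castHom (dvd_refl 2) F
  refine ⟨Matrix.SpecialLinearGroup.map g m7, by rw [← map_pow, m7_pow, map_one], ?_⟩
  have e : ((Matrix.SpecialLinearGroup.map g m7 : Matrix.SpecialLinearGroup (Fin 3) F) :
      Matrix (Fin 3) (Fin 3) F).charpoly = Polynomial.X ^ 3 - Polynomial.X - 1 := by
    have h1 : ((Matrix.SpecialLinearGroup.map g m7 : Matrix.SpecialLinearGroup (Fin 3) F) :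
      Matrix (Fin 3) (Fin 3) F).charpoly = (m7 : Matrix (Fin 3) (Fin 3) (ZMod 2)).charpoly.map g :=
      Matrix.charpoly_map _ _
    rw [h1, m7_charpoly]
    simp
  have hm := Matrix.charpoly_monic ((Matrix.SpecialLinearGroup.map g m7 : Matrix.SpecialLinearGroup (Fin 3) F) :
      Matrix (Fin 3) (Fin 3) F)
  have hd : ((Matrix.SpecialLinearGroup.map g m7 : Matrix.SpecialLinearGroup (Fin 3) F) :
      Matrix (Fin 3) (Fin 3) F).charpoly.natDegree = 3 := by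
    rw [Matrix.charpoly_natDegree_eq_dim, Fintype.card_fin]
  rw [Polynomial.Monic.irreducible_iff_roots_eq_zero_of_degree_le_three hm (by omega) (by omega)]
  by_contra hne
  obtain ⟨x, hx⟩ := Multiset.exists_mem_of_ne_zero hne
  have hx' := (mem_roots hm.ne_zero).1 hx
  rw [IsRoot.def, e] at hx'
  simp only [eval_sub, eval_pow, eval_X, eval_one] at hx'
  rcases h2 x with rfl | rfl
  · simp at hx'
  · simp at hx'

/-! ### The element -/

section

variable {K : Type u} [Field K] [Fintype K] (hK : Fintype.card K = 4) {φ : K →+* K} (hφ : ∀ t, φ t = t ^ 2)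

include hK in
theorem pow_qq (t : K) : (t ^ 2) ^ 2 = t := by
  rw [← pow_mul, show 2 * 2 = 4 from rfl, ← hK]
  exact FiniteField.pow_card t

include hK in
theorem two_zero : (2 : K) = 0 := by
  have h4 : ((4 : ℕ) : K) = 0 := by rw [← hK]; exact Nat.cast_card_eq_zero K
  have h5 : (2 : K) * 2 = 0 := by
    have : ((4 : ℕ) : K) = 2 * 2 := by norm_num
    rw [← this, h4]
  exact mul_self_eq_zero.1 h5

include hK hφ in
theorem card_fx : Nat.card (Fx φ 2) = 4 := by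
  have h5 : (Fx φ 2) = ⊤ := by
    rw [eq_top_iff]
    intro y _
    rw [mem_Fx]
    change φ (φ y) = y
    rw [hφ, hφ, pow_qq hK]
  rw [h5, ← hK, ← Nat.card_eq_fintype_card]
  exact Nat.card_congr Subfield.topEquiv.toEquiv

include hK hφ in
theorem card_units_fx : Nat.card (Fx φ 2)ˣ = 3 := by
  rw [Nat.card_units, card_fx hK hφ]

include hK hφ in
theorem unit_cube (v : (Fx φ 2)ˣ) : v ^ 3 = 1 := by
  rw [← card_units_fx hK hφ]
  exact pow_card_eq_one'

include hK hφ in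
theorem unit_cases {v w : (Fx φ 2)ˣ} (hv : v ≠ 1) (hw : w ≠ 1) : w = v ∨ w = v⁻¹ := by
  have : Fact (Nat.Prime 3) := ⟨Nat.prime_three⟩
  have h1 : w ∈ Subgroup.zpowers v := mem_zpowers_of_prime_card (card_units_fx hK hφ) hv
  obtain ⟨n, rfl⟩ := h1
  have h3 := unit_cube hK hφ v
  have h4 : (v ^ n : (Fx φ 2)ˣ) = v ^ (n % 3) := by
    conv_lhs => rw [← Int.emod_add_mul_ediv n 3]
    rw [zpow_add, zpow_mul]
    have : (v ^ (3 : ℤ)) = 1 := by exact_mod_cast h3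
    rw [this, one_zpow, mul_one]
  have h5 : n % 3 = 0 ∨ n % 3 = 1 ∨ n % 3 = 2 := by omega
  rcases h5 with h5 | h5 | h5
  · exfalso
    apply hw
    change v ^ n = 1
    rw [h4, h5, zpow_zero]
  · left
    change v ^ n = v
    rw [h4, h5, zpow_one]
  · right
    change v ^ n = v⁻¹
    rw [h4, h5]
    apply eq_inv_of_mul_eq_one_left
    rw [← h3]
    rw [show v ^ (2 : ℤ) = v ^ 2 from by norm_cast, ← pow_succ]

variable (hqq : ∀ t : K, (t ^ 2) ^ 2 = t)
  {P : Matrix.SpecialLinearGroup (Fin 3) K →* ↥(chevE6.group K)}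
  (hP : ∀ a b (hab : a ≠ b) c, P (Matrix.SpecialLinearGroup.transvection hab c) =
      xc RGDTwE6.hp (vec chevE6 6 (r6 a b)) (((1 : ℤ) : K) * c))
  {f : Matrix.SpecialLinearGroup (Fin 3) (Fx φ 1) →* ↥(twistedE6 K 2)}
  (hf : ∀ A, inc K 2 (f A) = P (Matrix.SpecialLinearGroup.map (Fx φ 1).subtype A))

/-- the scalar of the torus element -/
noncomputable def lu (v : (Fx φ 2)ˣ) : Kˣ := Units.map (Fx φ 2).subtype.toMonoidHom v

include hK hφ in
theorem inc_s (v : (Fx φ 2)ˣ) : inc K 2 (Q3 hφ hqq (dg v)) = s0 (lu v) := by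
  rw [inc_Q3, map_dg, map_dd, s0_eq]
  have h1 : φ (lu v : K) = (((lu v)⁻¹ : Kˣ) : K) := by
    rw [hφ, Units.val_inv_eq_inv_val]
    apply eq_inv_of_mul_eq_one_left
    have h2 := congrArg (fun x : (Fx φ 2)ˣ => ((x : Fx φ 2) : K)) (unit_cube hK hφ v)
    change (((v ^ 3 : (Fx φ 2)ˣ) : Fx φ 2) : K) = 1 at h2
    rw [← h2]
    change ((v : Fx φ 2) : K) ^ 2 * ((v : Fx φ 2) : K) = ((v ^ 3 : (Fx φ 2)ˣ) : Fx φ 2)
    push_cast
    ring
  congr 1
  congr 1
  apply Subtype.ext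
  change !![φ ((v : Fx φ 2) : K), 0; 0, (φ ((v : Fx φ 2) : K))⁻¹] =
    !![(((lu v)⁻¹ : Kˣ) : K), 0; 0, ((((lu v)⁻¹ : Kˣ) : K))⁻¹]
  rw [← h1]
  rfl

theorem lu_ne {v : (Fx φ 2)ˣ} (hv : v ≠ 1) : lu v ≠ 1 := by
  intro h
  apply hv
  have h2 := congrArg (fun x : Kˣ => (x : K)) h
  exact Units.ext (Subtype.ext h2)

include hK hφ in
theorem lu_sq {v : (Fx φ 2)ˣ} (hv : v ≠ 1) : lu v * lu v ≠ 1 := by
  intro h
  have h3 : lu v ^ 3 = 1 := by
    have h4 := congrArg (Units.map (Fx φ 2).subtype.toMonoidHom) (unit_cube hK hφ v)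
    rw [map_pow, map_one] at h4
    exact h4
  apply lu_ne hv
  rw [pow_succ, pow_two, h, one_mul] at h3
  exact h3

include hK in
theorem s_cube (v : (Fx φ 2)ˣ) : (Q3 hφ hqq (dg v)) ^ 3 = 1 := by
  have h15 := congrArg (dgHom (F := Fx φ 2)) (unit_cube hK hφ v)
  rw [map_pow, map_one] at h15
  rw [← map_pow]
  change Q3 hφ hqq ((dgHom (F := Fx φ 2) v) ^ 3) = 1
  rw [h15, map_one]

theorem s_ne {v : (Fx φ 2)ˣ} (hv : v ≠ 1) : Q3 hφ hqq (dg v) ≠ 1 := by
  intro h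
  apply hv
  have h2 : Q0 hφ hqq (dg 1) * Q1 hφ hqq (dg 1) * Q2 hφ hqq (dg 1) * Q3 hφ hqq (dg v) = 1 := by
    rw [h, Cfsg.Agent.OddHalf.NI.Mult.dg_one, Cfsg.Agent.OddHalf.NI.Mult.dg_one, map_one, map_one, map_one]
    simp
  obtain ⟨-, -, h3⟩ := ker_tor hφ hqq h2
  have h4 := congrArg (fun x => x⁻¹) h3
  simp only [inv_one, inv_inv] at h4
  exact h4.symm

include hP hf hqq hK in
/-- **The fusion.** -/
theorem fuse {v : (Fx φ 2)ˣ} (hv : v ≠ 1) {X : Matrix.SpecialLinearGroup (Fin 3) (Fx φ 1)} (hX : X ^ 7 = 1)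
    {L : Type v} [Group L] [Finite L] {π : L →* ↥(twistedE6 K 2)} (hπ : PCE π) (hk : Nat.card π.ker ∣ 12) {y : L}
    (hy : π y = Q3 hφ hqq (dg v) * f X) {ζ : L} (hζ : ζ ∈ π.ker) (h3 : ζ ^ 3 = 1) : ∃ k : L, k * y * k⁻¹ = y * ζ := by
  by_cases hζ1 : ζ = 1
  · exact ⟨1, by rw [hζ1]; group⟩
  have : Fact (Nat.Prime 3) := ⟨Nat.prime_three⟩
  have hsf : ∀ A, Q3 hφ hqq (dg v) * f A = f A * Q3 hφ hqq (dg v) :=
    Cfsg.Agent.H928.Ore.TwRow.s_comm hP hf (inc_s hK hφ hqq v)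
  obtain ⟨s, hs⟩ : ∃ s, s = Q3 hφ hqq (dg v) := ⟨_, rfl⟩
  have hs3 : s ^ 3 = 1 := by rw [hs]; exact s_cube hK hφ hqq v
  have hsf' : ∀ A, s * f A = f A * s := by rw [hs]; exact hsf
  have hfX7 : f X ^ 7 = 1 := by rw [← map_pow, hX, map_one]
  have hy21 : y ^ 21 ∈ π.ker := by
    rw [MonoidHom.mem_ker, map_pow, hy, ← hs, (show Commute s (f X) from hsf' X).mul_pow,
      show (21 : ℕ) = 3 * 7 from rfl, pow_mul s, hs3, one_pow, one_mul, mul_comm 3 7, pow_mul, hfX7, one_pow]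
  -- the quotient
  let N : Subgroup L :=
    { carrier := {z | z ∈ π.ker ∧ z ^ 4 = 1}
      one_mem' := ⟨one_mem _, one_pow _⟩
      mul_mem' := by
        rintro a b ⟨ha, ha4⟩ ⟨hb, hb4⟩
        refine ⟨mul_mem ha hb, ?_⟩
        have hab : Commute a b := (Subgroup.mem_center_iff.1 (hπ.cen hb) a)
        rw [hab.mul_pow, ha4, hb4, one_mul]
      inv_mem' := by
        rintro a ⟨ha, ha4⟩
        exact ⟨inv_mem ha, by rw [inv_pow, ha4, inv_one]⟩ }
  have hN : ∀ z, z ∈ N ↔ z ∈ π.ker ∧ z ^ 4 = 1 := fun z => Iff.rfl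
  have hNn : N.Normal := by
    refine ⟨fun z hz g => ?_⟩
    have h1 : g * z * g⁻¹ = z := by
      rw [Subgroup.mem_center_iff.1 (hπ.cen hz.1) g, mul_inv_cancel_right]
    rw [h1]
    exact hz
  have hNk : N ≤ π.ker := fun z hz => hz.1
  refine fuse_lift hπ.cen hk (N := N) hN hy21 h3 hζ ?_
  let πE : L ⧸ N →* ↥(twistedE6 K 2) := QuotientGroup.lift N π hNk
  have hπE : ∀ z : L, πE (z : L ⧸ N) = π z := fun z => rfl
  have hsur : Function.Surjective πE := fun g => by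
    obtain ⟨z, hz⟩ := hπ.surj g
    exact ⟨z, hz⟩
  have hcen : πE.ker ≤ Subgroup.center (L ⧸ N) := by
    intro z hz
    obtain ⟨z, rfl⟩ := QuotientGroup.mk_surjective z
    rw [Subgroup.mem_center_iff]
    intro g
    obtain ⟨g, rfl⟩ := QuotientGroup.mk_surjective g
    have hz' : z ∈ π.ker := hz
    change ((g * z : L) : L ⧸ N) = ((z * g : L) : L ⧸ N)
    rw [Subgroup.mem_center_iff.1 (hπ.cen hz') g]
  have hperf : commutator (L ⧸ N) = ⊤ := by
    have h1 : (commutator L).map (QuotientGroup.mk' N) = commutator (L ⧸ N) := by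
      rw [commutator_def, commutator_def, Subgroup.map_commutator, ← MonoidHom.range_eq_map,
        MonoidHom.range_eq_top.2 (QuotientGroup.mk'_surjective N)]
    rw [← h1, hπ.perf, ← MonoidHom.range_eq_map, MonoidHom.range_eq_top.2 (QuotientGroup.mk'_surjective N)]
  have hexp : ∀ z ∈ πE.ker, z ^ 3 = 1 := by
    intro z hz
    obtain ⟨z, rfl⟩ := QuotientGroup.mk_surjective z
    have hz' : z ∈ π.ker := hz
    have h12 : z ^ 12 = 1 := by
      have h1 : (⟨z, hz'⟩ : π.ker) ^ Nat.card π.ker = 1 := pow_card_eq_one'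
      have h2 := congrArg Subtype.val h1
      rw [SubgroupClass.coe_pow] at h2
      obtain ⟨k, hk⟩ := hk
      rw [hk, pow_mul, show z ^ Nat.card π.ker = 1 from h2, one_pow]
    have h1 : z ^ 3 ∈ N := ⟨pow_mem hz' 3, by rw [← pow_mul]; exact h12⟩
    exact (QuotientGroup.eq_one_iff (z ^ 3)).2 h1
  have hcard : Nat.card πE.ker = 3 := by
    have hG : IsPGroup 3 πE.ker := fun z => ⟨1, Subtype.ext (by
      rw [pow_one]
      exact hexp z.1 z.2)⟩
    obtain ⟨m, hm⟩ := IsPGroup.iff_card.1 hG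
    have hdvd : Nat.card πE.ker ∣ 12 := by
      have h1 : πE.ker = π.ker.map (QuotientGroup.mk' N) := by
        ext z
        constructor
        · intro hz
          obtain ⟨z, rfl⟩ := QuotientGroup.mk_surjective z
          exact ⟨z, hz, rfl⟩
        · rintro ⟨z, hz, rfl⟩
          exact hz
      rw [h1]
      have h2 : Nat.card (π.ker.map (QuotientGroup.mk' N)) ∣ Nat.card π.ker :=
        Subgroup.card_dvd_of_surjective ((QuotientGroup.mk' N).subgroupMap π.ker)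
          ((QuotientGroup.mk' N).subgroupMap_surjective π.ker)
      exact h2.trans hk
    have hne : Nat.card πE.ker ≠ 1 := by
      intro h1
      have h2 := Subgroup.card_eq_one.1 h1
      have h4 : (ζ : L ⧸ N) ∈ πE.ker := hζ
      rw [h2, Subgroup.mem_bot] at h4
      have h5 := (QuotientGroup.eq_one_iff ζ).1 h4
      apply hζ1
      have h6 : ζ ^ 4 = ζ ^ 3 * ζ := pow_succ _ _
      rw [h5.2, h3, one_mul] at h6
      exact h6.symm
    rw [hm] at hdvd hne ⊢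
    have hm0 : m ≠ 0 := fun h => hne (by rw [h, pow_zero])
    have hm2 : m < 2 := by
      by_contra hcon
      have h1 : 3 ^ 2 ∣ 3 ^ m := pow_dvd_pow 3 (by omega)
      have h2 := h1.trans hdvd
      norm_num at h2
    have : m = 1 := by omega
    rw [this, pow_one]
  obtain ⟨p, hpc⟩ := CharP.exists K
  have : Fact p.Prime := ⟨(CharP.char_is_prime_or_zero K p).resolve_right (CharP.char_ne_zero_of_finite K p)⟩
  have R := RGDTwE6.rgd CoxeterMatrix.F₄.toCoxeterSystem hφ hqq p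
  obtain ⟨n, hn, ζ₀, hζ₀, hζ₀1, w, hw, b, hb, hnb⟩ := exists_fuse hK hφ hqq hsur hcen hcard hperf R
  have hnf := comm_f hφ hqq hP hf CoxeterMatrix.F₄.toCoxeterSystem R hn
  have hζ₀c : ∀ x, x * ζ₀ = ζ₀ * x := Subgroup.mem_center_iff.1 (hcen hζ₀)
  -- the lift of `f X`
  have key : ∀ c : L ⧸ N, πE c = f X → n * c * n⁻¹ = c := by
    intro c hcX
    have h1 : πE (c⁻¹ * (n * c * n⁻¹)) = 1 := by
      rw [map_mul, map_mul, map_mul, map_inv, map_inv, hcX, hnf X, inv_mul_cancel]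
    have h2 : c⁻¹ * (n * c * n⁻¹) ∈ πE.ker := h1
    have h4 := comm_seven (n := n) (c := c) (Subgroup.mem_center_iff.1 (hcen h2)) (hexp _ h2)
      (Subgroup.mem_center_iff.1 (hcen (show c ^ 7 ∈ πE.ker by rw [MonoidHom.mem_ker, map_pow, hcX, hfX7])))
      (by group)
    calc n * c * n⁻¹ = c * (c⁻¹ * (n * c * n⁻¹)) := by group
      _ = c := by rw [h4, mul_one]
  obtain ⟨y', hy'⟩ : ∃ y' : L ⧸ N, y' = (y : L ⧸ N) := ⟨_, rfl⟩
  have hπy : πE y' = s * f X := by rw [hy', hπE, hy, hs]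
  have hmain : ∃ ζ' ∈ πE.ker, ζ' ≠ 1 ∧ n * y' * n⁻¹ = y' * ζ' := by
    rcases unit_cases hK hφ hv hw with h5 | h5
    · refine ⟨ζ₀, hζ₀, hζ₀1, ?_⟩
      have hbs : πE b = s := by rw [hb, h5, hs]
      have h6 := key (b⁻¹ * y') (by rw [map_mul, map_inv, hbs, hπy]; group)
      calc n * y' * n⁻¹ = (n * b * n⁻¹) * (n * (b⁻¹ * y') * n⁻¹) := by group
        _ = b * (ζ₀ * (b⁻¹ * y')) := by rw [h6, hnb]; group
        _ = b * ((b⁻¹ * y') * ζ₀) := by rw [hζ₀c]
        _ = _ := by group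
    · refine ⟨ζ₀⁻¹, inv_mem hζ₀, inv_ne_one.2 hζ₀1, ?_⟩
      have hbs : πE b = s⁻¹ := by
        rw [hb, h5, hs, Cfsg.Agent.OddHalf.NI.Mult.dg_inv, map_inv]
      have h6 := key (b * y') (by rw [map_mul, hbs, hπy]; group)
      have h7 : n * b⁻¹ * n⁻¹ = (b * ζ₀)⁻¹ := by rw [← hnb]; group
      calc n * y' * n⁻¹ = (n * b⁻¹ * n⁻¹) * (n * (b * y') * n⁻¹) := by group
        _ = ζ₀⁻¹ * y' := by rw [h6, h7]; group
        _ = ζ₀⁻¹ * (y' * ζ₀) * ζ₀⁻¹ := by group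
        _ = _ := by rw [hζ₀c]; group
  obtain ⟨ζ', hζ', hζ'1, hk'⟩ := hmain
  have hζ'c : ∀ x, x * ζ' = ζ' * x := Subgroup.mem_center_iff.1 (hcen hζ')
  have h8 : (⟨(ζ : L ⧸ N), hζ⟩ : πE.ker) ∈ Subgroup.zpowers (⟨ζ', hζ'⟩ : πE.ker) :=
    mem_zpowers_of_prime_card hcard (fun h => hζ'1 (congrArg Subtype.val h))
  obtain ⟨m, hm⟩ := h8
  have hm' : ζ' ^ m = (ζ : L ⧸ N) := congrArg Subtype.val hm
  refine ⟨n ^ m, ?_⟩
  rw [← hy', ← hm']
  -- powers
  have hpow : ∀ m : ℤ, n ^ m * y' * (n ^ m)⁻¹ = y' * ζ' ^ m := by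
    have hnn : ∀ k : ℕ, n ^ k * y' * (n ^ k)⁻¹ = y' * ζ' ^ k := by
      intro k
      induction k with
      | zero => simp
      | succ k ih =>
        calc n ^ (k + 1) * y' * (n ^ (k + 1))⁻¹ = n * (n ^ k * y' * (n ^ k)⁻¹) * n⁻¹ := by rw [pow_succ']; group
          _ = (n * y' * n⁻¹) * (n * ζ' ^ k * n⁻¹) := by rw [ih]; group
          _ = y' * ζ' * ζ' ^ k := by
            rw [hk', (show Commute n (ζ' ^ k) from (show Commute n ζ' from hζ'c n).pow_right k).eq, mul_inv_cancel_right]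
          _ = _ := by rw [mul_assoc, ← pow_succ']
    intro m
    obtain ⟨k, rfl | rfl⟩ := Int.eq_nat_or_neg m
    · rw [zpow_natCast, zpow_natCast]
      exact hnn k
    · rw [zpow_neg, zpow_neg, zpow_natCast, zpow_natCast, inv_inv]
      have h9 := hnn k
      have h10 : Commute (n ^ k) (ζ' ^ k) := (show Commute n ζ' from hζ'c n).pow_pow k k
      have h11 : n ^ k * y' = y' * ζ' ^ k * n ^ k := by rw [← h9]; group
      have h12 : n ^ k * (y' * (ζ' ^ k)⁻¹) = y' * n ^ k := by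
        calc n ^ k * (y' * (ζ' ^ k)⁻¹) = (n ^ k * y') * (ζ' ^ k)⁻¹ := by group
          _ = y' * (ζ' ^ k * n ^ k) * (ζ' ^ k)⁻¹ := by rw [h11]; group
          _ = y' * n ^ k := by rw [← h10.eq]; group
      calc (n ^ k)⁻¹ * y' * n ^ k = (n ^ k)⁻¹ * (y' * n ^ k) := by group
        _ = _ := by rw [← h12]; group
  exact hpow m

end

section

variable {K : Type u} [Field K] [Fintype K] (hK : Fintype.card K = 4) {φ : K →+* K} (hφ : ∀ t, φ t = t ^ 2)
  (hqq : ∀ t : K, (t ^ 2) ^ 2 = t)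
  {P : Matrix.SpecialLinearGroup (Fin 3) K →* ↥(chevE6.group K)}
  (hP : ∀ a b (hab : a ≠ b) c, P (Matrix.SpecialLinearGroup.transvection hab c) =
      xc RGDTwE6.hp (vec chevE6 6 (r6 a b)) (((1 : ℤ) : K) * c))
  {f : Matrix.SpecialLinearGroup (Fin 3) (Fx φ 1) →* ↥(twistedE6 K 2)}
  (hf : ∀ A, inc K 2 (f A) = P (Matrix.SpecialLinearGroup.map (Fx φ 1).subtype A))
  {v : (Fx φ 2)ˣ} (hv : v ≠ 1) {X : Matrix.SpecialLinearGroup (Fin 3) (Fx φ 1)} (hX : X ^ 7 = 1)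
  (hXi : Irreducible (X : Matrix (Fin 3) (Fin 3) (Fx φ 1)).charpoly)

include hK hφ hqq hP hf hv hXi in
/-- the block element is not trivial -/
theorem f_ne : f X ≠ 1 := by
  intro h1
  obtain ⟨p, hpc⟩ := CharP.exists K
  have : Fact p.Prime := ⟨(CharP.char_is_prime_or_zero K p).resolve_right (CharP.char_ne_zero_of_finite K p)⟩
  have R := RGDTwE6.rgd CoxeterMatrix.F₄.toCoxeterSystem hφ hqq p
  have : Finite CoxeterMatrix.F₄.Group := Cfsg.Agent.Nodes.RGDFold.finite_W (hp := RGDTwE6.hp)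
    CoxeterMatrix.F₄.toCoxeterSystem RGDTwE6.isCartan RGDTwE6.foldData
  have C := Cfsg.Agent.H958.TS.TwCommon.coordP hφ hqq
  obtain ⟨h2, -⟩ := Cfsg.Agent.H928.Ore.TwRow.s_nf hφ hqq hP hf (lu_ne hv) (lu_sq hK hφ hv) (inc_s hK hφ hqq v)
    CoxeterMatrix.F₄.toCoxeterSystem hXi
  rw [h1, mul_one] at h2
  obtain ⟨s, hs⟩ : ∃ s, s = Q3 hφ hqq (dg v) := ⟨_, rfl⟩
  have hsT : s ∈ T K 2 := by rw [hs]; exact Cfsg.Agent.OddHalf.NI.Mult.dg_mem_T R C 3 v
  rw [← hs] at h2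
  have hr : IsRoot CoxeterMatrix.F₄.toCoxeterSystem RGDTwE6.isCartan (sr 1 : Fin 4 → ℤ) := isRoot_sr _ _ 1
  obtain ⟨m, hm⟩ : ∃ m, m = RGDTwE6.nn hφ (2 : Fin 4) := ⟨_, rfl⟩
  have hmr : Rp CoxeterMatrix.F₄.toCoxeterSystem R.nsys (CoxeterMatrix.F₄.toCoxeterSystem.simple 2) m := by
    rw [hm]; exact rp_simple _ R.nsys 2
  obtain ⟨u, hu⟩ : ∃ u, u = Cfsg.Agent.H958.TS.TwCommon.P hφ hqq 1 (up 1) := ⟨_, rfl⟩
  have hu1 : u ≠ 1 := by
    intro h3
    have h4 : Cfsg.Agent.H958.TS.TwCommon.P hφ hqq 1 (up 1) = Cfsg.Agent.H958.TS.TwCommon.P hφ hqq 1 (up 0) := by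
      rw [← hu, h3, Cfsg.Agent.OddHalf.NI.Mult.up_zero, map_one]
    exact one_ne_zero (Cfsg.Agent.H958.TS.TwCommon.P_up_inj hφ hqq 1 h4)
  have huX : u ∈ RGDTwE6.X φ 2 (sr 1) := by rw [hu]; exact C.mem_up 1 1
  have h3 := R.conj_mem hmr hr huX
  have hz : rep CoxeterMatrix.F₄.toCoxeterSystem RGDTwE6.isCartan (CoxeterMatrix.F₄.toCoxeterSystem.simple 2)
      (sr 1 : Fin 4 → ℤ) = ![0, 1, 2, 0] := by
    rw [rep_simple]
    have : CoxeterGeom.refl RGDTwE6.A 2 (sr 1 : Fin 4 → ℤ) = ![0, 1, 2, 0] := by decide +kernel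
    exact this
  have h4 : m * u * m⁻¹ ∈ VJ CoxeterMatrix.F₄.toCoxeterSystem RGDTwE6.isCartan (RGDTwE6.X φ 2) JR := by
    refine RGD.le_Sup (S := NotJ CoxeterMatrix.F₄.toCoxeterSystem RGDTwE6.isCartan JR)
      ⟨hr.act (CoxeterMatrix.F₄.toCoxeterSystem.simple 2), ?_, 2, ?_, ?_⟩ h3
    · rw [hz]; intro k; fin_cases k <;> decide
    · rintro (h | h) <;> exact absurd h (by decide)
    · rw [hz]; decide
  have hmT : m⁻¹ * s * m ∈ T K 2 := by
    have h5 := (Subgroup.mem_normalizer_iff.1 (inv_mem hmr.mem_normalizer) s).1 hsT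
    rwa [inv_inv] at h5
  have h5 := tor_two R C (i := 1) (fx_two hφ) hmT (up 1)
  rw [← hu] at h5
  have h6 : s * (m * u * m⁻¹) * s⁻¹ = m * u * m⁻¹ := by
    calc s * (m * u * m⁻¹) * s⁻¹ = m * ((m⁻¹ * s * m) * u * (m⁻¹ * s * m)⁻¹) * m⁻¹ := by group
      _ = _ := by rw [h5]
  have h7 := h2 _ h4 h6
  apply hu1
  calc u = m⁻¹ * (m * u * m⁻¹) * m := by group
    _ = 1 := by rw [h7]; group

include hK hφ hqq hP hf hv hX hXi in
theorem order_x : orderOf (Q3 hφ hqq (dg v) * f X) = 21 := by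
  have hsf : ∀ A, Q3 hφ hqq (dg v) * f A = f A * Q3 hφ hqq (dg v) :=
    Cfsg.Agent.H928.Ore.TwRow.s_comm hP hf (inc_s hK hφ hqq v)
  have hf1 := f_ne hK hφ hqq hP hf hv hXi
  have hs1 := s_ne hφ hqq hv
  have hs3 := s_cube hK hφ hqq v
  have hf7 : f X ^ 7 = 1 := by rw [← map_pow, hX, map_one]
  have o3 : orderOf (Q3 hφ hqq (dg v)) = 3 := by
    have : Fact (Nat.Prime 3) := ⟨Nat.prime_three⟩
    exact orderOf_eq_prime hs3 hs1
  have o7 : orderOf (f X) = 7 := by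
    have : Fact (Nat.Prime 7) := ⟨by norm_num⟩
    exact orderOf_eq_prime hf7 hf1
  have h1 := (show Commute (Q3 hφ hqq (dg v)) (f X) from hsf X).orderOf_mul_eq_mul_orderOf_of_coprime (by
    rw [o3, o7]; decide)
  rw [h1, o3, o7]

end

/-- **The element of order `21`.** -/
theorem exists_x21 {F : Type u} [Field F] [Fintype F] (hF : Fintype.card F = 4) {φ : F →+* F} (hφ : ∀ t, φ t = t ^ 2) :
    ∃ x : H231.QF.KK F, x ∈ H231.QF.Lv φ H231.QF.j4 ∧ orderOf x = 21 ∧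
      (∀ v ∈ H231.QF.V φ H231.QF.j4, x * v * x⁻¹ = v → v = 1) ∧
      (∀ v ∈ VNJ H231.QF.cs RGDTwE6.isCartan (H231.QF.X φ) H231.QF.j4, x * v * x⁻¹ = v → v = 1) ∧
      (∃ t, t * t = 1 ∧ t * x * t⁻¹ = x⁻¹) ∧
      ∀ (L : Type v) [Group L] [Finite L] (π : L →* H231.QF.KK F), PCE π → Nat.card π.ker ∣ 12 → ∀ y : L, π y = x →
        ∀ ζ ∈ π.ker, ζ ^ 3 = 1 → ∃ k : L, k * y * k⁻¹ = y * ζ := by
  have hqq : ∀ t : F, (t ^ 2) ^ 2 = t := pow_qq hF
  obtain ⟨P, hP⟩ := exists_hom_D RGDTwE6.hp (K := F) (ε := 1) (by norm_num) rt6.1 rt6.2.1 rt6.2.2.1 rt6.2.2.2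
  obtain ⟨f, hf⟩ := exists_f hφ hqq hP
  obtain ⟨v, hv⟩ : ∃ v : (Fx φ 2)ˣ, v ≠ 1 := by
    have h1 := card_units_fx hF hφ
    have : Nontrivial (Fx φ 2)ˣ := by
      have : Finite (Fx φ 2)ˣ := Nat.finite_of_card_ne_zero (by rw [h1]; decide)
      rw [← Finite.one_lt_card_iff_nontrivial, h1]
      decide
    exact exists_ne 1
  obtain ⟨X, hX, hXi⟩ := exists_seven (F := Fx φ 1) (fx_two hφ) (Subtype.ext (two_zero hF))
  obtain ⟨p, hpc⟩ := CharP.exists F
  have : Fact p.Prime := ⟨(CharP.char_is_prime_or_zero F p).resolve_right (CharP.char_ne_zero_of_finite F p)⟩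
  have R := RGDTwE6.rgd CoxeterMatrix.F₄.toCoxeterSystem hφ hqq p
  have : Finite CoxeterMatrix.F₄.Group := Cfsg.Agent.Nodes.RGDFold.finite_W (hp := RGDTwE6.hp)
    CoxeterMatrix.F₄.toCoxeterSystem RGDTwE6.isCartan RGDTwE6.foldData
  have C := Cfsg.Agent.H958.TS.TwCommon.coordP hφ hqq
  have hsT : Q3 hφ hqq (dg v) ∈ T F 2 := Cfsg.Agent.OddHalf.NI.Mult.dg_mem_T R C 3 v
  have hZ := Cfsg.Agent.Nodes.ChevChart.center_eq_bot (Cfsg.Agent.S1054.result (F := F) chevE6 (by simp))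
  have hJ : JR ⊆ H231.QF.j4 := by
    rintro k (rfl | rfl)
    · exact (by decide : (0 : Fin 4) ≠ 3)
    · exact (by decide : (1 : Fin 4) ≠ 3)
  obtain ⟨n1, n2⟩ := Cfsg.Agent.H928.Ore.TwRow.s_nf hφ hqq hP hf (lu_ne hv) (lu_sq hF hφ hv) (inc_s hF hφ hqq v)
    CoxeterMatrix.F₄.toCoxeterSystem hXi
  obtain ⟨hreal, -⟩ := Cfsg.Agent.H928.Ore.TwRow.s_real hφ hqq hP hf (inc_s hF hφ hqq v) hZ hXi
  have hVJ : H231.QF.V φ H231.QF.j4 ≤ VJ CoxeterMatrix.F₄.toCoxeterSystem RGDTwE6.isCartan (RGDTwE6.X φ 2) JR :=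
    RGD.Sup_mono fun _ hx => ⟨hx.1, hx.2.1, hx.2.2.imp fun _ hk => ⟨fun h => hk.1 (hJ h), hk.2⟩⟩
  have hVNJ : VNJ H231.QF.cs RGDTwE6.isCartan (H231.QF.X φ) H231.QF.j4 ≤
      VNJ CoxeterMatrix.F₄.toCoxeterSystem RGDTwE6.isCartan (RGDTwE6.X φ 2) JR :=
    RGD.Sup_mono fun x hx => show -x ∈ NotJ _ _ JR from
      ⟨hx.1, hx.2.1, hx.2.2.imp fun _ hk => ⟨fun h => hk.1 (hJ h), hk.2⟩⟩
  refine ⟨Q3 hφ hqq (dg v) * f X, mul_mem (T_le_LJ hsT) (LJ_mono hJ (f_LJ hφ hqq hP hf _ X)),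
    order_x hF hφ hqq hP hf hv hX hXi, fun w hw => n1 w (hVJ hw), fun w hw => n2 w (hVNJ hw), hreal, ?_⟩
  intro L _ _ π hπ hk y hy ζ hζ h3
  exact fuse hF hφ hqq hP hf hv hX hπ hk hy hζ h3

end Cfsg.Agent.H584.F4.X21
end

-- part: H590/F4/P4Parts
section
/-!
# P4 from its parts (helper590, row F4 of S2491)

`kf_of` : the `K`-side facts `KF` from irreducibility (`irr`), the class cover (`cover`) and the rank lists (`rank`);
`p4_parts` : all elements over `P₄ ∖ V₄` are commutators, given in addition the complement `D` and the pairs `BF`.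
-/

set_option autoImplicit false

namespace Cfsg.Agent.H590.F4

open Cfsg.Lie Subgroup
open Cfsg.Agent.H51.Mult (PCE)
open Cfsg.Agent.H777.Ore (IsC)
open Cfsg.Agent.H231.QF

universe u v

section

variable {F : Type u} [Field F] [Fintype F] (hF : Fintype.card F = 4) {φ : F →+* F} (hφ : ∀ t, φ t = t ^ 2)

include hF hφ

/-- fixed point free on `V₄` implies fixed point free on `V₄/V2` -/
theorem ff_layer {x : KK F} (hxP : x ∈ P φ j4) (hx : ∀ v ∈ V φ j4, x * v * x⁻¹ = v → v = 1) :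
    ∀ u ∈ V φ j4, x * u * x⁻¹ * u⁻¹ ∈ V2 φ → u ∈ V2 φ := by
  obtain ⟨hle, hnorm, hcen, hcom, -⟩ := Lay.layer hF hφ
  have : Finite (KK F) := inferInstance
  intro u hu hc
  let f : V2 φ → V2 φ := fun d => ⟨x * d * x⁻¹ * (d : KK F)⁻¹, mul_mem (hnorm x hxP d d.2) (inv_mem d.2)⟩
  have hf : Function.Injective f := by
    intro a b hab
    have e1 : x * (a : KK F) * x⁻¹ * (a : KK F)⁻¹ = x * (b : KK F) * x⁻¹ * (b : KK F)⁻¹ := congrArg Subtype.val hab
    have hab' : (a : KK F) * b = b * a := hcen _ (hle a.2) _ b.2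
    have e2 : x * ((b : KK F)⁻¹ * a) * x⁻¹ = (b : KK F)⁻¹ * a := by
      have e3 : x * (a : KK F) * x⁻¹ = x * (b : KK F) * x⁻¹ * (b : KK F)⁻¹ * a := by
        rw [← e1]; group
      calc x * ((b : KK F)⁻¹ * a) * x⁻¹ = (x * b * x⁻¹)⁻¹ * (x * a * x⁻¹) := by group
        _ = (x * b * x⁻¹)⁻¹ * (x * (b : KK F) * x⁻¹ * (b : KK F)⁻¹ * a) := by rw [e3]
        _ = _ := by group
    have e4 := hx _ (hle (mul_mem (inv_mem b.2) a.2)) e2
    exact (Subtype.ext (inv_mul_eq_one.1 e4)).symm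
  obtain ⟨d, hd⟩ := Finite.surjective_of_injective hf ⟨(x * u * x⁻¹ * u⁻¹)⁻¹, inv_mem hc⟩
  have hd' : x * (d : KK F) * x⁻¹ * (d : KK F)⁻¹ = (x * u * x⁻¹ * u⁻¹)⁻¹ := congrArg Subtype.val hd
  have e1 : x * (u * d) * x⁻¹ = u * d := by
    have e2 : x * (d : KK F) * x⁻¹ = (x * u * x⁻¹ * u⁻¹)⁻¹ * d := by rw [← hd']; group
    have e3 : u * (x * u * x⁻¹ * u⁻¹)⁻¹ = (x * u * x⁻¹ * u⁻¹)⁻¹ * u := hcen u hu _ (inv_mem hc)
    calc x * (u * d) * x⁻¹ = (x * u * x⁻¹ * u⁻¹) * u * (x * d * x⁻¹) := by group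
      _ = (x * u * x⁻¹ * u⁻¹) * (u * (x * u * x⁻¹ * u⁻¹)⁻¹) * d := by rw [e2]; group
      _ = u * d := by rw [e3]; group
  have e2 := hx _ (mul_mem hu (hle d.2)) e1
  have e3 : u = (d : KK F)⁻¹ := eq_inv_of_mul_eq_one_left e2
  rw [e3]
  exact inv_mem d.2

theorem kf_of {x : KK F} (hxL : x ∈ Lv φ j4) (hx : ∀ v ∈ V φ j4, x * v * x⁻¹ = v → v = 1)
    (irr : ∀ M : Subgroup (KK F), V2 φ ≤ M → M ≤ V φ j4 → (∀ g ∈ P φ j4, ∀ m ∈ M, g * m * g⁻¹ ∈ M) →
      M = V2 φ ∨ M = V φ j4)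
    (cover : ∀ l ∈ Lv φ j4, l ≠ 1 → ∃ a ∈ Lv φ j4, ∃ b ∈ Lv φ j4, l = a * x * a⁻¹ * (b * x⁻¹ * b⁻¹))
    (rank : ∀ l ∈ Lv φ j4, l ≠ 1 → ∃ L : List (KK F), L.length ≤ 5 ∧
      (∀ t ∈ L, ∃ k ∈ Lv φ j4, t = k * l * k⁻¹ ∨ t = k * l⁻¹ * k⁻¹) ∧
      ∃ k ∈ Lv φ j4, L.prod = k * x * k⁻¹) : KF φ x := by
  obtain ⟨hle, hnorm, hcen, hcom, hidx⟩ := Lay.layer hF hφ
  have hV := (Lay.pdec hF hφ).1
  refine ⟨hle, hnorm, hcen, hcom, hidx, irr, hxL, ff_layer hF hφ (Lv_le hxL) hx, ?_, cover, ?_⟩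
  · intro d hd h
    refine hx d (hle hd) ?_
    rw [h]; group
  · intro l hl hl1
    obtain ⟨L, h1, h2, k, hk, e⟩ := rank l hl hl1
    refine ⟨L, h1, h2, ff_layer hF hφ ?_ ?_⟩
    · rw [e]
      exact mul_mem (mul_mem (Lv_le hk) (Lv_le hxL)) (inv_mem (Lv_le hk))
    · intro v hv h
      rw [e] at h
      have h3 := hx (k⁻¹ * v * k) (by simpa using hV k⁻¹ (inv_mem (Lv_le hk)) v hv) (by
        calc x * (k⁻¹ * v * k) * x⁻¹ = k⁻¹ * (k * x * k⁻¹ * v * (k * x * k⁻¹)⁻¹) * k := by group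
          _ = _ := by rw [h])
      calc v = k * (k⁻¹ * v * k) * k⁻¹ := by group
        _ = 1 := by rw [h3]; group

/-- **P4 from its parts** -/
theorem p4_parts
    (irr : ∀ M : Subgroup (KK F), V2 φ ≤ M → M ≤ V φ j4 → (∀ g ∈ P φ j4, ∀ m ∈ M, g * m * g⁻¹ ∈ M) →
      M = V2 φ ∨ M = V φ j4)
    (cover : ∀ x ∈ Lv φ j4, orderOf x = 21 → ∀ l ∈ Lv φ j4, l ≠ 1 →
      ∃ a ∈ Lv φ j4, ∃ b ∈ Lv φ j4, l = a * x * a⁻¹ * (b * x⁻¹ * b⁻¹))
    (rank : ∀ x ∈ Lv φ j4, orderOf x = 21 → ∀ l ∈ Lv φ j4, l ≠ 1 → ∃ L : List (KK F), L.length ≤ 5 ∧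
      (∀ t ∈ L, ∃ k ∈ Lv φ j4, t = k * l * k⁻¹ ∨ t = k * l⁻¹ * k⁻¹) ∧
      ∃ k ∈ Lv φ j4, L.prod = k * x * k⁻¹)
    (hDB : ∀ {L' : Type v} [Group L'] [Finite L'] {ρ : L' →* KK F}, PCE ρ → Nat.card ρ.ker = 4 →
      ∃ D, DF φ ρ D ∧ BF φ ρ D)
    {L : Type v} [Group L] [Finite L] {π : L →* KK F} (hπ : PCE π) (hk : Nat.card π.ker = 12) (g : L)
    (h : π g ∈ P φ j4) (h1 : π g ∉ V φ j4) : IsC g := by
  obtain ⟨x, hxL, hx21, hxV, -, -, hx3⟩ := Cfsg.Agent.H584.F4.X21.exists_x21.{u, v} hF hφ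
  have hK := kf_of hF hφ hxL hxV irr (cover x hxL hx21) (rank x hxL hx21)
  refine p4_of (Lay.pdec hF hφ).1 (Lay.pdec hF hφ).2 hπ hk hK hDB ?_ g h h1
  intro y ζ hy hζ h3
  exact hx3 L π hπ (by rw [hk]) y hy ζ hζ h3

end

end Cfsg.Agent.H590.F4
end

-- part: H374/QF/Irr
section
/-!
# Row `²E₆(2)` of `QS`, parabolic `P₄ = 2^(8+16):Ω₈⁻(2)`: the chief factor `V₄/V2 = 2^16` is irreducible (helper374)

`R` a root group datum of type `F₄` (nodes `0, 1` long), `J = {0, 1, 2}`, `V = VJ`, `V2` the layer of the roots with coordinate 2 at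
the node 3.  `irr` : a subgroup `V2 ≤ M ≤ V` normalised by `PJ` is `V2` or `V`.
-/

set_option autoImplicit false
set_option linter.unusedSectionVars false

namespace Cfsg.Agent.H374.QF.Irr

open CoxeterSystem Cfsg.Agent.ChevalleyStructure.CoxeterGeom Cfsg.Agent.Tits.Roots Cfsg.Agent.Tits.Core
  Cfsg.Agent.Tits.RootComb Cfsg.Agent.Nodes.Reps Cfsg.Agent.Nodes.BNOf Cfsg.Agent.Nodes.Coroot
  Cfsg.Agent.Nodes.StabComb Cfsg.Agent.Nodes.Bruhat Cfsg.Agent.Nodes.OppDec Cfsg.Agent.Nodes.LeviDec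
  Cfsg.Agent.KFacts.RgdSL Cfsg.Agent.KFacts.RgdTI Cfsg.Agent.Nodes.RGDTwE6 Cfsg.Agent.KFacts.TwESix.Comb Cfsg.Agent.KFacts.TwESix.Btw
  Cfsg.Agent.H326.QS.VP
open scoped commutatorElement

section abstract

variable {Y : Type*} [Group Y] {V V2 : Subgroup Y}

/-- the elements commuting with `b` modulo `V2` -/
def commS (hn : ∀ a ∈ V, ∀ d ∈ V2, a * d * a⁻¹ ∈ V2) (b : Y) : Subgroup Y where
  carrier := {a | a ∈ V ∧ a * b * a⁻¹ * b⁻¹ ∈ V2}
  one_mem' := ⟨one_mem _, by simp⟩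
  mul_mem' := by
    rintro a a' ⟨ha, h1⟩ ⟨ha', h2⟩
    refine ⟨mul_mem ha ha', ?_⟩
    have e : a * a' * b * (a * a')⁻¹ * b⁻¹ = (a * (a' * b * a'⁻¹ * b⁻¹) * a⁻¹) * (a * b * a⁻¹ * b⁻¹) := by group
    rw [e]
    exact mul_mem (hn a ha _ h2) h1
  inv_mem' := by
    rintro a ⟨ha, h1⟩
    refine ⟨inv_mem ha, ?_⟩
    have e : a⁻¹ * b * a⁻¹⁻¹ * b⁻¹ = a⁻¹ * (a * b * a⁻¹ * b⁻¹)⁻¹ * a⁻¹⁻¹ := by group
    rw [e]
    exact hn _ (inv_mem ha) _ (inv_mem h1)

/-- the elements `v` with `[u, v] ≡ m v m⁻¹` modulo `V2` -/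
def congrS (hc : ∀ a ∈ V, ∀ b ∈ V, a * b * a⁻¹ * b⁻¹ ∈ V2) (hn : ∀ a ∈ V, ∀ d ∈ V2, a * d * a⁻¹ ∈ V2) (u m : Y)
    (hu : ∀ v ∈ V, u * v * u⁻¹ ∈ V) (hm : ∀ v ∈ V, m * v * m⁻¹ ∈ V) : Subgroup Y where
  carrier := {v | v ∈ V ∧ (u * v * u⁻¹ * v⁻¹) * (m * v * m⁻¹)⁻¹ ∈ V2}
  one_mem' := ⟨one_mem _, by simp⟩
  mul_mem' := by
    rintro v w ⟨hv, h1⟩ ⟨hw, h2⟩
    refine ⟨mul_mem hv hw, ?_⟩
    have ha : u * v * u⁻¹ ∈ V := hu v hv
    have hcw : u * w * u⁻¹ * w⁻¹ ∈ V := mul_mem (hu w hw) (inv_mem hw)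
    have e : (u * (v * w) * u⁻¹ * (v * w)⁻¹) * (m * (v * w) * m⁻¹)⁻¹ =
        ((u * v * u⁻¹) * ((u * w * u⁻¹ * w⁻¹) * v⁻¹ * (u * w * u⁻¹ * w⁻¹)⁻¹ * (v⁻¹)⁻¹) * (u * v * u⁻¹)⁻¹) *
        ((u * v * u⁻¹ * v⁻¹) * ((u * w * u⁻¹ * w⁻¹) * (m * w * m⁻¹)⁻¹) * (u * v * u⁻¹ * v⁻¹)⁻¹) *
        ((u * v * u⁻¹ * v⁻¹) * (m * v * m⁻¹)⁻¹) := by group
    rw [e]
    exact mul_mem (mul_mem (hn _ ha _ (hc _ hcw _ (inv_mem hv))) (hn _ (mul_mem ha (inv_mem hv)) _ h2)) h1
  inv_mem' := by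
    rintro v ⟨hv, h1⟩
    refine ⟨inv_mem hv, ?_⟩
    have ha : u * v * u⁻¹ ∈ V := hu v hv
    have e : (u * v⁻¹ * u⁻¹ * v⁻¹⁻¹) * (m * v⁻¹ * m⁻¹)⁻¹ =
        ((u * v * u⁻¹)⁻¹ * v * (u * v * u⁻¹)⁻¹⁻¹ * v⁻¹) *
        ((v * (u * v * u⁻¹)⁻¹) * ((u * v * u⁻¹ * v⁻¹) * (m * v * m⁻¹)⁻¹)⁻¹ * (v * (u * v * u⁻¹)⁻¹)⁻¹) := by
      group
    rw [e]
    exact mul_mem (hc _ (inv_mem ha) _ hv) (hn _ (mul_mem hv (inv_mem ha)) _ (inv_mem h1))

/-- the elements `v` with `[u, v] ∈ V2` -/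
def actS (hn : ∀ a ∈ V, ∀ d ∈ V2, a * d * a⁻¹ ∈ V2) (u : Y) : Subgroup Y where
  carrier := {v | v ∈ V ∧ u * v * u⁻¹ * v⁻¹ ∈ V2}
  one_mem' := ⟨one_mem _, by simp⟩
  mul_mem' := by
    rintro v w ⟨hv, h1⟩ ⟨hw, h2⟩
    refine ⟨mul_mem hv hw, ?_⟩
    have e : u * (v * w) * u⁻¹ * (v * w)⁻¹ = (u * v * u⁻¹ * v⁻¹) * (v * (u * w * u⁻¹ * w⁻¹) * v⁻¹) := by group
    rw [e]
    exact mul_mem h1 (hn v hv _ h2)
  inv_mem' := by
    rintro v ⟨hv, h1⟩
    refine ⟨inv_mem hv, ?_⟩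
    have e : u * v⁻¹ * u⁻¹ * v⁻¹⁻¹ = v⁻¹ * (u * v * u⁻¹ * v⁻¹)⁻¹ * v⁻¹⁻¹ := by group
    rw [e]
    exact hn _ (inv_mem hv) _ (inv_mem h1)

end abstract

/-! ### The root system -/

private noncomputable def fN (n : ℕ) (f : ℕ → Bool) : Bool :=
  Nat.rec (motive := fun _ => Bool) (f 0) (fun m _ => f (Nat.succ m)) n

private noncomputable def fZ (z : ℤ) (f : ℤ → Bool) : Bool :=
  Int.rec (motive := fun _ => Bool) (fun n => fN n fun m => f (Int.ofNat m)) (fun n => fN n fun m => f (Int.negSucc m)) z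

private theorem fZ_eq (z : ℤ) (f : ℤ → Bool) : fZ z f = f z := by
  rcases z with (_ | _) | (_ | _) <;> rfl

private def bg (z x : Fin 4 → ℤ) : ℤ :=
  z 0 * (4 * x 0 - 2 * x 1) + z 1 * (4 * x 1 - 2 * x 0 - 2 * x 2) + z 2 * (2 * x 2 - 2 * x 1 - x 3) + z 3 * (2 * x 3 - x 2)

private theorem bg_eq (z x : Fin 4 → ℤ) : bg z x = bf z x := by
  delta bg bf
  ring

private def ps (a b c d : ℤ) : Bool := decide (0 < a * b - c * d)

private noncomputable def btB (x y z : Fin 4 → ℤ) : Bool :=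
  fZ (bg z x) fun a => fZ (bg z y) fun c => fZ (bg y y) fun b => fZ (bg x y) fun d => ps a b c d &&
    fZ (bg x x) fun e => fZ (bg y x) fun f => ps c e a f &&
      decide ((e * b - d * d) • z = (a * b - c * d) • x + (c * e - a * f) • y)

private noncomputable def btD (x y z : Fin 4 → ℤ) : Decidable (bt x y z) :=
  decidable_of_iff (btB x y z = true) (by
    simp only [btB, fZ_eq, bg_eq, ps, Bool.and_eq_true, decide_eq_true_eq]
    rfl)

attribute [local instance] btD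

private def hw : List ((Fin 4 → ℤ) × (Fin 4 → ℤ)) :=
  ([(2, 25), (2, 24), (0, 1), (4, 25), (1, 3), (7, 25), (0, 4), (1, 5), (0, 7), (3, 7), (0, 9), (1, 10), (14, 37), (14, 36), (12, 13), (16, 36), (12, 15), (19, 36), (13, 16), (12, 17), (13, 19), (15, 19), (13, 21), (12, 22), (1, 26), (0, 26), (3, 30), (1, 28), (0, 30), (1, 31), (5, 34), (0, 32), (3, 34), (0, 34), (1, 35), (25, 34), (13, 38), (12, 38), (15, 42), (12, 40), (13, 42), (12, 43), (17, 46), (13, 44), (15, 46), (13, 46), (12, 47), (36, 46)] : List (ℕ × ℕ)).map fun q => (rts.getD q.1 0, rts.getD q.2 0)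

private noncomputable def _root_.Cfsg.Agent.KO7084ab9.k0 : type_of% @Decidable.decide := @(fun x0 x1 => @Decidable.rec.{1} _ @(fun x2 => @Bool) @(fun x2 => @Bool.false) @(fun x2 => @Bool.true) @x1)
private theorem _root_.Cfsg.Agent.KO7084ab9.e0 : @Decidable.decide = @_root_.Cfsg.Agent.KO7084ab9.k0 := by delta _root_.Cfsg.Agent.KO7084ab9.k0; rfl'
private noncomputable def _root_.Cfsg.Agent.KO7084ab9.k1 : type_of% @instDecidableAnd := @(fun x0 x1 x2 x3 => @Decidable.rec.{1} _ @(fun x4 => @Decidable (@And @x0 @x1)) @(fun x4 => @Decidable.isFalse _ (@instDecidableAnd._proof_2 _ _ @x4)) @(fun x4 => @Decidable.rec.{1} _ @(fun x5 => @Decidable (@And @x0 @x1)) @(fun x5 => @Decidable.isFalse _ (@instDecidableAnd._proof_1 _ _ @x5)) @(fun x5 => @Decidable.isTrue _ (@And.intro _ _ @x4 @x5)) @x3) @x2)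
private theorem _root_.Cfsg.Agent.KO7084ab9.e1 : @instDecidableAnd = @_root_.Cfsg.Agent.KO7084ab9.k1 := by delta _root_.Cfsg.Agent.KO7084ab9.k1; rfl'
private noncomputable def _root_.Cfsg.Agent.KO7084ab9.k2.{ku0, ku1} : type_of% @Quot.rec.{ku0, ku1} := @(fun x0 x1 x2 x3 x4 x5 => @Eq.rec.{ku1, ku0} (@Quot.{ku0} _ @x1) (@PSigma.fst.{ku0, ku1} _ _ (@Quot.lift.{ku0, (max (max 1 ku1) ku0)} _ _ _ (@Quot.indep.{ku0, ku1} _ _ _ @x3) (@Quot.indepCoherent.{ku0, ku1} _ _ _ @x3 @x4) @x5)) @(fun x6 x7 => @x2 @x6) (@PSigma.snd.{ku0, ku1} _ _ (@Quot.lift.{ku0, (max (max 1 ku1) ku0)} _ _ _ (@Quot.indep.{ku0, ku1} _ _ _ @x3) (@Quot.indepCoherent.{ku0, ku1} _ _ _ @x3 @x4) @x5)) @x5 (@Quot.liftIndepPr1.{ku0, ku1} _ _ _ @x3 @x4 @x5))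
private theorem _root_.Cfsg.Agent.KO7084ab9.e2.{ku0, ku1} : @Quot.rec.{ku0, ku1} = @_root_.Cfsg.Agent.KO7084ab9.k2.{ku0, ku1} := by delta _root_.Cfsg.Agent.KO7084ab9.k2; rfl'
private noncomputable def _root_.Cfsg.Agent.KO7084ab9.k3.{ku0, ku1} : type_of% @Quot.recOnSubsingleton.{ku0, ku1} := @(fun x0 x1 x2 x3 x4 x5 => @Cfsg.Agent.KO7084ab9.k2.{ku0, ku1} _ _ @(fun x6 => @x2 @x6) @(fun x6 => @x5 @x6) (@Quot.recOnSubsingleton._proof_1.{ku1, ku0} _ _ _ _ @x5) @x4)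
private theorem _root_.Cfsg.Agent.KO7084ab9.e3.{ku0, ku1} : @Quot.recOnSubsingleton.{ku0, ku1} = @_root_.Cfsg.Agent.KO7084ab9.k3.{ku0, ku1} := by delta _root_.Cfsg.Agent.KO7084ab9.k3; rewrite [← Cfsg.Agent.KO7084ab9.e2.{ku0, ku1}]; rfl'
private theorem _root_.Cfsg.Agent.KO7084ab9.e4.{ku, kv} {α : Type kv} {M : List α → Sort ku} (φ : ∀ l, M l) {z : M List.nil} {s : ∀ a l, M l → M (List.cons a l)} (h0 : φ List.nil = z) (hs : ∀ a l, φ (List.cons a l) = s a l (φ l)) (l : List α) : φ l = @List.rec α M z s l := List.rec h0 (fun a l ih => (hs a l).trans (congrArg (s a l) ih)) l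
private noncomputable def _root_.Cfsg.Agent.KO7084ab9.k5.{ku0} : type_of% @List.decidableBAll.{ku0} := @(fun x0 x1 x2 x3 => @List.rec.{1, ku0} @x0 @(fun x4 => @Decidable ((x5 : @x0) → (@Membership.mem.{ku0, ku0} _ _ _ @x4 @x5) → @x1 @x5)) (@Decidable.isTrue _ (@List.decidableBAll._proof_1.{ku0} _ @x1)) @(fun x4 x5 x6 => @Decidable.rec.{1} _ @(fun x7 => @Decidable ((x8 : @x0) → (@Membership.mem.{ku0, ku0} _ _ _ (@x4 :: @x5) @x8) → @x1 @x8)) @(fun x7 => @Decidable.isFalse _ (@List.decidableBAll._proof_4.{ku0} _ @x1 @x4 @x5 @x7)) @(fun x7 => @Decidable.rec.{1} _ @(fun x8 => @Decidable ((x9 : @x0) → (@Membership.mem.{ku0, ku0} _ _ _ (@x4 :: @x5) @x9) → @x1 @x9)) @(fun x8 => @Decidable.isFalse _ (@List.decidableBAll._proof_3.{ku0} _ @x1 @x4 @x5 @x8)) @(fun x8 => @Decidable.isTrue _ (@List.decidableBAll._proof_2.{ku0} _ @x1 @x4 @x5 @x7 @x8)) @x6) (@x2 @x4)) @x3)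
private theorem _root_.Cfsg.Agent.KO7084ab9.e5.{ku0} : @List.decidableBAll.{ku0} = @_root_.Cfsg.Agent.KO7084ab9.k5.{ku0} := by delta _root_.Cfsg.Agent.KO7084ab9.k5; funext a0 a1 a2 a3; refine (_root_.Cfsg.Agent.KO7084ab9.e4 (fun a3 => @List.decidableBAll.{ku0} a0 a1 a2 a3) ?_ (fun c0 c1 => ?_) a3 :) <;> (rfl')
private noncomputable def _root_.Cfsg.Agent.KO7084ab9.k6.{ku0} : type_of% @Multiset.decidableForallMultiset.{ku0} := @(fun (x0 : Sort (ku0+1)) (x1 : @Multiset.{ku0} @x0) (x2 : (x0 → Prop)) (x3 : ((x3 : x0) → @Decidable (@x2 @x3))) => @Cfsg.Agent.KO7084ab9.k3.{(ku0+1), 1} (@List.{ku0} @x0) (@Setoid.r.{(ku0+1)} (@List.{ku0} @x0) (@List.isSetoid.{ku0} @x0)) @(fun (x4 : @Quotient.{(ku0+1)} (@List.{ku0} @x0) (@List.isSetoid.{ku0} @x0)) => @Decidable ((x5 : x0) → ((@Membership.mem.{ku0, ku0} @x0 (@Multiset.{ku0} @x0) (@Multiset.instMembership.{ku0} @x0) @x4 @x5) → @x2 @x5))) (@Multiset.decidableForallMultiset._proof_2.{ku0}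 @x0 @x2) @x1 @(fun (x4 : @List.{ku0} @x0) => @Decidable.rec.{1} ((x5 : x0) → ((@Membership.mem.{ku0, ku0} @x0 (@List.{ku0} @x0) (@List.instMembership.{ku0} @x0) @x4 @x5) → @x2 @x5)) @(fun (x5 : @Decidable ((x5 : x0) → ((@Membership.mem.{ku0, ku0} @x0 (@List.{ku0} @x0) (@List.instMembership.{ku0} @x0) @x4 @x5) → @x2 @x5))) => @Decidable ((x6 : x0) → ((@Membership.mem.{ku0, ku0} @x0 (@Multiset.{ku0} @x0) (@Multiset.instMembership.{ku0} @x0) (@Quotient.mk.{(ku0+1)} (@List.{ku0} @x0) (@List.isSetoid.{ku0} @x0) @x4) @x6) → @x2 @x6))) @(fun (x5 : @Not ((x5 : x0) → ((@Membership.mem.{ku0, ku0} @x0 (@List.{ku0} @x0) (@List.instMembership.{ku0} @x0) @x4 @x5) → @x2 @x5))) => @Decidable.isFalse ((x6 : x0) → ((@Membership.mem.{ku0, ku0} @x0 (@Multiset.{ku0} @x0) (@Multiset.instMembership.{ku0} @x0) (@Quotient.mk.{(ku0+1)} (@List.{ku0} @x0) (@List.isSetoid.{ku0} @x0) @x4) @x6) → @x2 @x6)) (@decidable_of_decidable_of_iff._proof_1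 ((x6 : x0) → ((@Membership.mem.{ku0, ku0} @x0 (@List.{ku0} @x0) (@List.instMembership.{ku0} @x0) @x4 @x6) → @x2 @x6)) ((x6 : x0) → ((@Membership.mem.{ku0, ku0} @x0 (@Multiset.{ku0} @x0) (@Multiset.instMembership.{ku0} @x0) (@Quotient.mk.{(ku0+1)} (@List.{ku0} @x0) (@List.isSetoid.{ku0} @x0) @x4) @x6) → @x2 @x6)) (@Multiset.decidableForallMultiset._proof_1.{ku0} @x0 @x2 @x4) @x5)) @(fun (x5 : ((x5 : x0) → ((@Membership.mem.{ku0, ku0} @x0 (@List.{ku0} @x0) (@List.instMembership.{ku0} @x0) @x4 @x5) → @x2 @x5))) => @Decidable.isTrue ((x6 : x0) → ((@Membership.mem.{ku0, ku0} @x0 (@Multiset.{ku0} @x0) (@Multiset.instMembership.{ku0} @x0) (@Quotient.mk.{(ku0+1)} (@List.{ku0} @x0) (@List.isSetoid.{ku0} @x0) @x4) @x6) → @x2 @x6)) (@Iff.mp ((x6 : x0) → ((@Membership.mem.{ku0, ku0} @x0 (@List.{ku0} @x0) (@List.instMembership.{ku0} @x0) @x4 @x6) → @x2 @x6)) ((x6 : x0) → ((@Membership.mem.{ku0, ku0} @x0 (@Multiset.{ku0}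 @x0) (@Multiset.instMembership.{ku0} @x0) (@Quotient.mk.{(ku0+1)} (@List.{ku0} @x0) (@List.isSetoid.{ku0} @x0) @x4) @x6) → @x2 @x6)) (@Multiset.decidableForallMultiset._proof_1.{ku0} @x0 @x2 @x4) @x5)) (@Cfsg.Agent.KO7084ab9.k5.{ku0} @x0 @x2 @x3 @x4)))
private theorem _root_.Cfsg.Agent.KO7084ab9.e6.{ku0} : @Multiset.decidableForallMultiset.{ku0} = @_root_.Cfsg.Agent.KO7084ab9.k6.{ku0} := by delta _root_.Cfsg.Agent.KO7084ab9.k6; rewrite [← Cfsg.Agent.KO7084ab9.e5.{ku0}, ← Cfsg.Agent.KO7084ab9.e3.{(ku0+1), 1}]; rfl'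
private noncomputable def _root_.Cfsg.Agent.KO7084ab9.k10.{ku0} : type_of% @Multiset.decidableDforallMultiset.{ku0} := @(fun x0 x1 x2 x3 => @Decidable.rec.{1} _ @(fun x4 => @Decidable ((x5 : @x0) → (x6 : @Membership.mem.{ku0, ku0} _ _ _ @x1 @x5) → @x2 @x5 @x6)) @(fun x4 => @Decidable.isFalse _ (@decidable_of_decidable_of_iff._proof_1 _ _ (@Multiset.decidableDforallMultiset._proof_2.{ku0} _ _ _) @x4)) @(fun x4 => @Decidable.isTrue _ (@Iff.mp _ _ (@Multiset.decidableDforallMultiset._proof_2.{ku0} _ _ _) @x4)) (@Cfsg.Agent.KO7084ab9.k6.{ku0} _ _ @(fun x4 => @x2 (@Subtype.val.{(ku0+1)} _ @(fun x5 => @Membership.mem.{ku0, ku0} _ _ _ @x1 @x5) @x4) (@Multiset.decidableDforallMultiset._proof_1.{ku0} _ _ @x4)) @(fun x4 => @x3 (@Subtype.val.{(ku0+1)} _ @(fun x5 => @Membership.mem.{ku0, ku0} _ _ _ @x1 @x5) @x4) (@Multiset.decidableDforallMultiset._proof_1.{ku0} _ _ @x4))))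
private theorem _root_.Cfsg.Agent.KO7084ab9.e10.{ku0} : @Multiset.decidableDforallMultiset.{ku0} = @_root_.Cfsg.Agent.KO7084ab9.k10.{ku0} := by delta _root_.Cfsg.Agent.KO7084ab9.k10; rewrite [← Cfsg.Agent.KO7084ab9.e6.{ku0}]; rfl'
private noncomputable def _root_.Cfsg.Agent.KO7084ab9.k11.{ku0} : type_of% @Finset.decidableDforallFinset.{ku0} := @(fun x0 x1 x2 x3 => @Cfsg.Agent.KO7084ab9.k10.{ku0} _ _ _ @x3)
private theorem _root_.Cfsg.Agent.KO7084ab9.e11.{ku0} : @Finset.decidableDforallFinset.{ku0} = @_root_.Cfsg.Agent.KO7084ab9.k11.{ku0} := by delta _root_.Cfsg.Agent.KO7084ab9.k11; rewrite [← Cfsg.Agent.KO7084ab9.e10.{ku0}]; rfl'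
private noncomputable def _root_.Cfsg.Agent.KO7084ab9.k12.{ku0, ku1} : type_of% @Fintype.decidablePiFintype.{ku0, ku1} := @(fun x0 x1 x2 x3 x4 x5 => @Decidable.rec.{1} _ @(fun x6 => @Decidable (@Eq.{(max (ku0+1) (ku1+1))} _ @x4 @x5)) @(fun x6 => @Decidable.isFalse _ (@decidable_of_decidable_of_iff._proof_1 _ _ (@Fintype.decidablePiFintype._proof_2.{ku1, ku0} _ _ _ @x4 @x5) @x6)) @(fun x6 => @Decidable.isTrue _ (@Iff.mp _ _ (@Fintype.decidablePiFintype._proof_2.{ku1, ku0} _ _ _ @x4 @x5) @x6)) (@Cfsg.Agent.KO7084ab9.k11.{ku1} _ _ @(fun x6 x7 => @Eq.{(ku0+1)} _ (@x4 @x6) (@x5 @x6)) @(fun x6 x7 => @x2 @x6 (@x4 @x6) (@x5 @x6))))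
private theorem _root_.Cfsg.Agent.KO7084ab9.e12.{ku0, ku1} : @Fintype.decidablePiFintype.{ku0, ku1} = @_root_.Cfsg.Agent.KO7084ab9.k12.{ku0, ku1} := by delta _root_.Cfsg.Agent.KO7084ab9.k12; rewrite [← Cfsg.Agent.KO7084ab9.e11.{ku1}]; rfl'
private noncomputable def _root_.Cfsg.Agent.KO7084ab9.k13 : type_of% @Nat.decEq := @(fun x0 x1 => @Bool.rec.{1} @(fun x2 => (@Eq.{1} _ (@Nat.beq @x0 @x1) @x2) → @Decidable (@Eq.{1} _ @x0 @x1)) @(fun x2 => @Decidable.isFalse _ (@Nat.ne_of_beq_eq_false _ _ @x2)) @(fun x2 => @Decidable.isTrue _ (@Nat.eq_of_beq_eq_true _ _ @x2)) (@Nat.beq @x0 @x1) (@Eq.refl.{1} _ (@Nat.beq @x0 @x1)))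
private theorem _root_.Cfsg.Agent.KO7084ab9.e13 : @Nat.decEq = @_root_.Cfsg.Agent.KO7084ab9.k13 := by delta _root_.Cfsg.Agent.KO7084ab9.k13; rfl'
private noncomputable def _root_.Cfsg.Agent.KO7084ab9.k14 : type_of% @Int.decEq := @(fun x0 x1 => @Int.rec.{1} @(fun x2 => @Decidable (@Eq.{1} _ @x2 @x1)) @(fun x2 => @Int.rec.{1} @(fun x3 => @Decidable (@Eq.{1} _ (@Int.ofNat @x2) @x3)) @(fun x3 => @Decidable.rec.{1} _ @(fun x4 => @Decidable (@Eq.{1} _ (@Int.ofNat @x2) (@Int.ofNat @x3))) @(fun x4 => @Decidable.isFalse _ (@Int.decEq._proof_2 @x2 @x3 @x4)) @(fun x4 => @Decidable.isTrue _ (@Int.decEq._proof_1 @x2 @x3 @x4)) (@Cfsg.Agent.KO7084ab9.k13 @x2 @x3)) @(fun x3 => @Decidable.isFalse _ (@Int.decEq._proof_3 @x2 @x3)) @x1) @(fun x2 => @Int.rec.{1} @(fun x3 => @Decidable (@Eq.{1} _ (@Int.negSucc @x2) @x3)) @(fun x3 => @Decidable.isFalse _ (@Int.decEq._proof_4 @x2 @x3)) @(fun x3 => @Decidable.rec.{1} _ @(fun x4 =>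 @Decidable (@Eq.{1} _ (@Int.negSucc @x2) (@Int.negSucc @x3))) @(fun x4 => @Decidable.isFalse _ (@Int.decEq._proof_6 @x2 @x3 @x4)) @(fun x4 => @Decidable.isTrue _ (@Int.decEq._proof_5 @x2 @x3 @x4)) (@Cfsg.Agent.KO7084ab9.k13 @x2 @x3)) @x1) @x0)
private theorem _root_.Cfsg.Agent.KO7084ab9.e14 : @Int.decEq = @_root_.Cfsg.Agent.KO7084ab9.k14 := by delta _root_.Cfsg.Agent.KO7084ab9.k14; rewrite [← Cfsg.Agent.KO7084ab9.e13]; rfl'
private noncomputable def _root_.Cfsg.Agent.KO7084ab9.k15 : type_of% @Int.instDecidableEq := @Cfsg.Agent.KO7084ab9.k14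
private theorem _root_.Cfsg.Agent.KO7084ab9.e15 : @Int.instDecidableEq = @_root_.Cfsg.Agent.KO7084ab9.k15 := by delta _root_.Cfsg.Agent.KO7084ab9.k15; rewrite [← Cfsg.Agent.KO7084ab9.e14]; rfl'
private noncomputable def _root_.Cfsg.Agent.KO7084ab9.k37 : type_of% @Bool.decEq := @(fun x0 x1 => @Bool.rec.{1} @(fun x2 => @Decidable (@Eq.{1} _ @x2 @x1)) (@Bool.rec.{1} @(fun x2 => @Decidable (@Eq.{1} _ @Bool.false @x2)) (@Decidable.isTrue _ (@rfl.{1} _ _)) (@Decidable.isFalse _ @(fun x2 => @Bool.noConfusion.{0} _ _ _ @x2)) @x1) (@Bool.rec.{1} @(fun x2 => @Decidable (@Eq.{1} _ @Bool.true @x2)) (@Decidable.isFalse _ @(fun x2 => @Bool.noConfusion.{0} _ _ _ @x2)) (@Decidable.isTrue _ (@rfl.{1} _ _)) @x1) @x0)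
private theorem _root_.Cfsg.Agent.KO7084ab9.e37 : @Bool.decEq = @_root_.Cfsg.Agent.KO7084ab9.k37 := by delta _root_.Cfsg.Agent.KO7084ab9.k37; rfl'
private noncomputable def _root_.Cfsg.Agent.KO7084ab9.k39.{ku0} : type_of% @List.instDecidableMemOfLawfulBEq.{ku0} := @(fun x0 x1 x2 x3 x4 => @Decidable.rec.{1} _ @(fun x5 => @Decidable (@Membership.mem.{ku0, ku0} _ _ _ @x4 @x3)) @(fun x5 => @Decidable.isFalse _ (@decidable_of_decidable_of_iff._proof_1 _ _ (@List.instDecidableMemOfLawfulBEq._proof_1.{ku0} _ _ _ @x3 @x4) @x5)) @(fun x5 => @Decidable.isTrue _ (@Iff.mp _ _ (@List.instDecidableMemOfLawfulBEq._proof_1.{ku0} _ _ _ @x3 @x4) @x5)) (@Cfsg.Agent.KO7084ab9.k37 (@List.elem.{ku0} _ @x1 @x3 @x4) @Bool.true))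
private theorem _root_.Cfsg.Agent.KO7084ab9.e39.{ku0} : @List.instDecidableMemOfLawfulBEq.{ku0} = @_root_.Cfsg.Agent.KO7084ab9.k39.{ku0} := by delta _root_.Cfsg.Agent.KO7084ab9.k39; rewrite [← Cfsg.Agent.KO7084ab9.e37]; rfl'

private theorem hab' : ∀ y ∈ rts, ∃ z ∈ rts, ∃ w ∈ rts, bf z z = bf w w ∧ 2 * bf z w = - bf z z ∧ z + w = y := by
  have h1 : ∀ p ∈ hw, p.1 ∈ rts ∧ p.2 ∈ rts ∧ bf p.1 p.1 = bf p.2 p.2 ∧ 2 * bf p.1 p.2 = - bf p.1 p.1 := by
    (first | (refine of_decide_eq_true ?_; rewrite [Cfsg.Agent.KO7084ab9.e0, Cfsg.Agent.KO7084ab9.e5.{0}, Cfsg.Agent.KO7084ab9.e1, Cfsg.Agent.KO7084ab9.e39.{0}, Cfsg.Agent.KO7084ab9.e12.{0, 0}, Cfsg.Agent.KO7084ab9.e15]; decide +kernel) | decide +kernel)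
  have h2 : hw.map (fun p => p.1 + p.2) = rts := by decide +kernel
  intro y hy
  rw [← h2] at hy
  obtain ⟨p, hp, rfl⟩ := List.mem_map.1 hy
  obtain ⟨a, b, c, d⟩ := h1 p hp
  exact ⟨p.1, a, p.2, b, c, d, rfl⟩

/-- the set `J` -/
abbrev J : Set (Fin 4) := {k | k ≠ 3}

section

variable {W Y : Type*} [Group W] [Group Y] {cs : CoxeterSystem CoxeterMatrix.F₄ W} {p : ℕ} {T : Subgroup Y}
  {n : Fin 4 → Y} {X : (Fin 4 → ℤ) → Subgroup Y}

theorem NotJ_eq : NotJ cs isCartan J = Q (fun x => 1 ≤ x 3) := by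
  ext x
  constructor
  · rintro ⟨hx, -, k, hk, hk0⟩
    have hk : k = 3 := by
      by_contra h
      exact hk h
    subst hk
    exact ⟨(mem_rts cs).1 hx, hk0⟩
  · rintro ⟨hx, h0⟩
    refine ⟨(mem_rts cs).2 hx, ?_, 3, by simp [J], h0⟩
    have h1 : ∀ x ∈ rts, 1 ≤ x 3 → ∀ k, 0 ≤ x k := by decide +kernel
    exact fun k => h1 x hx h0 k

theorem RootsJ_eq : RootsJ cs isCartan J = Q (fun x => x 3 = 0) := by
  ext x
  constructor
  · rintro ⟨hx, h1⟩
    exact ⟨(mem_rts cs).1 hx, h1 3 (by simp [J])⟩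
  · rintro ⟨hx, h0⟩
    refine ⟨(mem_rts cs).2 hx, fun k hk => ?_⟩
    have hk : k = 3 := by
      by_contra h
      exact hk h
    subst hk
    exact h0

/-- the layer -/
abbrev V2 (X : (Fin 4 → ℤ) → Subgroup Y) : Subgroup Y := RGD.Sup X (Q (fun x => x 3 = 2))

variable (R : RGD cs isCartan p T n X)

include R

theorem VJ_eq : VJ cs isCartan X J = RGD.Sup X (Q (fun x => 1 ≤ x 3)) := by
  unfold VJ; rw [NotJ_eq]

theorem X_le {x : Fin 4 → ℤ} (hx : x ∈ rts) (h0 : 0 ≤ x 3) : X x ≤ PJ cs isCartan T X J := by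
  rcases h0.lt_or_eq with h | h
  · refine le_trans ?_ VJ_le_PJ
    rw [VJ_eq R]
    exact RGD.le_Sup (S := Q fun x => 1 ≤ x 3) ⟨hx, h⟩
  · refine le_trans (X_le_LJ ?_) LJ_le_PJ
    rw [RootsJ_eq]
    exact ⟨hx, h.symm⟩

theorem comm_of {x y : Fin 4 → ℤ} (hx : x ∈ rts) (hy : y ∈ rts) (h1 : x ≠ y) (h2 : x ≠ -y) {P : (Fin 4 → ℤ) → Prop}
    (h3 : ∀ z ∈ rts, bt x y z → P z) {a b : Y} (ha : a ∈ X x) (hb : b ∈ X y) :
    a * b * a⁻¹ * b⁻¹ ∈ RGD.Sup X (Q P) := by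
  have h4 := R.comm x y ((mem_rts cs).2 hx) ((mem_rts cs).2 hy) h1 h2 a ha b hb
  have h5 : btw cs isCartan X x y ≤ RGD.Sup X (Q P) := by
    unfold Cfsg.Agent.Nodes.Reps.btw
    refine iSup_le ?_
    rintro ⟨w, hw⟩
    obtain ⟨h6, h7⟩ := btwn_spec cs ((mem_rts cs).2 hx) ((mem_rts cs).2 hy) h1 h2 hw
    exact RGD.le_Sup (S := Q P) ⟨h6, h3 w h6 h7⟩
  exact h5 h4

variable (hlr : ∀ a, IsRoot cs isCartan a → bf a a = 4 → LR R a)

include hlr

private noncomputable def _root_.Cfsg.Agent.KO7084ab9.k43 : type_of% @forall_prop_decidable := @(fun x0 x1 x2 x3 => @Decidable.rec.{1} _ @(fun x4 => @Decidable ((x5 : @x0) → @x1 @x5)) @(fun x4 => @Decidable.isTrue _ (@forall_prop_decidable._proof_2 _ @x1 @x4)) @(fun x4 => @Decidable.rec.{1} _ @(fun x5 => @Decidable ((x6 : @x0) → @x1 @x6)) @(fun x5 => @Decidable.isFalse _ (@decidable_of_decidable_of_iff._proof_1 _ _ (@forall_prop_decidable._proof_1 _ @x1 @x4) @x5)) @(fun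 x5 => @Decidable.isTrue _ (@Iff.mp _ _ (@forall_prop_decidable._proof_1 _ @x1 @x4) @x5)) (@x3 @x4)) @x2)
private theorem _root_.Cfsg.Agent.KO7084ab9.e43 : @forall_prop_decidable = @_root_.Cfsg.Agent.KO7084ab9.k43 := by delta _root_.Cfsg.Agent.KO7084ab9.k43; rfl'
private noncomputable def _root_.Cfsg.Agent.KO7084ab9.k45 : type_of% @instDecidableOr := @(fun x0 x1 x2 x3 => @Decidable.rec.{1} _ @(fun x4 => @Decidable (@Or @x0 @x1)) @(fun x4 => @Decidable.rec.{1} _ @(fun x5 => @Decidable (@Or @x0 @x1)) @(fun x5 => @Decidable.isFalse _ (@instDecidableOr._proof_1 _ _ @x4 @x5)) @(fun x5 => @Decidable.isTrue _ (@Or.inr _ _ @x5)) @x3) @(fun x4 => @Decidable.isTrue _ (@Or.inl _ _ @x4)) @x2)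
private theorem _root_.Cfsg.Agent.KO7084ab9.e45 : @instDecidableOr = @_root_.Cfsg.Agent.KO7084ab9.k45 := by delta _root_.Cfsg.Agent.KO7084ab9.k45; rfl'
private noncomputable def _root_.Cfsg.Agent.KO7084ab9.k46 : type_of% @instDecidableNot := @(fun x0 x1 => @Decidable.rec.{1} _ @(fun x2 => @Decidable (¬ @x0)) @(fun x2 => @Decidable.isTrue _ @x2) @(fun x2 => @Decidable.isFalse _ (@absurd.{0} _ _ @x2)) @x1)
private theorem _root_.Cfsg.Agent.KO7084ab9.e46 : @instDecidableNot = @_root_.Cfsg.Agent.KO7084ab9.k46 := by delta _root_.Cfsg.Agent.KO7084ab9.k46; rfl'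

theorem V2_norm : ∀ g ∈ PJ cs isCartan T X J, ∀ d ∈ V2 X, g * d * g⁻¹ ∈ V2 X := by
  have key0 : ∀ x ∈ rts, 0 ≤ x 3 → ∀ g ∈ X x, ∀ d ∈ V2 X, g * d * g⁻¹ ∈ V2 X := by
    intro x hx h0 g hg
    have h5 : V2 X ≤ (V2 X).comap (MulAut.conj g).toMonoidHom := by
      refine RGD.Sup_le fun y hy v hv => ?_
      show g * v * g⁻¹ ∈ V2 X
      have hvV : v ∈ V2 X := RGD.le_Sup (S := Q fun x => x 3 = 2) hy hv
      have h : ∀ x ∈ rts, 0 ≤ x 3 → ∀ y ∈ rts, y 3 = 2 → x = y ∨ (bf x x = 4 ∧ 0 ≤ bf y x) ∨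
          (x ≠ y ∧ x ≠ -y ∧ ∀ z ∈ rts, bt x y z → z 3 = 2) := by
        (first | (refine of_decide_eq_true ?_; rewrite [Cfsg.Agent.KO7084ab9.e0, Cfsg.Agent.KO7084ab9.e5.{0}, Cfsg.Agent.KO7084ab9.e43, Cfsg.Agent.KO7084ab9.e15, Cfsg.Agent.KO7084ab9.e45, Cfsg.Agent.KO7084ab9.e12.{0, 0}, Cfsg.Agent.KO7084ab9.e1, Cfsg.Agent.KO7084ab9.e46]; decide +kernel) | decide +kernel)
      rcases h x hx h0 y hy.1 hy.2 with rfl | ⟨h1, h2⟩ | ⟨h1, h2, h3⟩
      · exact mul_mem (mul_mem (RGD.le_Sup (S := Q fun x => x 3 = 2) hy hg) hvV)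
          (inv_mem (RGD.le_Sup (S := Q fun x => x 3 = 2) hy hg))
      · have hxr := (mem_rts cs).2 hx
        have h4 := (hlr x hxr h1).comm y ((mem_rts cs).2 hy.1) ((ge_iff cs hxr h1).2 h2) v hv g hg
        have h6 : g * v * g⁻¹ = v := by
          have h7 : g * v = v * g := h4.symm
          rw [h7, mul_inv_cancel_right]
        rwa [h6]
      · have h4 := comm_of R hx hy.1 h1 h2 h3 hg hv
        have h6 : g * v * g⁻¹ = (g * v * g⁻¹ * v⁻¹) * v := by group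
        rw [h6]
        exact mul_mem h4 hvV
    exact fun d hd => h5 hd
  have key : ∀ x ∈ rts, 0 ≤ x 3 → X x ≤ Subgroup.normalizer (V2 X : Set Y) := by
    intro x hx h0 g hg
    rw [Subgroup.mem_normalizer_iff]
    intro d
    refine ⟨key0 x hx h0 g hg d, fun hd => ?_⟩
    have h1 := key0 x hx h0 g⁻¹ (inv_mem hg) _ hd
    have e : g⁻¹ * (g * d * g⁻¹) * g⁻¹⁻¹ = d := by group
    rwa [e] at h1
  have hP : PJ cs isCartan T X J ≤ Subgroup.normalizer (V2 X : Set Y) := by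
    refine sup_le (sup_le (R.T_le_normalizer fun x hx => (mem_rts cs).2 hx.1) ?_) ?_
    · show RGD.Sup X (RootsJ cs isCartan J) ≤ _
      rw [RootsJ_eq]
      refine RGD.Sup_le fun x hx => key x hx.1 ?_
      rw [hx.2]
    · show VJ cs isCartan X J ≤ _
      rw [VJ_eq R]
      refine RGD.Sup_le fun x hx => key x hx.1 ?_
      have : (1 : ℤ) ≤ x 3 := hx.2
      omega
  intro g hg d hd
  exact (Subgroup.mem_normalizer_iff.1 (hP hg) d).1 hd

omit hlr in
theorem V_norm : ∀ g ∈ PJ cs isCartan T X J, ∀ d ∈ VJ cs isCartan X J, g * d * g⁻¹ ∈ VJ cs isCartan X J := by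
  intro g hg d hd
  exact (Subgroup.mem_normalizer_iff.1 (PJ_le_normalizer_VJ R J hg) d).1 hd

theorem V_comm : ∀ a ∈ VJ cs isCartan X J, ∀ b ∈ VJ cs isCartan X J, a * b * a⁻¹ * b⁻¹ ∈ V2 X := by
  have : Finite W := finiteW cs
  have hn : ∀ a ∈ VJ cs isCartan X J, ∀ d ∈ V2 X, a * d * a⁻¹ ∈ V2 X := fun a ha => V2_norm R hlr a (VJ_le_PJ ha)
  -- generators
  have h0 : ∀ x ∈ rts, 1 ≤ x 3 → ∀ y ∈ rts, 1 ≤ y 3 → x = y ∨ (x ≠ y ∧ x ≠ -y ∧ ∀ z ∈ rts, bt x y z → z 3 = 2) := by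
    (first | (refine of_decide_eq_true ?_; rewrite [Cfsg.Agent.KO7084ab9.e0, Cfsg.Agent.KO7084ab9.e5.{0}, Cfsg.Agent.KO7084ab9.e43, Cfsg.Agent.KO7084ab9.e45, Cfsg.Agent.KO7084ab9.e12.{0, 0}, Cfsg.Agent.KO7084ab9.e15, Cfsg.Agent.KO7084ab9.e1, Cfsg.Agent.KO7084ab9.e46]; decide +kernel) | decide +kernel)
  have hab : ∀ y ∈ rts, ∃ z ∈ rts, ∃ w ∈ rts, bf z z = bf w w ∧ 2 * bf z w = - bf z z ∧ z + w = y := hab'
  have hX : ∀ x ∈ rts, 1 ≤ x 3 → X x ≤ VJ cs isCartan X J := by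
    intro x hx h1
    rw [VJ_eq R]
    exact RGD.le_Sup (S := Q fun x => 1 ≤ x 3) ⟨hx, h1⟩
  have key : ∀ y ∈ rts, 1 ≤ y 3 → ∀ b ∈ X y, ∀ a ∈ VJ cs isCartan X J, a * b * a⁻¹ * b⁻¹ ∈ V2 X := by
    intro y hy hy1 b hb
    have h5 : RGD.Sup X (Q (fun x => 1 ≤ x 3)) ≤ commS hn b := by
      refine RGD.Sup_le fun x hx v hv => ⟨hX x hx.1 hx.2 hv, ?_⟩
      rcases h0 x hx.1 hx.2 y hy hy1 with rfl | ⟨h1, h2, h3⟩
      · obtain ⟨z, hz, w, hw, e1, e2, rfl⟩ := hab x hx.1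
        have hA : A2 cs isCartan z w := a2 cs ((mem_rts cs).2 hz) ((mem_rts cs).2 hw) e1 e2
        have h6 := A2.comm_self R hA hv hb
        rw [h6]
        have e : b * v * v⁻¹ * b⁻¹ = 1 := by group
        rw [e]
        exact one_mem _
      · exact comm_of R hx.1 hy h1 h2 h3 hv hb
    intro a ha
    rw [VJ_eq R] at ha
    exact (h5 ha).2
  intro a ha b hb
  have h5 : RGD.Sup X (Q (fun x => 1 ≤ x 3)) ≤ actS hn a := by
    refine RGD.Sup_le fun x hx v hv => ⟨hX x hx.1 hx.2 hv, key x hx.1 hx.2 v hv a ha⟩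
  rw [VJ_eq R] at hb
  exact (h5 hb).2

/-- one step: the factor `m` is pushed to the roots with positive inner product with `β` -/
theorem step {β : Fin 4 → ℤ} (hβ : β ∈ rts) (hβ2 : bf β β = 2) (hβ3 : β 3 = 0)
    {M : Subgroup Y} (h3 : ∀ g ∈ PJ cs isCartan T X J, ∀ m ∈ M, g * m * g⁻¹ ∈ M)
    {P : (Fin 4 → ℤ) → Prop}
    (c0 : ∀ x ∈ rts, ((x 3 = 1 ∧ P x) ∨ x 3 = 2) →
      (x 3 = 1 ∧ P x ∧ bf β x = -1) ∨ ((x 3 = 1 ∧ P x ∧ bf β x = 1) ∨ x 3 = 2))
    (c1 : ∀ x ∈ rts, (x 3 = 1 ∧ P x ∧ bf β x = -1) → ∀ y ∈ rts, ((y 3 = 1 ∧ P y ∧ bf β y = 1) ∨ y 3 = 2) →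
      x = y ∨ (x ≠ -y ∧ ∀ z ∈ rts, bt x y z → ((z 3 = 1 ∧ P z ∧ bf β z = 1) ∨ z 3 = 2)))
    (c2 : ∀ x ∈ rts, (x 3 = 1 ∧ P x ∧ bf β x = -1) → bf x x = 2 ∧ ((x + β) 3 = 1 ∧ P (x + β) ∧ bf β (x + β) = 1))
    (c3 : ∀ y ∈ rts, ((y 3 = 1 ∧ P y ∧ bf β y = 1) ∨ y 3 = 2) → β ≠ y ∧ β ≠ -y ∧ ∀ z ∈ rts, bt β y z → z 3 = 2)
    {m : Y} (hm : m ∈ M) (hm0 : m ∈ RGD.Sup X (Q (fun x => (x 3 = 1 ∧ P x) ∨ x 3 = 2))) (hm1 : m ∉ V2 X) :
    ∃ m' ∈ M, m' ∈ RGD.Sup X (Q (fun x => (x 3 = 1 ∧ P x ∧ bf β x = 1) ∨ x 3 = 2)) ∧ m' ∉ V2 X := by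
  have : Finite W := finiteW cs
  have hn : ∀ a ∈ VJ cs isCartan X J, ∀ d ∈ V2 X, a * d * a⁻¹ ∈ V2 X := fun a ha => V2_norm R hlr a (VJ_le_PJ ha)
  obtain ⟨a, ha, b, hb, rfl⟩ := split R c0 c1 hm0
  have hV2 : V2 X ≤ RGD.Sup X (Q (fun x => (x 3 = 1 ∧ P x ∧ bf β x = 1) ∨ x 3 = 2)) :=
    RGD.Sup_mono fun x hx => ⟨hx.1, Or.inr hx.2⟩
  by_cases ha2 : a ∈ V2 X
  · exact ⟨a * b, hm, mul_mem (hV2 ha2) hb, hm1⟩
  have hβr := (mem_rts cs).2 hβ
  have haV : a ∈ VJ cs isCartan X J := by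
    rw [VJ_eq R]
    exact RGD.Sup_mono (fun x hx => (⟨hx.1, by have := hx.2.1; show (1 : ℤ) ≤ x 3; omega⟩ : x ∈ Q fun x => 1 ≤ x 3)) ha
  have hbV : b ∈ VJ cs isCartan X J := by
    rw [VJ_eq R]
    exact RGD.Sup_mono (fun x hx => (⟨hx.1, by have := hx.2; show (1 : ℤ) ≤ x 3; omega⟩ : x ∈ Q fun x => 1 ≤ x 3)) hb
  obtain ⟨u, hu, hu1⟩ : ∃ u ∈ X β, u ≠ 1 := by
    have := X_ne_bot R hβr
    rw [Subgroup.ne_bot_iff_exists_ne_one] at this
    obtain ⟨⟨u, hu⟩, h1⟩ := this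
    exact ⟨u, hu, fun h2 => h1 (Subtype.ext h2)⟩
  obtain ⟨s, hs, a', ha', b', hb', k, hk, he⟩ := exists_mu R hβr hu hu1
  have huP : u ∈ PJ cs isCartan T X J := X_le R hβ hβ3.ge hu
  have hnβ : -β ∈ rts := (mem_rts cs).1 hβr.neg
  have hkP : k ∈ PJ cs isCartan T X J := by
    have h4 : 0 ≤ (-β) 3 := by rw [Pi.neg_apply, hβ3]; rfl
    rw [he]
    exact mul_mem (mul_mem (X_le R hnβ h4 ha') huP) (X_le R hnβ h4 hb')
  -- `[u, b] ∈ V2`
  have hub : u * b * u⁻¹ * b⁻¹ ∈ V2 X := by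
    have h5 : RGD.Sup X (Q (fun x => (x 3 = 1 ∧ P x ∧ bf β x = 1) ∨ x 3 = 2)) ≤ actS hn u := by
      refine RGD.Sup_le fun y hy v hv => ⟨?_, ?_⟩
      · rw [VJ_eq R]
        exact RGD.le_Sup (S := Q fun x => 1 ≤ x 3) ⟨hy.1, by have := hy.2; show (1 : ℤ) ≤ y 3; omega⟩ hv
      · obtain ⟨e1, e2, e3⟩ := c3 y hy.1 hy.2
        exact comm_of R hβ hy.1 e1 e2 e3 hu hv
    exact (h5 hb).2
  -- `[u, a] ≡ k a k⁻¹`
  have hua : (u * a * u⁻¹ * a⁻¹) * (k * a * k⁻¹)⁻¹ ∈ V2 X := by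
    have h5 : RGD.Sup X (Q (fun x => x 3 = 1 ∧ P x ∧ bf β x = -1)) ≤
        congrS (V_comm R hlr) hn u k (V_norm R u huP) (V_norm R k hkP) := by
      refine RGD.Sup_le fun y hy v hv => ⟨?_, ?_⟩
      · rw [VJ_eq R]
        exact RGD.le_Sup (S := Q fun x => 1 ≤ x 3) ⟨hy.1, by have := hy.2.1; show (1 : ℤ) ≤ y 3; omega⟩ hv
      · have hA : A2 cs isCartan β y := a2 cs hβr ((mem_rts cs).2 hy.1) (by rw [hβ2, (c2 y hy.1 hy.2).1])
          (by rw [hy.2.2.2, hβ2]; norm_num)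
        have h6 := A2.comm_eq R hA hu hv ha' hb' hs hk he
        rw [commutatorElement_def] at h6
        rw [h6, mul_inv_cancel]
        exact one_mem _
    exact (h5 ha).2
  have hka : k * a * k⁻¹ ∈ RGD.Sup X (Q (fun x => (x 3 = 1 ∧ P x ∧ bf β x = 1) ∨ x 3 = 2)) := by
    refine conj_Q R hk ?_ ha
    intro x hx h5
    left
    have h6 : cpr cs isCartan x β = -1 := by
      rw [cpr_short cs x hβr hβ2, bf_comm]; exact h5.2.2
    rw [hs, h6, neg_one_smul, sub_neg_eq_add]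
    exact (c2 x hx h5).2
  have e1 : u * (a * b) * u⁻¹ * (a * b)⁻¹ = ((u * a * u⁻¹ * a⁻¹) * (k * a * k⁻¹)⁻¹) * (k * a * k⁻¹) *
      (a * (u * b * u⁻¹ * b⁻¹) * a⁻¹) := by group
  refine ⟨u * (a * b) * u⁻¹ * (a * b)⁻¹, mul_mem (h3 u huP _ hm) (inv_mem hm), ?_, ?_⟩
  · rw [e1]
    exact mul_mem (mul_mem (hV2 hua) hka) (hV2 (hn a haV _ hub))
  · intro h5
    rw [e1] at h5
    have h6 := (Subgroup.mul_mem_cancel_right _ (hn a haV _ hub)).1 h5
    have h7 := (Subgroup.mul_mem_cancel_left _ hua).1 h6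
    apply ha2
    have h8 := V2_norm R hlr _ (inv_mem hkP) _ h7
    have e2 : k⁻¹ * (k * a * k⁻¹) * k⁻¹⁻¹ = a := by group
    rwa [e2] at h8

omit hlr in
/-- moving a root group inside `M` by a simple reflection -/
theorem move {M : Subgroup Y} (h3 : ∀ g ∈ PJ cs isCartan T X J, ∀ m ∈ M, g * m * g⁻¹ ∈ M) {y y' : Fin 4 → ℤ}
    (hy' : y' ∈ rts) (i : Fin 4) (hi : i ≠ 3) (e : Cfsg.Agent.Nodes.RGDFold.refl A i y' = y) (h : X y ≤ M) :
    X y' ≤ M := by
  intro w hw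
  have hP : n i ∈ PJ cs isCartan T X J := LJ_le_PJ (n_mem_LJ R hi)
  have h4 := R.conj_mem (rp_simple cs R.nsys i) ((mem_rts cs).2 hy') hw
  rw [cj_root, e] at h4
  have h5 := h3 _ (inv_mem hP) _ (h h4)
  have e2 : (n i)⁻¹ * (n i * w * (n i)⁻¹) * (n i)⁻¹⁻¹ = w := by group
  rwa [e2] at h5

/-- **`V/V2` is irreducible.** -/
theorem irr (M : Subgroup Y) (h1 : V2 X ≤ M) (h2 : M ≤ VJ cs isCartan X J)
    (h3 : ∀ g ∈ PJ cs isCartan T X J, ∀ m ∈ M, g * m * g⁻¹ ∈ M) : M = V2 X ∨ M = VJ cs isCartan X J := by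
  have : Finite W := finiteW cs
  by_cases hM : M ≤ V2 X
  · exact Or.inl (le_antisymm hM h1)
  right
  refine le_antisymm h2 ?_
  obtain ⟨m, hm, hm1⟩ := Set.not_subset.1 hM
  have hm0 : m ∈ RGD.Sup X (Q (fun x => (x 3 = 1 ∧ True) ∨ x 3 = 2)) := by
    have h4 := h2 hm
    rw [VJ_eq R] at h4
    refine RGD.Sup_mono ?_ h4
    rintro x ⟨hx, h5⟩
    have h6 : ∀ x ∈ rts, 1 ≤ x 3 → (x 3 = 1 ∧ True) ∨ x 3 = 2 := by decide +kernel
    exact ⟨hx, h6 x hx h5⟩
  obtain ⟨m', hm', hm0', hm1'⟩ := step R hlr (β := ![0, 0, 1, 0]) (by decide +kernel) (by decide +kernel)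
    (by decide +kernel) h3 (P := fun _ => True) (by decide +kernel) (by decide +kernel) (by decide +kernel)
    (by decide +kernel) hm hm0 hm1
  obtain ⟨m2, hm2, hm02, hm12⟩ := step R hlr (β := ![0, 1, 1, 0]) (by decide +kernel) (by decide +kernel)
    (by decide +kernel) h3 (P := fun x => True ∧ bf ![0, 0, 1, 0] x = 1) (by decide +kernel) (by decide +kernel)
    (by decide +kernel) (by decide +kernel) hm' hm0' hm1'
  obtain ⟨m3, hm3, hm03, hm13⟩ := step R hlr (β := ![1, 1, 1, 0]) (by decide +kernel) (by decide +kernel)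
    (by decide +kernel) h3 (P := fun x => (True ∧ bf ![0, 0, 1, 0] x = 1) ∧ bf ![0, 1, 1, 0] x = 1)
    (by decide +kernel) (by decide +kernel) (by decide +kernel) (by decide +kernel) hm2
    (by simpa only [and_assoc] using hm02) hm12
  obtain ⟨a, ha, d, hd, rfl⟩ := split R (P₁ := fun x => x = ![1, 2, 3, 1]) (P₂ := fun x => x 3 = 2)
    (by decide +kernel) (by decide +kernel) hm03
  rw [Sup_single R (by decide +kernel)] at ha
  have haM : a ∈ M := (Subgroup.mul_mem_cancel_right _ (h1 hd)).1 hm3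
  have ha1 : a ≠ 1 := by
    rintro rfl
    rw [one_mul] at hm13
    exact hm13 hd
  -- to `1221`
  have hn2 : n 2 ∈ PJ cs isCartan T X J := LJ_le_PJ (n_mem_LJ R (by decide))
  have hb := R.conj_mem (rp_simple cs R.nsys 2) ((mem_rts cs).2 (by decide +kernel : (![1, 2, 3, 1] : Fin 4 → ℤ) ∈ rts)) ha
  rw [cj_root, show Cfsg.Agent.Nodes.RGDFold.refl A 2 ![1, 2, 3, 1] = ![1, 2, 2, 1] by decide +kernel] at hb
  have hbM : n 2 * a * (n 2)⁻¹ ∈ M := h3 _ hn2 _ haM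
  have hb1 : n 2 * a * (n 2)⁻¹ ≠ 1 := fun h => ha1 (by simpa [mul_assoc, mul_eq_one_iff_eq_inv] using h)
  have hA : A2 cs isCartan ![1, 2, 2, 1] ![0, 0, 1, 0] := a2 cs ((mem_rts cs).2 (by decide +kernel))
    ((mem_rts cs).2 (by decide +kernel)) (by decide +kernel) (by decide +kernel)
  have h8 : X ![1, 2, 3, 1] ≤ M := by
    intro w hw
    have hw' : w ∈ X (![1, 2, 2, 1] + ![0, 0, 1, 0]) := by
      rwa [show (![1, 2, 2, 1] + ![0, 0, 1, 0] : Fin 4 → ℤ) = ![1, 2, 3, 1] by decide +kernel]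
    obtain ⟨v, hv, e⟩ := A2.comm_surj R hA hb hb1 hw'
    rw [← e, commutatorElement_def]
    have h9 := h3 v (X_le R (by decide +kernel) (by decide +kernel) hv) _ (inv_mem hbM)
    have e2 : n 2 * a * (n 2)⁻¹ * v * (n 2 * a * (n 2)⁻¹)⁻¹ * v⁻¹ =
        (n 2 * a * (n 2)⁻¹) * (v * (n 2 * a * (n 2)⁻¹)⁻¹ * v⁻¹) := by group
    rw [e2]
    exact mul_mem hbM h9
  have h7 : X ![1, 2, 2, 1] ≤ M := move R h3 (by decide +kernel) 2 (by decide) (by decide +kernel) h8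
  have h6 : X ![1, 1, 2, 1] ≤ M := move R h3 (by decide +kernel) 1 (by decide) (by decide +kernel) h7
  have h5 : X ![0, 1, 2, 1] ≤ M := move R h3 (by decide +kernel) 0 (by decide) (by decide +kernel) h6
  have h5' : X ![1, 1, 1, 1] ≤ M := move R h3 (by decide +kernel) 2 (by decide) (by decide +kernel) h6
  have h4 : X ![0, 1, 1, 1] ≤ M := move R h3 (by decide +kernel) 0 (by decide) (by decide +kernel) h5'
  have h4' : X ![0, 0, 1, 1] ≤ M := move R h3 (by decide +kernel) 1 (by decide) (by decide +kernel) h4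
  have h4'' : X ![0, 0, 0, 1] ≤ M := move R h3 (by decide +kernel) 2 (by decide) (by decide +kernel) h4'
  rw [VJ_eq R]
  refine RGD.Sup_le ?_
  rintro x ⟨hx, hx1⟩
  have h9 : ∀ x ∈ rts, 1 ≤ x 3 → x = ![1, 2, 3, 1] ∨ x = ![1, 2, 2, 1] ∨ x = ![1, 1, 2, 1] ∨ x = ![0, 1, 2, 1] ∨
      x = ![1, 1, 1, 1] ∨ x = ![0, 1, 1, 1] ∨ x = ![0, 0, 1, 1] ∨ x = ![0, 0, 0, 1] ∨ x 3 = 2 := by decide +kernel
  rcases h9 x hx hx1 with rfl | rfl | rfl | rfl | rfl | rfl | rfl | rfl | h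
  · exact h8
  · exact h7
  · exact h6
  · exact h5
  · exact h5'
  · exact h4
  · exact h4'
  · exact h4''
  · exact le_trans (RGD.le_Sup (S := Q fun x => x 3 = 2) ⟨hx, h⟩) h1

end

end Cfsg.Agent.H374.QF.Irr
end

-- part: H374/QF/IrrK
section
/-!
# S2491, row F4 = `²E₆(2)`, box P4: `layer'` (parts of KV) and `irr` (helper374)
-/

set_option autoImplicit false

namespace Cfsg.Agent.H374.QF

open CoxeterSystem Cfsg.Agent.ChevalleyStructure.CoxeterGeom Cfsg.Agent.Tits.Roots Cfsg.Agent.Tits.Core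
  Cfsg.Agent.Nodes Cfsg.Agent.Nodes.Reps Cfsg.Agent.Nodes.BNOf Cfsg.Agent.Nodes.RGDLib Cfsg.Agent.Nodes.Bruhat
  Cfsg.Agent.Nodes.OppDec Cfsg.Agent.Nodes.LeviDec Cfsg.Agent.Nodes.StabComb
open Cfsg.Lie Subgroup
open Cfsg.Agent.H231.QF Cfsg.Agent.H590.F4

universe u

variable {F : Type u} [Field F] [Fintype F] (hF : Fintype.card F = 4) {φ : F →+* F} (hφ : ∀ t, φ t = t ^ 2)

include hF hφ

/-- **IRR** : `V₄/V2 = 2^16` is irreducible. -/
theorem irr (M : Subgroup (KK F)) (h1 : V2 φ ≤ M) (h2 : M ≤ V φ j4) (h3 : ∀ g ∈ P φ j4, ∀ m ∈ M, g * m * g⁻¹ ∈ M) :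
    M = V2 φ ∨ M = V φ j4 := by
  have := Cfsg.Agent.H326.QF.charP_two hF
  have : Fact (Nat.Prime 2) := ⟨Nat.prime_two⟩
  have hqq := Cfsg.Agent.H326.QF.frob_frob hF
  exact Irr.irr (RGDTwE6.rgd cs hφ hqq 2)
    (fun a ha hl => Cfsg.Agent.KFacts.TwESix.Grp.lr_long cs hφ hqq 2 ha hl) M h1 h2 h3

end Cfsg.Agent.H374.QF
end

-- part: H240/F4/Transp
section
/-!
# Transport of the class cover and of the rank lists along an isomorphism of subgroups (helper240, row F4 of S2491)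
-/

set_option autoImplicit false

namespace Cfsg.Agent.H240.F4

universe u v

variable {G : Type u} {H : Type v} [Group G] [Group H] {A : Subgroup G} {B : Subgroup H}

/-- **transport of the class cover** -/
theorem cover_transport (e : A ≃* B) {n : ℕ}
    (hc : ∀ {x l : H}, x ∈ B → orderOf x = n → l ∈ B → l ≠ 1 →
      ∃ a ∈ B, ∃ b ∈ B, l = a * x * a⁻¹ * (b * x⁻¹ * b⁻¹))
    {x : G} (hx : x ∈ A) (ho : orderOf x = n) (l : G) (hl : l ∈ A) (hl1 : l ≠ 1) :
    ∃ a ∈ A, ∃ b ∈ A, l = a * x * a⁻¹ * (b * x⁻¹ * b⁻¹) := by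
  have h1 : orderOf ((e ⟨x, hx⟩ : B) : H) = n := by
    rw [Subgroup.orderOf_coe, MulEquiv.orderOf_eq e, Subgroup.orderOf_mk]
    exact ho
  have h2 : ((e ⟨l, hl⟩ : B) : H) ≠ 1 := by
    intro h
    apply hl1
    have h3 : e ⟨l, hl⟩ = 1 := Subtype.ext h
    rw [map_eq_one_iff e e.injective] at h3
    exact congrArg Subtype.val h3
  obtain ⟨a, ha, b, hb, h⟩ := hc (e ⟨x, hx⟩).2 h1 (e ⟨l, hl⟩).2 h2
  refine ⟨e.symm ⟨a, ha⟩, (e.symm ⟨a, ha⟩).2, e.symm ⟨b, hb⟩, (e.symm ⟨b, hb⟩).2, ?_⟩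
  have h4 : e ⟨l, hl⟩ = ⟨a, ha⟩ * e ⟨x, hx⟩ * (⟨a, ha⟩)⁻¹ * (⟨b, hb⟩ * (e ⟨x, hx⟩)⁻¹ * (⟨b, hb⟩)⁻¹) :=
    Subtype.ext h
  have h5 := congrArg e.symm h4
  simp only [map_mul, map_inv, MulEquiv.symm_apply_apply] at h5
  exact congrArg Subtype.val h5

theorem prod_transport (e : A ≃* B) : ∀ (L : List H) (_ : ∀ t ∈ L, t ∈ B), ∃ L' : List G, L'.length = L.length ∧
    (∀ t' ∈ L', ∃ h' : t' ∈ A, ∃ t ∈ L, ((e ⟨t', h'⟩ : B) : H) = t) ∧
    ∃ h' : L'.prod ∈ A, ((e ⟨L'.prod, h'⟩ : B) : H) = L.prod := by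
  intro L
  induction L with
  | nil =>
    intro _
    refine ⟨[], rfl, by simp, ?_⟩
    refine ⟨one_mem _, ?_⟩
    have : (⟨([] : List G).prod, one_mem _⟩ : A) = 1 := rfl
    rw [this, map_one]
    rfl
  | cons s L ih =>
    intro hL
    obtain ⟨L', h1, h2, h3, h4⟩ := ih fun t ht => hL t (List.mem_cons_of_mem _ ht)
    have hs : s ∈ B := hL s List.mem_cons_self
    refine ⟨(e.symm ⟨s, hs⟩ : A) :: L', by simp [h1], ?_, ?_⟩
    · intro t' ht'
      rcases List.mem_cons.1 ht' with rfl | ht'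
      · refine ⟨(e.symm ⟨s, hs⟩).2, s, List.mem_cons_self, ?_⟩
        have : (⟨((e.symm ⟨s, hs⟩ : A) : G), (e.symm ⟨s, hs⟩).2⟩ : A) = e.symm ⟨s, hs⟩ := rfl
        rw [this, MulEquiv.apply_symm_apply]
      · obtain ⟨h', t, ht, h5⟩ := h2 t' ht'
        exact ⟨h', t, List.mem_cons_of_mem _ ht, h5⟩
    · have h5 : ((e.symm ⟨s, hs⟩ : A) :: L' : List G).prod ∈ A := by
        rw [List.prod_cons]
        exact mul_mem (e.symm ⟨s, hs⟩).2 h3
      refine ⟨h5, ?_⟩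
      have h6 : (⟨((e.symm ⟨s, hs⟩ : A) :: L' : List G).prod, h5⟩ : A) = e.symm ⟨s, hs⟩ * ⟨L'.prod, h3⟩ :=
        Subtype.ext List.prod_cons
      rw [h6, map_mul, MulEquiv.apply_symm_apply, List.prod_cons, Subgroup.coe_mul, h4]

/-- **transport of the rank lists** -/
theorem rank_transport (e : A ≃* B) {n m : ℕ}
    (hr : ∀ {x l : H}, x ∈ B → orderOf x = n → l ∈ B → l ≠ 1 →
      ∃ L : List H, L.length ≤ m ∧ (∀ t ∈ L, ∃ k ∈ B, t = k * l * k⁻¹) ∧ ∃ k ∈ B, L.prod = k * x * k⁻¹)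
    {x : G} (hx : x ∈ A) (ho : orderOf x = n) (l : G) (hl : l ∈ A) (hl1 : l ≠ 1) :
    ∃ L : List G, L.length ≤ m ∧ (∀ t ∈ L, ∃ k ∈ A, t = k * l * k⁻¹ ∨ t = k * l⁻¹ * k⁻¹) ∧
      ∃ k ∈ A, L.prod = k * x * k⁻¹ := by
  have h1 : orderOf ((e ⟨x, hx⟩ : B) : H) = n := by
    rw [Subgroup.orderOf_coe, MulEquiv.orderOf_eq e, Subgroup.orderOf_mk]
    exact ho
  have h2 : ((e ⟨l, hl⟩ : B) : H) ≠ 1 := by
    intro h
    apply hl1
    have h3 : e ⟨l, hl⟩ = 1 := Subtype.ext h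
    rw [map_eq_one_iff e e.injective] at h3
    exact congrArg Subtype.val h3
  obtain ⟨L, h3, h4, k, hk, h5⟩ := hr (e ⟨x, hx⟩).2 h1 (e ⟨l, hl⟩).2 h2
  obtain ⟨L', h6, h7, h8, h9⟩ := prod_transport e L fun t ht => by
    obtain ⟨k, hk, rfl⟩ := h4 t ht
    exact mul_mem (mul_mem hk (e ⟨l, hl⟩).2) (inv_mem hk)
  refine ⟨L', h6.le.trans h3, ?_, e.symm ⟨k, hk⟩, (e.symm ⟨k, hk⟩).2, ?_⟩
  · intro t' ht'
    obtain ⟨h', t, ht, h10⟩ := h7 t' ht'
    obtain ⟨k', hk', h11⟩ := h4 t ht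
    refine ⟨e.symm ⟨k', hk'⟩, (e.symm ⟨k', hk'⟩).2, Or.inl ?_⟩
    have h12 : e ⟨t', h'⟩ = ⟨k', hk'⟩ * e ⟨l, hl⟩ * (⟨k', hk'⟩)⁻¹ := Subtype.ext (by rw [h10, h11]; rfl)
    have h13 := congrArg e.symm h12
    simp only [map_mul, map_inv, MulEquiv.symm_apply_apply] at h13
    exact congrArg Subtype.val h13
  · have h12 : e ⟨L'.prod, h8⟩ = ⟨k, hk⟩ * e ⟨x, hx⟩ * (⟨k, hk⟩)⁻¹ := Subtype.ext (by rw [h9, h5]; rfl)
    have h13 := congrArg e.symm h12
    simp only [map_mul, map_inv, MulEquiv.symm_apply_apply] at h13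
    exact congrArg Subtype.val h13

end Cfsg.Agent.H240.F4
end

-- part: H181/TC/Twentyone
section
/-!
# `Ω₈⁻(2)` : the elements of order 21 (S2491, row `F4 = 2E6(2)`, boxes COV and RK)

* `cover21` : for `x` of order 21, every `l ≠ 1` in `N8 = Ω₈⁻(2)` is `(a x a⁻¹) (b x⁻¹ b⁻¹)`;
* `rank21` : a product of at most four conjugates of `l` is conjugate to `x`.
-/

set_option autoImplicit false
set_option maxRecDepth 100000

namespace Cfsg.Agent.H181.O8m

open Cfsg.Agent.H612.Ore Cfsg.Agent.H201.O8 Cfsg.Agent.LieClassical.OrthCore QuadraticMap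

/-! ### values on codes -/

/-- `f` is the action of `g` on codes -/
def Val (g : O8) (f : ℕ → ℕ) : Prop := ∀ v, v < 256 → f v < 256 ∧ act.ap g v = f v

theorem Val.mul {g h : O8} {f k : ℕ → ℕ} (hg : Val g f) (hh : Val h k) : Val (g * h) (fun v => f (k v)) := by
  intro v hv
  obtain ⟨h1, h2⟩ := hh v hv
  obtain ⟨h3, h4⟩ := hg _ h1
  exact ⟨h3, by rw [act.mul _ _ _ hv, h2, h4]⟩

theorem val_one : Val 1 (fun v => v) := fun v hv => ⟨hv, act.one v hv⟩

theorem val_of_rep {g : O8} {c : ℕ} (h : act.Rep g c) : Val g (apc 8 c) := fun v hv => by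
  have h1 := act.ap_eq h (v := v) hv
  exact ⟨by rw [← h1]; exact act.lt _ _ hv, h1⟩

theorem Val.eq {g r : O8} {f : ℕ → ℕ} {c : ℕ} (hg : Val g f) (hr : act.Rep r c)
    (h : ∀ i < 8, f (2 ^ i) = col 8 c i) : g = r := act.ext fun i hi => by
  rw [(hg _ (two_pow_lt (n := 8) hi)).2, h i hi, hr i hi]

theorem Val.eq_of {g r : O8} {f k : ℕ → ℕ} (hg : Val g f) (hr : Val r k)
    (h : ∀ i < 8, f (2 ^ i) = k (2 ^ i)) : g = r := act.ext fun i hi => by
  rw [(hg _ (two_pow_lt (n := 8) hi)).2, h i hi, (hr _ (two_pow_lt (n := 8) hi)).2]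

/-- admissible letters -/
def okw (a : ℕ) : Bool := qn a && Nat.blt a 256

/-- product of reflections -/
noncomputable def wd : List ℕ → O8
  | [] => 1
  | a :: l => (if h : qn a = true then rf a h else 1) * wd l

theorem wd_cons {a : ℕ} (h : qn a = true) (l : List ℕ) : wd (a :: l) = rf a h * wd l := by
  rw [wd, dif_pos h]

theorem wd_append : ∀ l l' : List ℕ, wd (l ++ l') = wd l * wd l'
  | [], l' => (one_mul _).symm
  | a :: l, l' => by rw [List.cons_append, wd, wd_append l l', wd, mul_assoc]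

theorem rf_mul_self {a : ℕ} (ha : qn a = true) : rf a ha * rf a ha = 1 := by
  have h0 : q (dec a) ≠ 0 := by rw [q_dec, ha]; decide
  exact Subtype.ext (refl_mul_self h0)

theorem rf_inv {a : ℕ} (ha : qn a = true) : (rf a ha)⁻¹ = rf a ha :=
  inv_eq_of_mul_eq_one_left (rf_mul_self ha)

theorem wd_nil : wd [] = 1 := rfl

theorem wd_reverse : ∀ l : List ℕ, wd l.reverse = (wd l)⁻¹
  | [] => by rw [List.reverse_nil, wd_nil, inv_one]
  | a :: l => by
    rw [List.reverse_cons, wd_append, wd_reverse l]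
    by_cases h : qn a = true
    · rw [wd_cons h [], wd_cons h l, wd_nil, mul_one, mul_inv_rev, rf_inv]
    · have e1 : wd [a] = 1 := by
        show (if h : qn a = true then rf a h else 1) * wd [] = 1
        rw [dif_neg h, one_mul, wd_nil]
      have e2 : wd (a :: l) = wd l := by
        show (if h : qn a = true then rf a h else 1) * wd l = wd l
        rw [dif_neg h, one_mul]
      rw [e1, e2, mul_one]

theorem val_rf {a : ℕ} (ha : okw a = true) (h : qn a = true) : Val (rf a h) (fun v => v ^^^ (bif Bn a v then a else 0)) := by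
  rw [okw, Bool.and_eq_true, Nat.blt_eq] at ha
  intro v hv
  have h1 : v ^^^ (bif Bn a v then a else 0) < 256 := by
    refine Nat.xor_lt_two_pow (n := 8) hv ?_
    cases Bn a v
    · exact Nat.two_pow_pos 8
    · exact ha.2
  exact ⟨h1, by rw [act_ap, rf_dec, cd_dec h1]⟩

theorem val_wd : ∀ {l : List ℕ}, l.all okw = true → Val (wd l) (evr l)
  | [], _ => val_one
  | a :: l, h => by
    rw [List.all_cons, Bool.and_eq_true] at h
    have hq : qn a = true := by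
      have := h.1
      rw [okw, Bool.and_eq_true] at this
      exact this.1
    rw [wd_cons hq]
    exact (val_rf h.1 hq).mul (val_wd h.2)

theorem wd_mem : ∀ {l : List ℕ}, l.all okw = true → (wd l ∈ N8 ↔ l.length % 2 = 0)
  | [], _ => by simp [wd, one_mem]
  | a :: l, h => by
    rw [List.all_cons, Bool.and_eq_true] at h
    have hq : qn a = true := by
      have := h.1
      rw [okw, Bool.and_eq_true] at this
      exact this.1
    rw [wd_cons hq, Subgroup.mul_mem_iff_of_index_two index_N8, wd_mem h.2, List.length_cons]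
    have := rf_notMem hq
    constructor
    · intro h3
      by_contra h4
      exact this (h3.2 (by omega))
    · intro h3
      exact ⟨fun h4 => absurd h4 this, fun h4 => by omega⟩

theorem all_reverse {l : List ℕ} (h : l.all okw = true) : l.reverse.all okw = true := by
  rw [List.all_eq_true] at h ⊢
  exact fun x hx => h x (List.mem_reverse.1 hx)

/-- value of `k c k⁻¹` -/
def evC (c : ℕ) (k : List ℕ) (v : ℕ) : ℕ := evr k (apc 8 c (evr k.reverse v))

theorem val_C {g : O8} {c : ℕ} (hg : Val g (apc 8 c)) {k : List ℕ} (hk : k.all okw = true) :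
    Val (wd k * g * (wd k)⁻¹) (evC c k) := by
  rw [← wd_reverse]
  exact ((val_wd hk).mul hg).mul (val_wd (all_reverse hk))

/-- value of a product of conjugates -/
def evP (c : ℕ) : List (List ℕ) → ℕ → ℕ
  | [], v => v
  | k :: L, v => evC c k (evP c L v)

theorem val_P {g : O8} {c : ℕ} (hg : Val g (apc 8 c)) : ∀ {L : List (List ℕ)}, (∀ k ∈ L, k.all okw = true) →
    Val ((L.map fun k => wd k * g * (wd k)⁻¹).prod) (evP c L)
  | [], _ => val_one
  | k :: L, h => by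
    rw [List.map_cons, List.prod_cons]
    exact (val_C hg (h k List.mem_cons_self)).mul (val_P hg fun k hk => h k (List.mem_cons_of_mem _ hk))

/-! ### the element of order 21 -/

/-- code of an element of order 21 -/
def X21 : ℕ := 9801644799356306448
/-- code of the inverse -/
def X21i : ℕ := 586599355599962706

theorem x21_isomF : isomF 8 mQ8 mB8 b8 q8 X21 = true := by decide +kernel
theorem x21i_isomF : isomF 8 mQ8 mB8 b8 q8 X21i = true := by decide +kernel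
theorem x21_inv : ∀ i < 8, apc 8 X21 (apc 8 X21i (2 ^ i)) = 2 ^ i := by decide +kernel

/-- an element of order 21 -/
noncomputable def x21 : O8 := Classical.choose (act.exists_rep (isom_of masks x21_isomF))

theorem x21_rep : act.Rep x21 X21 := Classical.choose_spec (act.exists_rep (isom_of masks x21_isomF))

theorem val_x21 : Val x21 (apc 8 X21) := val_of_rep x21_rep

theorem val_x21i : Val x21⁻¹ (apc 8 X21i) := by
  obtain ⟨y, hy⟩ := act.exists_rep (isom_of masks x21i_isomF)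
  have h : x21 * y = 1 := (val_x21.mul (val_of_rep hy)).eq_of val_one x21_inv
  rw [inv_eq_of_mul_eq_one_right h]
  exact val_of_rep hy

/-- value of a power -/
def pwc (c : ℕ) : ℕ → ℕ → ℕ
  | 0, v => v
  | k + 1, v => apc 8 c (pwc c k v)

theorem val_pow {g : O8} {c : ℕ} (hg : Val g (apc 8 c)) : ∀ k : ℕ, Val (g ^ k) (pwc c k)
  | 0 => by rw [pow_zero]; exact val_one
  | k + 1 => by rw [pow_succ']; exact hg.mul (val_pow hg k)

/-- `c ^ k = 1` -/
def isone (c k : ℕ) : Bool := (List.range 8).all fun i => pwc c k (2 ^ i) == 2 ^ i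

theorem isone_iff {g : O8} {c : ℕ} (hg : Val g (apc 8 c)) (k : ℕ) : isone c k = true ↔ g ^ k = 1 := by
  rw [isone, List.all_eq_true]
  constructor
  · intro h
    exact (val_pow hg k).eq_of val_one fun i hi => eq_of_beq (h i (List.mem_range.2 hi))
  · intro h i hi
    have hi' := List.mem_range.1 hi
    rw [beq_iff_eq, ← ((val_pow hg k) _ (two_pow_lt (n := 8) hi')).2, h]
    exact act.one _ (two_pow_lt (n := 8) hi')

private noncomputable def bF (m n : ℕ) : ℕ :=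
  Nat.mod (Nat.shiftRight 27030 (Nat.xor (Nat.land (Nat.mod m 16) (Nat.shiftRight n 4))
    (Nat.land (Nat.mod (Nat.shiftRight m 4) 16) n))) 2

private theorem bF_eq (m n : ℕ) : bF m n = (Bn m n).toNat := by
  have h1 : ∀ x < 16, (27030 >>> x) % 2 = (x.testBit 0 ^^ x.testBit 1 ^^ x.testBit 2 ^^ x.testBit 3).toNat := by
    decide +kernel
  have h2 : ((m % 2 ^ 4) &&& (n >>> 4)) ^^^ (((m >>> 4) % 2 ^ 4) &&& n) < 2 ^ 4 :=
    Nat.xor_lt_two_pow (lt_of_le_of_lt Nat.and_le_left (Nat.mod_lt _ (by decide)))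
      (lt_of_le_of_lt Nat.and_le_left (Nat.mod_lt _ (by decide)))
  refine (h1 _ h2).trans (congrArg Bool.toNat ?_)
  rw [Bn_bits]
  simp only [Nat.testBit_xor, Nat.testBit_and, Nat.testBit_mod_two_pow, Nat.testBit_shiftRight, Nat.reduceAdd,
    Nat.reduceLT, decide_true, Bool.true_and]
  generalize (m.testBit 0 && n.testBit 4) = a0, (m.testBit 1 && n.testBit 5) = a1, (m.testBit 2 && n.testBit 6) = a2,
    (m.testBit 3 && n.testBit 7) = a3, (m.testBit 4 && n.testBit 0) = b0, (m.testBit 5 && n.testBit 1) = b1,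
    (m.testBit 6 && n.testBit 2) = b2, (m.testBit 7 && n.testBit 3) = b3
  revert a0 a1 a2 a3 b0 b1 b2 b3
  decide +kernel

private noncomputable def evF (l : List ℕ) (v : ℕ) : ℕ :=
  List.rec v (fun a _ ih => Nat.xor ih (Nat.mul (bF a ih) a)) l

private theorem evF_eq : evr = evF := by
  funext l v
  induction l with
  | nil => rfl
  | cons a l ih =>
    show evr l v ^^^ (bif Bn a (evr l v) then a else 0) = evF l v ^^^ bF a (evF l v) * a
    rw [ih, bF_eq]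
    cases Bn a (evF l v) <;> simp

private noncomputable def apF (c v k : ℕ) : ℕ :=
  Nat.rec 0 (fun k ih => Nat.xor ih (Nat.mul (Nat.mod (Nat.shiftRight v k) 2)
    (Nat.mod (Nat.shiftRight c (Nat.mul 8 k)) 256))) k

private theorem apF_eq : apc 8 = fun c v => apF c v 8 := by
  funext c v
  have h : ∀ k, apk 8 c v k = apF c v k := fun k => by
    induction k with
    | zero => rfl
    | succ k ih =>
      show _ = apF c v k ^^^ (v >>> k) % 2 * col 8 c k
      rw [apk_at_succ, ih, Nat.testBit_eq_decide_div_mod_eq, Nat.shiftRight_eq_div_pow]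
      rcases Nat.mod_two_eq_zero_or_one (v / 2 ^ k) with h | h <;> rw [h] <;> simp
  exact h 8

private noncomputable def eC (c : ℕ) (k : List ℕ) (v : ℕ) : ℕ := evF k (apF c (evF k.reverse v) 8)

private theorem eC_eq : evC = eC := by
  delta evC eC
  rw [evF_eq, apF_eq]

private theorem eP_eq : evP = fun c L v => List.rec v (fun k _ ih => eC c k ih) L := by
  funext c L v
  induction L with
  | nil => rfl
  | cons k L ih =>
    show evC c k (evP c L v) = _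
    rw [ih, eC_eq]

private theorem pw_eq : pwc = fun c k v => Nat.rec v (fun _ ih => apF c ih 8) k := by
  funext c k v
  induction k with
  | zero => rfl
  | succ k ih =>
    show apc 8 c (pwc c k v) = _
    rw [ih, apF_eq]

theorem only21 : (reps.all fun c => c == X21 || !isone c 21 || isone c 7 || isone c 3) = true := by
  delta isone
  rewrite [pw_eq]
  decide +kernel

/-- all elements of order 21 are conjugate in `O8` -/
theorem conj21 {x : O8} (ho : orderOf x = 21) : ∃ m : O8, x = m * x21 * m⁻¹ := by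
  obtain ⟨c, hc, h, y, hy, e⟩ := cover x
  have hpow : ∀ k : ℕ, x ^ k = 1 ↔ y ^ k = 1 := by
    intro k
    rw [e, conj_pow]
    constructor
    · intro h1
      have h2 : y ^ k = h⁻¹ * (h * y ^ k * h⁻¹) * h := by group
      rw [h2, h1]; group
    · intro h1
      rw [h1]; group
  have h1 := List.all_eq_true.1 only21 c hc
  rw [Bool.or_eq_true, Bool.or_eq_true, Bool.or_eq_true, Bool.not_eq_true', beq_iff_eq,
    isone_iff (val_of_rep hy), isone_iff (val_of_rep hy), ← hpow, ← hpow] at h1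
  rcases h1 with ((h1 | h1) | h1) | h1
  · subst h1
    refine ⟨h, ?_⟩
    rw [e, show y = x21 from act.ext fun i hi => by rw [hy i hi, x21_rep i hi]]
  · exfalso
    have h2 : isone c 21 = true := (isone_iff (val_of_rep hy) 21).2 ((hpow 21).1 (by rw [← ho, pow_orderOf_eq_one]))
    rw [h1] at h2
    exact Bool.noConfusion h2
  · have h2 := orderOf_dvd_of_pow_eq_one h1
    rw [ho] at h2
    exact absurd h2 (by norm_num)
  · have h2 := orderOf_dvd_of_pow_eq_one h1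
    rw [ho] at h2
    exact absurd h2 (by norm_num)

/-- every `l ≠ 1` in `N8` is conjugate in `O8` to one of the 32 representatives -/
theorem rep_of {l : O8} (hl : l ∈ N8) (h1 : l ≠ 1) : ∃ c ∈ cert.map Prod.fst, ∃ h r : O8, act.Rep r c ∧ l = h * r * h⁻¹ := by
  obtain ⟨c, hc, h, x, hx, e⟩ := cover l
  have hxN : x ∈ N8 := by
    have h2 : h⁻¹ * l * h⁻¹⁻¹ ∈ N8 := (inferInstance : N8.Normal).conj_mem l hl h⁻¹
    rw [e] at h2
    have h3 : h⁻¹ * (h * x * h⁻¹) * h⁻¹⁻¹ = x := by group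
    rwa [h3] at h2
  rw [reps_split, List.mem_append, List.mem_cons] at hc
  rcases hc with hc | rfl | hc
  · exact ⟨c, hc, h, x, hx, e⟩
  · exfalso
    apply h1
    have h2 : x = 1 := by
      apply act.faithful
      intro i hi
      rw [hx i hi, id_code i hi]
    rw [e, h2]
    group
  · obtain ⟨p, hp, rfl⟩ := List.mem_map.1 hc
    exact absurd hxN (notMem_of_rep hp hx)

/-! ### the cover certificates -/

/-- `(r, a, b)` : `r = (a x a⁻¹) (b x⁻¹ b⁻¹)`, even words -/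
def covE : List (ℕ × List ℕ × List ℕ) :=
  [(9817882376469217808, [140, 13, 9, 176, 113, 230], [83, 137, 60, 113, 99, 160]),
   (597888041415344656, [238, 50, 188, 172, 133, 194], [60, 201, 15, 134, 180, 45]),
   (9800993879883776528, [191, 131, 193, 23, 49, 69], [129, 70, 233, 221, 24, 99, 105, 172, 213, 184]),
   (9818449724469150224, [180, 105, 40, 19, 26, 191, 156, 231], [24, 40, 141, 83, 86, 125]),
   (9800998277930418704, [195, 191, 200, 137, 110, 95, 126, 203], [86, 225, 184, 146, 243, 86, 210, 245, 15, 41]),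
   (14577628633817547280, [88, 168, 125, 156, 72, 19, 173, 150], [95, 169, 138, 240, 179, 14, 161, 223, 113, 119]),
   (9808945545958786064, [161, 71, 70, 215, 93, 50, 183, 239], [230, 180, 120, 184, 152, 179, 243, 203, 24, 45]),
   (10245231759860302864, [158, 208, 138, 154, 120, 10, 68, 164], [158, 19, 253, 133, 135, 148, 160, 230, 63, 230]),
   (12117568123119338512, [243, 21, 10, 132, 83, 104], [203, 193, 98, 218, 225, 246, 168, 172]),
   (597905642191323664, [152, 179, 233, 38, 243, 202], [195, 164, 95, 73, 120, 231, 30, 135]),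
   (9224555124389708304, [164, 253, 34, 83, 140, 95], [248, 210, 9, 135, 41, 154]),
   (9801015878706397712, [53, 168, 28, 19, 28, 230, 59, 254], [101, 202, 138, 126, 70, 34, 246, 154]),
   (14577646234593526288, [101, 99, 248, 215, 224, 28], [101, 210, 184, 98, 9, 130, 9, 9, 12, 26]),
   (594538937553519120, [253, 26, 68, 201, 105, 53], [203, 165, 81, 172, 129, 53, 93, 95]),
   (9224005368574641168, [253, 68, 146, 239, 168, 95], [54, 84, 225, 116, 240, 28, 88, 240, 88, 139]),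
   (9800466122891330576, [41, 60, 231, 138, 86, 81], [123, 164, 158, 160, 34, 210]),
   (12698532481090978832, [84, 187, 73, 245, 130, 233], [120, 98, 179, 143, 45, 99]),
   (13274993236212974608, [123, 243, 134, 23, 83, 68], [194, 202, 203, 208, 213, 50, 194, 50]),
   (9225184045039617040, [99, 136, 13, 137, 165, 144], [148, 254, 13, 90, 129, 104, 123, 123, 183, 218]),
   (9801644799356306448, [168, 239, 40, 139, 165, 84, 137, 248], [139, 9, 104, 54, 68, 111]),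
   (12699711157555954704, [114, 98, 34, 111, 225, 195, 113, 213], [192, 142, 50, 45, 131, 9, 72, 146]),
   (13276171912677950480, [180, 133, 83, 154, 238, 44], [216, 144, 154, 38, 101, 40, 88, 243, 95, 101]),
   (9241388647406907408, [119, 10, 130, 119, 44, 72, 202, 44], [248, 54, 35, 119, 26, 254, 150, 254, 28, 113]),
   (9817849401723596816, [239, 100, 123, 239, 184, 253, 50, 232], [38, 63, 128, 210]),
   (597855065667022864, [86, 203, 90, 210, 243, 137, 187, 38], [38, 251, 141, 111, 75, 208, 200, 134, 86, 134]),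
   (12700214733878603792, [253, 215, 38, 119, 21, 146], [168, 253, 158, 125, 200, 138, 24, 45, 160, 245]),
   (12750880229753630736, [133, 54, 221, 230, 138, 14, 201, 70], [135, 221, 246, 95, 254, 81, 63, 195]),
   (10970803984155279888, [187, 132, 193, 100, 193, 101], [152, 193, 131, 251, 9, 24, 49, 132]),
   (15009406950003704336, [50, 160, 239, 40, 136, 14, 21, 179], [183, 45, 134, 13, 132, 40, 172, 201, 225, 19]),
   (10971371332155212304, [38, 169, 142, 154, 165, 41, 143, 72], [141, 230, 23, 21, 73, 75, 173, 251]),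
   (10961867153644848144, [86, 38, 38, 144, 210, 225], [68, 239, 88, 50, 129, 17, 119, 39, 101, 119]),
   (9241989036590236161, [83, 60, 15, 40, 116, 191], [240, 60, 40, 140, 69, 70])]

/-- `(r, a, b)` : `r = (a x a⁻¹) (b x⁻¹ b⁻¹)`, odd words -/
def covO : List (ℕ × List ℕ × List ℕ) :=
  [(9817882376469217808, [128, 253, 246, 63, 83, 245, 243], [100, 148, 24, 110, 26, 75, 119]),
   (597888041415344656, [56, 41, 123, 45, 53], [230, 72, 142, 245, 251, 251, 134, 134, 168]),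
   (9800993879883776528, [239, 188, 150, 193, 180, 39, 68], [135, 28, 116, 246, 40, 138, 74, 225, 254]),
   (9818449724469150224, [213, 200, 11, 200, 243, 49, 164], [19, 59, 251, 221, 50, 144, 148]),
   (9800998277930418704, [126, 130, 150, 129, 35], [93, 239, 17, 70, 165, 73, 135]),
   (14577628633817547280, [98, 50, 168, 14, 24], [10, 154, 195, 111, 73, 137, 26, 30, 141]),
   (9808945545958786064, [251, 139, 40, 81, 113, 191, 173], [10, 246, 93, 132, 50, 83, 169, 192, 83]),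
   (10245231759860302864, [69, 56, 123, 180, 11, 63, 154], [133, 142, 194, 9, 23, 130, 130, 41, 59]),
   (12117568123119338512, [72, 130, 133, 11, 113], [218, 100, 152, 201, 81, 169, 138, 202, 23]),
   (597905642191323664, [45, 95, 116, 68, 101], [15, 24, 73, 110, 248, 187, 136]),
   (9224555124389708304, [194, 134, 134, 218, 233], [148, 101, 188, 95, 95, 41, 113, 164, 113]),
   (9801015878706397712, [54, 119, 24, 160, 54, 8, 84], [200, 208, 40, 8, 203, 225, 140, 160, 19]),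
   (14577646234593526288, [169, 232, 253, 160, 187, 137, 233], [73, 81, 30, 39, 93, 13, 164, 30, 40]),
   (594538937553519120, [11, 128, 39, 192, 213, 125, 41], [40, 169, 202, 71, 24, 137, 202]),
   (9224005368574641168, [113, 152, 192, 172, 105], [88, 131, 41, 193, 218]),
   (9800466122891330576, [39, 135, 142, 113, 146, 111, 19], [165, 49, 201, 202, 225, 12, 173, 19, 173]),
   (12698532481090978832, [201, 130, 164, 138, 152, 100, 210], [142, 187, 202, 154, 56, 245, 86]),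
   (13274993236212974608, [239, 144, 238, 113, 70], [248, 243, 30, 133, 201, 200, 251, 135, 180]),
   (9225184045039617040, [83, 216, 99, 143, 133, 126, 137], [243, 110, 86, 105, 184, 134, 41]),
   (9801644799356306448, [111, 71, 251, 158, 150, 120, 213], [114, 49, 179, 128, 9, 13, 98]),
   (12699711157555954704, [13, 142, 146, 254, 88], [203, 161, 165, 13, 191, 240, 14]),
   (13276171912677950480, [233, 232, 161, 152, 35], [165, 188, 225, 11, 30, 50, 172]),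
   (9241388647406907408, [68, 12, 10, 60, 233], [191, 231, 203, 86, 119, 136, 126, 137, 215]),
   (9817849401723596816, [218, 187, 154, 164, 243, 110, 202], [10, 195, 90, 179, 21, 180, 119, 134, 160]),
   (597855065667022864, [184, 172, 144, 15, 203, 143, 101], [143, 12, 104, 119, 119, 30, 176]),
   (12700214733878603792, [188, 218, 63, 100, 126, 41, 138], [144, 200, 19, 210, 11, 213, 225, 169, 68]),
   (12750880229753630736, [184, 12, 251, 140, 110], [224, 8, 104, 24, 119]),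
   (10970803984155279888, [53, 11, 12, 95, 28, 23, 34], [150, 225, 10, 148, 17, 169, 172]),
   (15009406950003704336, [125, 180, 253, 34, 176], [192, 168, 202, 184, 49, 224, 119]),
   (10971371332155212304, [253, 135, 158, 194, 173, 17, 71], [161, 143, 13, 158, 221, 111, 233]),
   (10961867153644848144, [187, 113, 74, 192, 39, 38, 131], [240, 74, 98, 168, 172, 15, 30]),
   (9241989036590236161, [193, 111, 158, 9, 195], [192, 251, 208, 54, 11, 215, 14])]

/-- check -/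
def chkV (e : ℕ) (p : ℕ × List ℕ × List ℕ) : Bool :=
  p.2.1.all okw && p.2.2.all okw && (p.2.1.length % 2 == e) && (p.2.2.length % 2 == e) &&
    (List.range 8).all fun i => evC X21 p.2.1 (evC X21i p.2.2 (2 ^ i)) == col 8 p.1 i

theorem covE_ok : (covE.all (chkV 0) && (covE.map Prod.fst == cert.map Prod.fst)) = true := by
  delta chkV
  rewrite [eC_eq]
  decide +kernel
theorem covO_ok : (covO.all (chkV 1) && (covO.map Prod.fst == cert.map Prod.fst)) = true := by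
  delta chkV
  rewrite [eC_eq]
  decide +kernel

theorem cov_of {e : ℕ} {l : List (ℕ × List ℕ × List ℕ)} (hl : (l.all (chkV e) && (l.map Prod.fst == cert.map Prod.fst)) = true)
    {c : ℕ} (hc : c ∈ cert.map Prod.fst) {r : O8} (hr : act.Rep r c) :
    ∃ a b : O8, (a ∈ N8 ↔ e = 0) ∧ (b ∈ N8 ↔ e = 0) ∧ r = a * x21 * a⁻¹ * (b * x21⁻¹ * b⁻¹) := by
  rw [Bool.and_eq_true, beq_iff_eq] at hl
  rw [← hl.2] at hc
  obtain ⟨p, hp, rfl⟩ := List.mem_map.1 hc
  have h1 := List.all_eq_true.1 hl.1 p hp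
  rw [chkV, Bool.and_eq_true, Bool.and_eq_true, Bool.and_eq_true, Bool.and_eq_true, beq_iff_eq, beq_iff_eq] at h1
  obtain ⟨⟨⟨⟨h2, h3⟩, h4⟩, h5⟩, h6⟩ := h1
  refine ⟨wd p.2.1, wd p.2.2, by rw [wd_mem h2, h4], by rw [wd_mem h3, h5], ?_⟩
  have h7 : ∀ i < 8, (fun v => evC X21 p.2.1 (evC X21i p.2.2 v)) (2 ^ i) = col 8 p.1 i := fun i hi => by
    have h8 := List.all_eq_true.1 h6 i (List.mem_range.2 hi)
    rw [beq_iff_eq] at h8
    exact h8
  have hv : Val (wd p.2.1 * x21 * (wd p.2.1)⁻¹ * (wd p.2.2 * x21⁻¹ * (wd p.2.2)⁻¹))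
      (fun v => evC X21 p.2.1 (evC X21i p.2.2 v)) := (val_C val_x21 h2).mul (val_C val_x21i h3)
  exact (hv.eq hr h7).symm

/-- parity of a product -/
theorem mem_mul_iff {a b : O8} : a * b ∈ N8 ↔ (a ∈ N8 ↔ b ∈ N8) := Subgroup.mul_mem_iff_of_index_two index_N8

theorem iff_aux (p q : Prop) : (p ↔ (p ↔ q)) ↔ q := by
  by_cases hp : p <;> by_cases hq : q <;> simp [hp, hq]

/-- **COV** -/
theorem cover21 {x l : O8} (ho : orderOf x = 21) (hl : l ∈ N8) (h1 : l ≠ 1) :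
    ∃ a ∈ N8, ∃ b ∈ N8, l = a * x * a⁻¹ * (b * x⁻¹ * b⁻¹) := by
  obtain ⟨m, rfl⟩ := conj21 ho
  obtain ⟨c, hc, h, r, hr, rfl⟩ := rep_of hl h1
  have key : ∃ a b : O8, (a ∈ N8 ↔ (h ∈ N8 ↔ m ∈ N8)) ∧ (b ∈ N8 ↔ (h ∈ N8 ↔ m ∈ N8)) ∧
      r = a * x21 * a⁻¹ * (b * x21⁻¹ * b⁻¹) := by
    by_cases hp : h ∈ N8 ↔ m ∈ N8
    · obtain ⟨a, b, h2, h3, h4⟩ := cov_of covE_ok hc hr
      exact ⟨a, b, by simp [h2, hp], by simp [h3, hp], h4⟩
    · obtain ⟨a, b, h2, h3, h4⟩ := cov_of covO_ok hc hr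
      exact ⟨a, b, by simp only [h2, hp]; decide, by simp only [h3, hp]; decide, h4⟩
  obtain ⟨a, b, ha, hb, e⟩ := key
  refine ⟨h * a * m⁻¹, ?_, h * b * m⁻¹, ?_, ?_⟩
  · rw [mem_mul_iff, mem_mul_iff, ha, inv_mem_iff]
    exact iff_aux _ _
  · rw [mem_mul_iff, mem_mul_iff, hb, inv_mem_iff]
    exact iff_aux _ _
  · rw [e]; group

/-! ### the rank certificates -/

/-- `(r, ks, c)` : the product of the `k r k⁻¹` is `c x c⁻¹`, `c` even -/
def rkE : List (ℕ × List (List ℕ) × List ℕ) :=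
  [(9817882376469217808, [[], [158, 120], [156, 194, 15, 251], [230, 191, 44, 41, 9, 158]], [12, 125, 154, 158, 38, 38, 110, 34, 148, 216]),
   (597888041415344656, [[], [99, 232, 56, 168]], [15, 53, 45, 114, 19, 39, 8, 129]),
   (9800993879883776528, [[], [11, 12, 201, 225, 116, 195]], [88, 63, 137, 140, 104, 40, 240, 216]),
   (9818449724469150224, [[], [139, 105, 213, 172, 116, 116]], [183, 111, 188, 240, 179, 253, 138, 139]),
   (9800998277930418704, [[], [72, 120, 213, 90]], [238, 221, 225, 224, 28, 120, 140, 169]),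
   (14577628633817547280, [[], [13, 253, 98, 126, 152, 215]], [154, 238, 192, 203, 135, 73, 140, 208, 101, 140]),
   (9808945545958786064, [[], [73, 68, 113, 150]], [213, 95, 129, 101, 184, 172, 240, 28, 137, 120]),
   (10245231759860302864, [[], [38, 191, 35, 84, 240, 144]], [148, 110, 105, 240, 9, 72, 238, 192, 254, 208]),
   (12117568123119338512, [[], [156, 49, 69, 23]], [165, 208, 143, 195, 225, 28, 243, 246]),
   (597905642191323664, [[], [161, 238, 144, 116]], [75, 231, 34, 231, 40, 70, 70, 84, 152, 183]),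
   (9224555124389708304, [[], [40, 133, 84, 53]], [140, 93, 15, 129, 254, 49]),
   (9801015878706397712, [[], [110, 154]], [84, 90, 150, 176, 133, 172, 132, 238, 239, 41]),
   (14577646234593526288, [[], [90, 201, 225, 12, 243, 131]], [253, 98, 146, 173, 10, 111, 15, 84]),
   (594538937553519120, [[], [100, 203, 54, 44, 200, 213]], [131, 132, 125, 116, 188, 72, 210, 218, 45, 38]),
   (9224005368574641168, [[], [95, 173, 93, 164]], [93, 74, 81, 100, 139, 169, 21, 194, 140, 231]),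
   (9800466122891330576, [[], [192, 90, 75, 133]], [216, 233, 203, 246, 123, 144]),
   (12698532481090978832, [[], [50, 137, 142, 75, 238, 12]], [45, 35, 39, 160, 156, 169, 195, 218]),
   (13274993236212974608, [[], [131, 184, 183, 245, 179, 113]], [45, 194, 179, 168, 99, 142]),
   (9225184045039617040, [[], [93, 137]], [141, 187, 136, 161, 88, 254, 101, 41, 188, 240]),
   (9801644799356306448, [[]], []),
   (12699711157555954704, [[], [11, 26, 201, 21, 110, 71]], [213, 63, 216, 161, 81, 224, 245, 254]),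
   (13276171912677950480, [[], [45, 172, 134, 201, 218, 21]], [86, 13, 133, 110, 95, 172, 192, 60, 202, 246]),
   (9241388647406907408, [[], [93, 251, 152, 132, 26, 21]], [231, 136, 150, 125, 73, 248, 53, 132]),
   (9817849401723596816, [[], [53, 84]], [83, 135, 129, 131, 99, 110, 19, 50, 164, 245]),
   (597855065667022864, [[], [13, 70, 53, 225]], [41, 75, 111, 210, 81, 128, 134, 218]),
   (12700214733878603792, [[], [74, 56, 161, 135, 19, 38]], [81, 158, 83, 38, 101, 248]),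
   (12750880229753630736, [[], [69, 59, 28, 116, 128, 30]], [232, 59, 88, 233, 39, 125]),
   (10970803984155279888, [[], [192, 216, 10, 39, 193, 134], [192, 15], [243, 59, 68, 114]], [138, 168, 144, 251, 101, 223, 208, 254]),
   (15009406950003704336, [[], [90, 192, 201, 45, 215, 203]], [99, 232, 136, 12, 215, 246, 246, 168, 169, 74]),
   (10971371332155212304, [[], [34, 140, 39, 93]], [40, 142, 191, 44, 119, 152, 13, 123]),
   (10961867153644848144, [[], [184, 184, 59, 134]], [193, 225, 154, 208, 60, 88, 95, 218, 39, 164]),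
   (9241989036590236161, [[], [216, 191, 233, 100, 54, 95], [238, 120, 60, 246, 230, 176], [141, 216, 131, 134, 41, 99]], [88, 119, 148, 126, 230, 95, 180, 245, 245, 111])]

/-- `(r, ks, c)` : the product of the `k r k⁻¹` is `c x c⁻¹`, `c` odd -/
def rkO : List (ℕ × List (List ℕ) × List ℕ) :=
  [(9817882376469217808, [[], [173, 105, 11, 53, 105, 136], [13, 150], [98, 191, 53, 120]], [161, 35, 160, 44, 69, 93, 99, 139, 110]),
   (597888041415344656, [[], [168, 173, 135, 88]], [75, 176, 81, 98, 239, 134, 13]),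
   (9800993879883776528, [[], [39, 13, 111, 202]], [152, 30, 105, 23, 63, 251, 165, 193, 26]),
   (9818449724469150224, [[], [39, 188, 213, 210, 230, 176]], [203, 129, 194, 183, 150, 83, 132, 150, 216]),
   (9800998277930418704, [[], [110, 45]], [184, 60, 26, 144, 49, 216, 59]),
   (14577628633817547280, [[], [75, 83, 176, 84]], [194, 13, 201, 210, 38]),
   (9808945545958786064, [[], [74, 113, 75, 200]], [8, 9, 10, 17, 23, 224, 135, 173, 202]),
   (10245231759860302864, [[], [193, 141, 213, 28, 68, 9]], [54, 243, 119, 13, 223, 63, 142]),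
   (12117568123119338512, [[], [34, 208, 93, 49, 141, 68]], [49, 95, 132, 193, 74, 224, 128]),
   (597905642191323664, [[], [9, 129, 248, 75, 54, 148]], [126, 253, 50, 104, 148]),
   (9224555124389708304, [[], [129, 142, 15, 172, 240, 50]], [68, 192, 193, 225, 11, 15, 24]),
   (9801015878706397712, [[], [144, 224]], [114, 233, 152, 238, 165, 253, 17]),
   (14577646234593526288, [[], [245, 34, 39, 144]], [128, 202, 132, 221, 148]),
   (594538937553519120, [[], [133, 13, 83, 254, 191, 45]], [200, 201, 21, 90, 90, 59, 176, 71, 81]),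
   (9224005368574641168, [[], [240, 143]], [24, 184, 110, 131, 210, 253, 216, 30, 59]),
   (9800466122891330576, [[], [40, 84, 100, 128, 116, 110]], [169, 137, 191, 116, 184, 254, 56]),
   (12698532481090978832, [[], [116, 54, 24, 215, 60, 144]], [128, 71, 59, 224, 11, 172, 11, 73, 88]),
   (13274993236212974608, [[], [39, 126]], [138, 21, 188, 253, 30, 53, 248, 54, 251]),
   (9225184045039617040, [[], [142, 132, 40, 230, 192, 168]], [188, 95, 26, 19, 224, 70, 213, 150, 19]),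
   (9801644799356306448, [[], [200, 19, 203, 126, 202, 224]], [208, 221, 59, 90, 165, 74, 133]),
   (12699711157555954704, [[], [238, 132, 168, 142, 71, 17]], [224, 21, 116, 123, 120, 216, 123, 221, 26]),
   (13276171912677950480, [[], [110, 218]], [187, 150, 213, 223, 233]),
   (9241388647406907408, [[], [74, 191, 38, 203, 8, 73]], [63, 156, 200, 113, 11, 215, 8]),
   (9817849401723596816, [[], [56, 74, 187, 44]], [191, 193, 100, 221, 14, 75, 113]),
   (597855065667022864, [[], [187, 50, 126, 131, 143, 152]], [168, 110, 225, 156, 9, 9, 238, 83, 114]),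
   (12700214733878603792, [[], [23, 239, 158, 238, 246, 9]], [148, 231, 120, 21, 68]),
   (12750880229753630736, [[], [143, 8, 17, 218, 179, 83]], [138, 125, 41, 21, 254, 230, 233, 63, 104]),
   (10970803984155279888, [[], [75, 35, 140, 114], [142, 114], [164, 88, 184, 49]], [54, 56, 90, 30, 116, 142, 203]),
   (15009406950003704336, [[], [98, 195, 44, 158]], [70, 216, 28, 194, 40, 179, 230, 128, 213]),
   (10971371332155212304, [[], [176, 134, 254, 158, 93, 125]], [114, 116, 98, 201, 119, 164, 224]),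
   (10961867153644848144, [[], [50, 188, 70, 50]], [21, 73, 114, 172, 187, 49, 192]),
   (9241989036590236161, [[], [169, 218], [142, 41, 105, 194], [136, 72, 129, 126]], [56, 194, 231, 19, 70, 240, 165])]

/-- check -/
def chkR (e : ℕ) (p : ℕ × List (List ℕ) × List ℕ) : Bool :=
  (p.2.1.all fun k => k.all okw && (k.length % 2 == 0)) && p.2.2.all okw && Nat.blt p.2.1.length 5 &&
    (p.2.2.length % 2 == e) && (List.range 8).all fun i => evP p.1 p.2.1 (2 ^ i) == evC X21 p.2.2 (2 ^ i)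

theorem rkE_ok : (rkE.all (chkR 0) && (rkE.map Prod.fst == cert.map Prod.fst)) = true := by
  delta chkR
  rewrite [eC_eq, eP_eq]
  decide +kernel
theorem rkO_ok : (rkO.all (chkR 1) && (rkO.map Prod.fst == cert.map Prod.fst)) = true := by
  delta chkR
  rewrite [eC_eq, eP_eq]
  decide +kernel

theorem rk_of {e : ℕ} {l : List (ℕ × List (List ℕ) × List ℕ)}
    (hl : (l.all (chkR e) && (l.map Prod.fst == cert.map Prod.fst)) = true)
    {c : ℕ} (hc : c ∈ cert.map Prod.fst) {r : O8} (hr : act.Rep r c) :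
    ∃ (ks : List O8) (k : O8), ks.length ≤ 4 ∧ (∀ t ∈ ks, t ∈ N8) ∧ (k ∈ N8 ↔ e = 0) ∧
      (ks.map fun t => t * r * t⁻¹).prod = k * x21 * k⁻¹ := by
  rw [Bool.and_eq_true, beq_iff_eq] at hl
  rw [← hl.2] at hc
  obtain ⟨p, hp, rfl⟩ := List.mem_map.1 hc
  have h1 := List.all_eq_true.1 hl.1 p hp
  rw [chkR, Bool.and_eq_true, Bool.and_eq_true, Bool.and_eq_true, Bool.and_eq_true, beq_iff_eq, Nat.blt_eq,
    List.all_eq_true] at h1
  obtain ⟨⟨⟨⟨h2, h3⟩, h4⟩, h5⟩, h6⟩ := h1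
  have h7 : ∀ k ∈ p.2.1, k.all okw = true := fun k hk => by
    have := h2 k hk
    rw [Bool.and_eq_true] at this
    exact this.1
  refine ⟨p.2.1.map wd, wd p.2.2, by rw [List.length_map]; omega, ?_, by rw [wd_mem h3, h5], ?_⟩
  · intro t ht
    obtain ⟨k, hk, rfl⟩ := List.mem_map.1 ht
    have := h2 k hk
    rw [Bool.and_eq_true, beq_iff_eq] at this
    rw [wd_mem (h7 k hk), this.2]
  · have h8 : ∀ i < 8, evP p.1 p.2.1 (2 ^ i) = evC X21 p.2.2 (2 ^ i) := fun i hi => by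
      have h9 := List.all_eq_true.1 h6 i (List.mem_range.2 hi)
      rw [beq_iff_eq] at h9
      exact h9
    have hv : Val ((p.2.1.map fun k => wd k * r * (wd k)⁻¹).prod) (evP p.1 p.2.1) := val_P (val_of_rep hr) h7
    have hw : Val (wd p.2.2 * x21 * (wd p.2.2)⁻¹) (evC X21 p.2.2) := val_C val_x21 h3
    have e : ((p.2.1.map wd).map fun t => t * r * t⁻¹) = p.2.1.map fun k => wd k * r * (wd k)⁻¹ := by
      rw [List.map_map, Function.comp_def]
    rw [e]
    exact hv.eq_of hw h8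

theorem conj_prod (h r : O8) : ∀ ks : List O8,
    (ks.map fun t => (h * t * h⁻¹) * (h * r * h⁻¹) * (h * t * h⁻¹)⁻¹).prod = h * (ks.map fun t => t * r * t⁻¹).prod * h⁻¹
  | [] => by simp
  | t :: ks => by
    rw [List.map_cons, List.prod_cons, conj_prod h r ks, List.map_cons, List.prod_cons]
    group

/-- **RK** -/
theorem rank21 {x l : O8} (ho : orderOf x = 21) (hl : l ∈ N8) (h1 : l ≠ 1) :
    ∃ L : List O8, L.length ≤ 4 ∧ (∀ t ∈ L, ∃ k ∈ N8, t = k * l * k⁻¹) ∧ ∃ k ∈ N8, L.prod = k * x * k⁻¹ := by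
  obtain ⟨m, rfl⟩ := conj21 ho
  obtain ⟨c, hc, h, r, hr, rfl⟩ := rep_of hl h1
  have key : ∃ (ks : List O8) (k : O8), ks.length ≤ 4 ∧ (∀ t ∈ ks, t ∈ N8) ∧ (k ∈ N8 ↔ (h ∈ N8 ↔ m ∈ N8)) ∧
      (ks.map fun t => t * r * t⁻¹).prod = k * x21 * k⁻¹ := by
    by_cases hp : h ∈ N8 ↔ m ∈ N8
    · obtain ⟨ks, k, h2, h3, h4, h5⟩ := rk_of rkE_ok hc hr
      exact ⟨ks, k, h2, h3, by simp [h4, hp], h5⟩
    · obtain ⟨ks, k, h2, h3, h4, h5⟩ := rk_of rkO_ok hc hr
      exact ⟨ks, k, h2, h3, by simp only [h4, hp]; decide, h5⟩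
  obtain ⟨ks, k, h2, h3, h4, h5⟩ := key
  refine ⟨ks.map fun t => (h * t * h⁻¹) * (h * r * h⁻¹) * (h * t * h⁻¹)⁻¹, by rw [List.length_map]; exact h2, ?_,
    h * k * m⁻¹, ?_, ?_⟩
  · intro t ht
    obtain ⟨s, hs, rfl⟩ := List.mem_map.1 ht
    exact ⟨h * s * h⁻¹, (inferInstance : N8.Normal).conj_mem s (h3 s hs) h, rfl⟩
  · rw [mem_mul_iff, mem_mul_iff, h4, inv_mem_iff]
    exact iff_aux _ _
  · rw [conj_prod, h5]; group

/-! ### the same inside the group `N8` -/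

end Cfsg.Agent.H181.O8m
end

-- part: H240/F4/CovRk
section
/-!
# `L₄ ≃ Ω₈⁻(2)` from a homomorphism whose range contains the eight root elements; the class cover and the rank lists in `L₄`
(helper240, row F4 of S2491)
-/

set_option autoImplicit false

namespace Cfsg.Agent.H240.F4

open Cfsg.Agent.H181.O8m Cfsg.Agent.LieClassical.OrthCore Cfsg.Agent.LieClassical.OmegaReindex
  Cfsg.Agent.LieClassical.OrthFinite
open Cfsg.Agent.H231.QF

universe u

instance finV : Finite (V ≃ₗ[ZMod 2] V) := Finite.of_injective (fun e : V ≃ₗ[ZMod 2] V => (e : V → V)) fun _ _ h =>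
  LinearEquiv.ext fun x => congrFun h x

theorem card_N8_ge : 197406720 ≤ Nat.card ↥N8 := by
  have h1 : Nat.card (Cfsg.POmega (ZMod 2) (Cfsg.quadFormMinus 3 (ZMod 2) 1 1)) = 197406720 := by
    have hN := Cfsg.Agent.S0294.result (F := ZMod 2) (ZMod.card 2) 4 (by norm_num) 1 1 aniso
    norm_num [Finset.prod_range_succ] at hN
    omega
  rw [← coe_quadMinus] at h1
  have h2 : Nat.card ↥N8 = Nat.card ↥(commutator (Cfsg.isometryGroup (ZMod 2) ⇑q)) := by
    rw [← map_N8]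
    exact Nat.card_congr (Subgroup.equivMapOfInjective _ _ (isometryEquiv q).injective).toEquiv.symm
  rw [h2, ← h1]
  exact Nat.card_le_card_of_surjective
    (QuotientGroup.mk : ↥(commutator (Cfsg.isometryGroup (ZMod 2) ⇑q)) → Cfsg.POmega (ZMod 2) ⇑q)
    QuotientGroup.mk_surjective

section

variable {F : Type u} [Field F] [Fintype F] (hF : Fintype.card F = 4) {φ : F →+* F} (hφ : ∀ t, φ t = t ^ 2)

include hF hφ

/-- a homomorphism `L₄ → O₈⁻(2)` whose range contains the eight root elements is injective with range `Ω₈⁻(2)` -/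
theorem range_eq (ψ : ↥(Lv φ j4) →* ↥O8) (hgen : ∀ g : ↥O8, IsG g → g ∈ ψ.range) :
    Function.Injective ψ ∧ ψ.range = N8 := by
  have h1 : N8 ≤ ψ.range := N8_le hgen
  have h2 : Nat.card ↥N8 ≤ Nat.card ↥ψ.range := Nat.card_le_card_of_injective _ (Subgroup.inclusion_injective h1)
  have h3 : Nat.card ↥ψ.range ≤ Nat.card ↥(Lv φ j4) := Nat.card_le_card_of_surjective _ ψ.rangeRestrict_surjective
  have h4 := card_Lv hF hφ
  have h5 := card_N8_ge
  constructor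
  · have h6 : Function.Bijective ψ.rangeRestrict :=
      (Nat.bijective_iff_surjective_and_card _).2 ⟨ψ.rangeRestrict_surjective, by omega⟩
    intro a b hab
    exact h6.1 (Subtype.ext hab)
  · exact (Subgroup.eq_of_le_of_card_ge h1 (by omega)).symm

/-- **iden** from `ψ` -/
theorem iden_of (ψ : ↥(Lv φ j4) →* ↥O8) (hgen : ∀ g : ↥O8, IsG g → g ∈ ψ.range) :
    Nonempty (↥(Lv φ j4) ≃* ↥N8) := by
  obtain ⟨h1, h2⟩ := range_eq hF hφ ψ hgen
  exact ⟨(MonoidHom.ofInjective h1).trans (MulEquiv.subgroupCongr h2)⟩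

end

section

variable {F : Type u} [Field F] {φ : F →+* F}

/-- **the class cover in `L₄`** (helper590's `cover`) -/
theorem cover_of (e : Nonempty (↥(Lv φ j4) ≃* ↥N8)) (x : KK F) (hx : x ∈ Lv φ j4) (ho : orderOf x = 21)
    (l : KK F) (hl : l ∈ Lv φ j4) (hl1 : l ≠ 1) :
    ∃ a ∈ Lv φ j4, ∃ b ∈ Lv φ j4, l = a * x * a⁻¹ * (b * x⁻¹ * b⁻¹) := by
  obtain ⟨e⟩ := e
  exact cover_transport e (fun _ ho' hl' hl1' => cover21 ho' hl' hl1') hx ho l hl hl1

/-- **the rank lists in `L₄`** (helper590's `rank`) -/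
theorem rank_of (e : Nonempty (↥(Lv φ j4) ≃* ↥N8)) (x : KK F) (hx : x ∈ Lv φ j4) (ho : orderOf x = 21)
    (l : KK F) (hl : l ∈ Lv φ j4) (hl1 : l ≠ 1) :
    ∃ L : List (KK F), L.length ≤ 5 ∧ (∀ t ∈ L, ∃ k ∈ Lv φ j4, t = k * l * k⁻¹ ∨ t = k * l⁻¹ * k⁻¹) ∧
      ∃ k ∈ Lv φ j4, L.prod = k * x * k⁻¹ := by
  obtain ⟨e⟩ := e
  exact rank_transport e (m := 5) (fun _ ho' hl' hl1' => by
    obtain ⟨L, h1, h2⟩ := rank21 ho' hl' hl1'
    exact ⟨L, by omega, h2⟩) hx ho l hl hl1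

end

end Cfsg.Agent.H240.F4
end

-- part: H590/F4/P4Iden
section
/-!
# P4 from the identification of `L₄` with `Ω₈⁻(2)` and the pairs (helper590, row F4 of S2491)
-/

set_option autoImplicit false

namespace Cfsg.Agent.H590.F4

open Cfsg.Lie Subgroup
open Cfsg.Agent.H51.Mult (PCE)
open Cfsg.Agent.H777.Ore (IsC)
open Cfsg.Agent.H231.QF
open Cfsg.Agent.H181.O8m

universe u v

/-- **P4** from `ψ : L₄ → O₈⁻(2)` and `BF` -/
theorem p4_of_iden {F : Type u} [Field F] [Fintype F] (hF : Fintype.card F = 4) {φ : F →+* F} (hφ : ∀ t, φ t = t ^ 2)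
    {p : Multiplicative V →* KK F} (hp : Function.Injective p) (hpr : p.range = V2 φ) {ψ : ↥(Lv φ j4) →* ↥O8}
    (hψ : ∀ (g : ↥(Lv φ j4)) (v : V), (g : KK F) * p (.ofAdd v) * (g : KK F)⁻¹ =
      p (.ofAdd ((ψ g : V ≃ₗ[ZMod 2] V) v)))
    (hgen : ∀ g : ↥O8, Cfsg.Agent.H240.F4.IsG g → g ∈ ψ.range) {r : V} (hr : r ≠ 0) (hqr : q r = 0)
    (hrt : p (.ofAdd r) ∈ Cfsg.Agent.BabyU.rootClass F)
    (bf : ∀ {L' : Type v} [Group L'] [Finite L'] {ρ : L' →* KK F}, PCE ρ → Nat.card ρ.ker = 4 →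
      ∀ D : Subgroup L', DF φ ρ D → BF φ ρ D)
    {L : Type v} [Group L] [Finite L] {π : L →* KK F} (hπ : PCE π) (hk : Nat.card π.ker = 12) (g : L)
    (h : π g ∈ P φ j4) (h1 : π g ∉ V φ j4) : IsC g := by
  have e := Cfsg.Agent.H240.F4.iden_of hF hφ ψ hgen
  refine p4_parts hF hφ (Cfsg.Agent.H374.QF.irr hF hφ) (Cfsg.Agent.H240.F4.cover_of e)
    (Cfsg.Agent.H240.F4.rank_of e) ?_ hπ hk g h h1
  intro L' _ _ ρ hρ h4
  obtain ⟨D, hD⟩ := Cfsg.Agent.H584.F4.ExD.exists_D_of_iden hF hφ hp hpr hψ hgen hr hqr hrt hρ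
  exact ⟨D, hD, bf hρ h4 D hD⟩

end Cfsg.Agent.H590.F4
end

private theorem dce_de9512b3f5f2 : _root_.True := by
  try have : _root_.True := by simp only [_root_.Cfsg.Agent.H181.O8m.chkR.eq_1]
  try have : _root_.True := by simp only [_root_.Cfsg.Agent.H181.O8m.okw.eq_1]
  try have : _root_.True := by simp only [_root_.Cfsg.Agent.H181.O8m.wd.eq_def]
  try have : _root_.True := by simp only [_root_.Cfsg.Agent.H584.F4.Fus.st.eq_1]
  try have : _root_.True := by simp only [_root_.Cfsg.Agent.H181.O8m.isone.eq_1]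
  try have : _root_.True := by simp only [_root_.Cfsg.Agent.H181.O8m.wd.eq_2]
  try have : _root_.True := by simp only [_root_.Cfsg.Agent.H181.O8m.wd.eq_1]
  try have : _root_.True := by simp only [_root_.Cfsg.Agent.H181.O8m.chkV.eq_1]
  exact _root_.True.intro
end

-- part: H461/QF/P1_mg
section
prune_inst 0x20080040000000000000008000000010000400004004000421010000084060000220000c0000114000080000000440000000900000000000000000000000001000100401000000000010000000000000000000000000000000000000000000000000000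
set_option linter.all false
open scoped Cfsg.Agent.FastGrp

-- part: H201/F4/Rad
section
/-!
# The coset lemma for a class two group with a radical (helper201, row 2E6(2) of S2491)

`Q ⊴ H` finite, `z ∈ Q` a central involution of `H`, `Q/⟨z⟩` elementary abelian, the commutator form has
a radical `R` (= the centre of `Q`) on which `H` acts trivially.  If `V = Q/⟨z⟩` satisfies
`V = [V, ⟨a, b⟩]` and the rank of `c - 1` on `V/R` is larger than twice the dimension of `R`, then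
`c ∈ Q [a, b]` is `[q₁ a, q₂ b]` with `qᵢ ∈ Q`.  (`H6.ORE.ES.step` is the case `R = 0`.)
-/

set_option autoImplicit false

namespace Cfsg.Agent.H201.F4

universe u

open Module Cfsg.Agent.H6.ORE

theorem rank_rad {V : Type*} [AddCommGroup V] [Module (ZMod 2) V] [FiniteDimensional (ZMod 2) V]
    (ω : LinearMap.BilinForm (ZMod 2) V) (hs : ∀ x y, ω x y = ω y x)
    (α β β' γ : V ≃ₗ[ZMod 2] V) (hα : ∀ x y, ω (α x) (α y) = ω x y)
    (hβ : ∀ x y, ω (β x) (β y) = ω x y)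
    (hβ' : ∀ x y, ω (β' x) (β' y) = ω x y) (hγ : ∀ x y, ω (γ x) (γ y) = ω x y)
    (e1 : ∀ x, β' (α x) = α (β x)) (e2 : ∀ x, γ (β x) = β' x)
    (R F : Submodule (ZMod 2) V) (hR : ∀ x, x ∈ R ↔ ∀ y, ω x y = 0)
    (hRα : ∀ x ∈ R, α x = x) (hRβ : ∀ x ∈ R, β x = x) (hF : ∀ x, x ∈ F ↔ γ x + x ∈ R)
    (hφ : ∀ w, ∃ r₁ r₂, r₁ + β' r₁ + (α r₂ + γ r₂) = w)
    (hB : ∀ q₁ q₂ r₁ r₂, q₁ + β' q₁ + (α q₂ + γ q₂) = 0 → r₁ + β' r₁ + (α r₂ + γ r₂) = 0 →
      ω q₁ (α r₂) + ω (β' r₁) (γ q₂) = 0) :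
    finrank (ZMod 2) V ≤ finrank (ZMod 2) F + 2 * finrank (ZMod 2) R := by
  classical
  have two : ∀ v : V, v + v = 0 := by
    intro v
    have : (2 : ZMod 2) • v = 0 := by
      rw [show (2 : ZMod 2) = 0 from rfl, zero_smul]
    rwa [two_smul] at this
  have neg : ∀ v : V, -v = v := fun v => neg_eq_of_add_eq_zero_left (two v)
  let φ : V × V →ₗ[ZMod 2] V :=
    (LinearMap.id + β'.toLinearMap).comp (LinearMap.fst _ V V)
      + (α.toLinearMap + γ.toLinearMap).comp (LinearMap.snd _ V V)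
  have hφa : ∀ r : V × V, φ r = r.1 + β' r.1 + (α r.2 + γ r.2) := fun r => rfl
  have hsurj : Function.Surjective φ := by
    intro w
    obtain ⟨r₁, r₂, h⟩ := hφ w
    exact ⟨(r₁, r₂), h⟩
  let ψ : V →ₗ[ZMod 2] V × V :=
    LinearMap.prod (LinearMap.id + α.toLinearMap) (LinearMap.id + β.toLinearMap)
  have hψa : ∀ x, ψ x = (x + α x, x + β x) := fun x => rfl
  -- the functional of `q`
  let ω' : V →ₗ[ZMod 2] (V →ₗ[ZMod 2] ZMod 2) := ω
  let Λ : V × V →ₗ[ZMod 2] (V × V →ₗ[ZMod 2] ZMod 2) :=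
    ((LinearMap.lcomp (ZMod 2) (ZMod 2) (α.toLinearMap.comp (LinearMap.snd (ZMod 2) V V))).comp ω).comp
        (LinearMap.fst (ZMod 2) V V)
      + ((LinearMap.lcomp (ZMod 2) (ZMod 2) (β'.toLinearMap.comp (LinearMap.fst (ZMod 2) V V))).comp
          (LinearMap.comp ω' γ.toLinearMap)).comp (LinearMap.snd (ZMod 2) V V)
  have hΛ : ∀ q r : V × V, Λ q r = ω q.1 (α r.2) + ω (γ q.2) (β' r.1) := fun q r => rfl
  have hker : ∀ q ∈ LinearMap.ker φ, Λ q ∈ LinearMap.range φ.dualMap := by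
    intro q hq
    rw [LinearMap.range_dualMap_eq_dualAnnihilator_ker, Submodule.mem_dualAnnihilator]
    intro r hr
    rw [hΛ, hs (γ q.2)]
    exact hB q.1 q.2 r.1 r.2 (by simpa only [hφa, _root_.LinearMap.mem_ker] using hq) (by simpa only [hφa, _root_.LinearMap.mem_ker] using hr)
  -- the functionals of the form `ω x`
  let I : Submodule (ZMod 2) (Dual (ZMod 2) V) := LinearMap.range ω
  let J : Submodule (ZMod 2) (Dual (ZMod 2) (V × V)) := I.map φ.dualMap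
  let N₁ : Submodule (ZMod 2) (V × V) := LinearMap.ker φ ⊓ J.comap Λ
  have hkω : LinearMap.ker ω = R := by
    ext x
    rw [LinearMap.mem_ker, hR]
    exact ⟨fun h y => by rw [h]; rfl, fun h => LinearMap.ext h⟩
  have hI : finrank (ZMod 2) I + finrank (ZMod 2) R = finrank (ZMod 2) V := by
    have := LinearMap.finrank_range_add_finrank_ker ω
    rw [hkω] at this
    exact this
  have hdinj : Function.Injective φ.dualMap := LinearMap.dualMap_injective_of_surjective hsurj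
  have hJ : finrank (ZMod 2) J = finrank (ZMod 2) I :=
    (LinearEquiv.finrank_eq (Submodule.equivMapOfInjective φ.dualMap hdinj I)).symm
  have hrd : finrank (ZMod 2) (LinearMap.range φ.dualMap) = finrank (ZMod 2) V := by
    rw [LinearMap.finrank_range_of_inj hdinj, Subspace.dual_finrank_eq]
  have hkφ : finrank (ZMod 2) (LinearMap.ker φ) = finrank (ZMod 2) V := by
    have h2 := LinearMap.finrank_range_add_finrank_ker φ
    rw [LinearMap.range_eq_top.2 hsurj, finrank_top, Module.finrank_prod] at h2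
    omega
  -- dimension of `N₁`
  have hN₁ : finrank (ZMod 2) V ≤ finrank (ZMod 2) N₁ + finrank (ZMod 2) R := by
    let Λ' : LinearMap.ker φ →ₗ[ZMod 2] Dual (ZMod 2) (V × V) := Λ.comp (LinearMap.ker φ).subtype
    have hle : LinearMap.range Λ' ≤ LinearMap.range φ.dualMap := by
      rintro _ ⟨q, rfl⟩
      exact hker q.1 q.2
    let M := LinearMap.range Λ' ⊓ J
    have h1 : finrank (ZMod 2) (LinearMap.range Λ') ≤ finrank (ZMod 2) M + finrank (ZMod 2) R := by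
      have h3 := Submodule.finrank_sup_add_finrank_inf_eq (LinearMap.range Λ') J
      have h4 : LinearMap.range Λ' ⊔ J ≤ LinearMap.range φ.dualMap :=
        sup_le hle (by rintro _ ⟨f, -, rfl⟩; exact ⟨f, rfl⟩)
      have h5 := Submodule.finrank_mono h4
      rw [hrd] at h5
      have h6 : finrank (ZMod 2) M = finrank (ZMod 2) ↥(LinearMap.range Λ' ⊓ J) := rfl
      omega
    have h2 := LinearMap.finrank_range_add_finrank_ker Λ'
    -- `N₁` maps onto `M` with kernel containing `ker Λ'`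
    let N₂ : Submodule (ZMod 2) (LinearMap.ker φ) := J.comap Λ'
    have h7 : N₂.map (LinearMap.ker φ).subtype = N₁ := by
      ext q
      constructor
      · rintro ⟨r, hr, rfl⟩
        exact ⟨r.2, hr⟩
      · rintro ⟨h8, h9⟩
        exact ⟨⟨q, h8⟩, h9, rfl⟩
    have h8 : finrank (ZMod 2) N₁ = finrank (ZMod 2) N₂ := by
      rw [← h7]
      exact (LinearEquiv.finrank_eq (Submodule.equivMapOfInjective _ (Submodule.subtype_injective _) N₂)).symm
    have h9 := LinearMap.finrank_range_add_finrank_ker (Λ'.comp N₂.subtype)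
    have h10 : LinearMap.range (Λ'.comp N₂.subtype) = M := by
      ext f
      constructor
      · rintro ⟨r, rfl⟩
        exact ⟨⟨r.1, rfl⟩, r.2⟩
      · rintro ⟨⟨r, rfl⟩, h11⟩
        exact ⟨⟨r, h11⟩, rfl⟩
    have h11 : finrank (ZMod 2) (LinearMap.ker Λ') ≤ finrank (ZMod 2) (LinearMap.ker (Λ'.comp N₂.subtype)) := by
      have h12 : LinearMap.ker Λ' ≤ (LinearMap.ker (Λ'.comp N₂.subtype)).map N₂.subtype := by
        intro r hr
        have h13 : Λ' r = 0 := hr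
        exact ⟨⟨r, by show Λ' r ∈ J; rw [h13]; exact J.zero_mem⟩, h13, rfl⟩
      exact (Submodule.finrank_mono h12).trans (Submodule.finrank_map_le _ _)
    rw [h10] at h9
    omega
  -- key inclusion
  have key : N₁ ≤ F.map ψ ⊔ R.prod R := by
    rintro q ⟨hq, hqJ⟩
    obtain ⟨lam, ⟨x, rfl⟩, hlam⟩ := hqJ
    have h2 : ∀ r : V × V, ω q.1 (α r.2) + ω (γ q.2) (β' r.1) = ω x (φ r) := by
      intro r
      rw [← hΛ, ← hlam]
      rfl
    have nd : ∀ u v : V, (∀ w, ω u w = ω v w) → u + v ∈ R := by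
      intro u v h
      rw [hR]
      intro w
      rw [map_add, LinearMap.add_apply, h w]
      have c2 : ∀ c : ZMod 2, c + c = 0 := by decide
      exact c2 _
    have hq1 : q.1 + (x + α (γ.symm x)) ∈ R := by
      apply nd
      intro w
      obtain ⟨w', rfl⟩ := α.surjective w
      have := h2 (0, w')
      simp only [hφa, map_zero, add_zero, zero_add] at this
      rw [this]
      simp only [map_add, LinearMap.add_apply]
      congr 1
      rw [hα]
      have h6 := hγ (γ.symm x) w'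
      rw [LinearEquiv.apply_symm_apply] at h6
      exact h6
    have hq2 : γ q.2 + (x + β' x) ∈ R := by
      apply nd
      intro w
      obtain ⟨w', rfl⟩ := β'.surjective w
      have := h2 (w', 0)
      simp only [hφa, map_zero, add_zero, zero_add] at this
      rw [this]
      simp only [map_add, LinearMap.add_apply]
      rw [hβ', add_comm]
    have hRγ : ∀ v, γ v ∈ R → v ∈ R := by
      intro v hv
      rw [hR] at hv ⊢
      intro y
      rw [← hγ]; exact hv _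
    have hq2' : q.2 + (γ.symm x + β x) ∈ R := by
      apply hRγ
      rw [map_add, map_add, LinearEquiv.apply_symm_apply, e2]
      exact hq2
    have hRβ' : ∀ v ∈ R, β' v ∈ R := by
      intro v hv
      rw [hR] at hv ⊢
      intro y
      obtain ⟨y', rfl⟩ := β'.surjective y
      rw [hβ']; exact hv _
    have hq0 : q.1 + β' q.1 + (α q.2 + γ q.2) = 0 := by simpa only [hφa, _root_.SetLike.mem_coe, _root_.LinearMap.mem_ker] using hq
    -- `γ⁻¹ x + x ∈ R`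
    have hfix : γ.symm x + x ∈ R := by
      have t1 := hRβ' _ hq1
      have t2 : α (q.2 + (γ.symm x + β x)) ∈ R := by rw [hRα _ hq2']; exact hq2'
      have t3 := R.add_mem (R.add_mem hq1 t1) (R.add_mem t2 hq2)
      have t4 : α (β (γ.symm x)) + α (β x) ∈ R := by
        have e : q.1 + (x + α (γ.symm x)) + β' (q.1 + (x + α (γ.symm x)))
            + (α (q.2 + (γ.symm x + β x)) + (γ q.2 + (x + β' x)))
            = (q.1 + β' q.1 + (α q.2 + γ q.2)) + (x + x) + (α (γ.symm x) + α (γ.symm x)) + (β' x + β' x)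
              + (α (β (γ.symm x)) + α (β x)) := by
          simp only [map_add, e1]
          abel
        rw [e, hq0] at t3
        simpa only [two, zero_add, add_zero] using t3
      rw [← map_add, ← map_add] at t4
      rw [hR] at t4 ⊢
      intro y
      rw [← hβ, ← hα]
      exact t4 _
    have hxF : x ∈ F := by
      rw [hF]
      have h5 : γ (γ.symm x + x) ∈ R := by
        rw [hR] at hfix ⊢
        intro y
        obtain ⟨y', rfl⟩ := γ.surjective y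
        rw [hγ]; exact hfix _
      rw [map_add, LinearEquiv.apply_symm_apply, add_comm] at h5
      exact h5
    have hxF' : γ.symm x + x ∈ R := hfix
    -- q = ψ x + (element of R × R)
    have g1 : q.1 + (x + α x) ∈ R := by
      have h6 : α (γ.symm x + x) ∈ R := by rw [hRα _ hfix]; exact hfix
      have h7 := R.add_mem hq1 h6
      have e : q.1 + (x + α (γ.symm x)) + α (γ.symm x + x) = q.1 + (x + α x) + (α (γ.symm x) + α (γ.symm x)) := by
        rw [map_add]; abel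
      rw [e, two, add_zero] at h7
      exact h7
    have g2 : q.2 + (x + β x) ∈ R := by
      have h7 := R.add_mem hq2' hfix
      have e : q.2 + (γ.symm x + β x) + (γ.symm x + x) = q.2 + (x + β x) + (γ.symm x + γ.symm x) := by abel
      rw [e, two, add_zero] at h7
      exact h7
    have e : q = ψ x + (q.1 + (x + α x), q.2 + (x + β x)) := by
      rw [hψa, Prod.ext_iff]
      constructor
      · show q.1 = (x + α x) + (q.1 + (x + α x))
        have : (x + α x) + (q.1 + (x + α x)) = q.1 + ((x + α x) + (x + α x)) := by abel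
        rw [this, two, add_zero]
      · show q.2 = (x + β x) + (q.2 + (x + β x))
        have : (x + β x) + (q.2 + (x + β x)) = q.2 + ((x + β x) + (x + β x)) := by abel
        rw [this, two, add_zero]
    rw [e]
    exact Submodule.add_mem_sup ⟨x, hxF, rfl⟩ ⟨g1, g2⟩
  -- dimension of `F.map ψ`
  have hRF : R ≤ F := by
    intro x hx
    rw [hF]
    refine R.add_mem ?_ hx
    rw [hR] at hx ⊢
    intro y
    obtain ⟨y', rfl⟩ := γ.surjective y
    rw [hγ]; exact hx _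
  have hFm : finrank (ZMod 2) (F.map ψ) + finrank (ZMod 2) R ≤ finrank (ZMod 2) F := by
    let ψ' : F →ₗ[ZMod 2] V × V := ψ.comp F.subtype
    have h1 := LinearMap.finrank_range_add_finrank_ker ψ'
    have h2 : LinearMap.range ψ' = F.map ψ := by
      rw [LinearMap.range_comp, Submodule.range_subtype]
    have h3 : finrank (ZMod 2) R ≤ finrank (ZMod 2) (LinearMap.ker ψ') := by
      have h4 : R ≤ (LinearMap.ker ψ').map F.subtype := by
        intro x hx
        refine ⟨⟨x, hRF hx⟩, ?_, rfl⟩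
        show ψ x = 0
        rw [hψa, hRα x hx, hRβ x hx, two]
        rfl
      exact (Submodule.finrank_mono h4).trans (Submodule.finrank_map_le _ _)
    rw [h2] at h1
    omega
  have h1 := Submodule.finrank_mono key
  have h2 := Submodule.finrank_add_le_finrank_add_finrank (F.map ψ) (R.prod R)
  have h3 : finrank (ZMod 2) (R.prod R) ≤ finrank (ZMod 2) R + finrank (ZMod 2) R := by
    have h4 : R.prod R ≤ R.map (LinearMap.inl (ZMod 2) V V) ⊔ R.map (LinearMap.inr (ZMod 2) V V) := by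
      rintro ⟨u, v⟩ ⟨hu, hv⟩
      have : (u, v) = LinearMap.inl (ZMod 2) V V u + LinearMap.inr (ZMod 2) V V v := by
        simp
      rw [this]
      exact Submodule.add_mem_sup ⟨u, hu, rfl⟩ ⟨v, hv, rfl⟩
    have h5 := Submodule.finrank_mono h4
    have h6 := Submodule.finrank_add_le_finrank_add_finrank (R.map (LinearMap.inl (ZMod 2) V V))
      (R.map (LinearMap.inr (ZMod 2) V V))
    have h7 := Submodule.finrank_map_le (LinearMap.inl (ZMod 2) V V) R
    have h8 := Submodule.finrank_map_le (LinearMap.inr (ZMod 2) V V) R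
    omega
  omega

/-- `Q` is a normal subgroup of class two with commutator subgroup `⟨z⟩`, `z` central in `H`; `H` acts
trivially on the radical modulo `z` -/
structure EZ {H : Type*} [Group H] (Q : Subgroup H) (z : H) : Prop where
  normal : Q.Normal
  mem : z ∈ Q
  ne : z ≠ 1
  sq : z * z = 1
  central : ∀ h : H, h * z = z * h
  comm : ∀ x ∈ Q, ∀ y ∈ Q, x * y = y * x ∨ x * y = y * x * z
  pow : ∀ x ∈ Q, x * x = 1 ∨ x * x = z
  rad : ∀ x ∈ Q, (∀ y ∈ Q, x * y = y * x) → ∀ g : H, g * x * g⁻¹ = x ∨ g * x * g⁻¹ = x * z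

variable {H : Type u} [Group H] {Q : Subgroup H} {z : H}

theorem EZ.mem_zpowers (h : EZ Q z) {x : H} : x ∈ Subgroup.zpowers z ↔ x = 1 ∨ x = z := by
  constructor
  · rintro ⟨n, rfl⟩
    have h2 : z ^ (2 : ℤ) = 1 := by
      rw [zpow_two]; exact h.sq
    rcases Int.even_or_odd' n with ⟨k, hk | hk⟩
    · left
      show z ^ n = 1
      rw [hk, zpow_mul, h2, one_zpow]
    · right
      show z ^ n = z
      rw [hk, zpow_add, zpow_mul, h2, one_zpow, one_mul, zpow_one]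
  · rintro (rfl | rfl)
    · exact Subgroup.one_mem _
    · exact Subgroup.mem_zpowers _

theorem EZ.normal_zpowers (h : EZ Q z) : (Subgroup.zpowers z).Normal := by
  refine ⟨fun x hx g => ?_⟩
  rw [h.mem_zpowers] at hx ⊢
  rcases hx with rfl | rfl
  · left; simp
  · right; rw [h.central]; simp

/-- the coset lemma modulo `z` -/
theorem EZ.step_mod (h : EZ Q z) {a b c : H} (hfp : FPz Q z a b)
    (hc : c * (a * b * a⁻¹ * b⁻¹)⁻¹ ∈ Q) :
    ∃ q₁ ∈ Q, ∃ q₂ ∈ Q, ∃ ζ : H, (ζ = 1 ∨ ζ = z) ∧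
      c * ζ = (q₁ * a) * (q₂ * b) * (q₁ * a)⁻¹ * (q₂ * b)⁻¹ := by
  have hn := h.normal
  have hz := h.normal_zpowers
  let π : H →* H ⧸ Subgroup.zpowers z := QuotientGroup.mk' _
  have hπs : Function.Surjective π := QuotientGroup.mk'_surjective _
  have hπk : ∀ x, π x = 1 ↔ (x = 1 ∨ x = z) := by
    intro x
    rw [← h.mem_zpowers]
    exact QuotientGroup.eq_one_iff x
  have hπz : π z = 1 := (hπk z).2 (Or.inr rfl)
  have hπe : ∀ x y, π x = π y → ∃ ζ : H, (ζ = 1 ∨ ζ = z) ∧ x * ζ = y := by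
    intro x y hxy
    refine ⟨x⁻¹ * y, ?_, by group⟩
    rw [← hπk, map_mul, map_inv, hxy, inv_mul_cancel]
  have hAn : (Q.map π).Normal := hn.map π hπs
  have hAc : ∀ x ∈ Q.map π, ∀ y ∈ Q.map π, x * y = y * x := by
    rintro _ ⟨x, hx, rfl⟩ _ ⟨y, hy, rfl⟩
    rw [← map_mul, ← map_mul]
    rcases h.comm x hx y hy with e | e
    · rw [e]
    · rw [e, map_mul π (y * x) z, hπz, mul_one]
  have hAf : FP (Q.map π) (π a) (π b) := by
    rintro _ ⟨w, hw, rfl⟩
    obtain ⟨u, hu, v, hv, ζ, hζ, e⟩ := hfp w hw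
    refine ⟨π u, ⟨u, hu, rfl⟩, π v, ⟨v, hv, rfl⟩, ?_⟩
    rw [e, map_mul, (hπk ζ).2 hζ, mul_one]
    simp only [map_mul, map_inv]
  have hcA : π c * (π a * π b * (π a)⁻¹ * (π b)⁻¹)⁻¹ ∈ Q.map π := by
    refine ⟨_, hc, ?_⟩
    simp only [map_mul, map_inv]
  obtain ⟨_, ⟨q₁, h₁, rfl⟩, _, ⟨q₂, h₂, rfl⟩, e⟩ := exists_comm_of_FP hAn hAc hAf hcA
  have e' : π c = π ((q₁ * a) * (q₂ * b) * (q₁ * a)⁻¹ * (q₂ * b)⁻¹) := by
    rw [e]; simp only [map_mul, map_inv]
  obtain ⟨ζ, hζ, e''⟩ := hπe _ _ e'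
  exact ⟨q₁, h₁, q₂, h₂, ζ, hζ, e''⟩

theorem EZ.conj_mem (h : EZ Q z) {x : H} (hx : x ∈ Q) (g : H) : g * x * g⁻¹ ∈ Q :=
  h.normal.conj_mem x hx g

/-- elements of `Q` act trivially modulo `z` -/
theorem EZ.conj_eq (h : EZ Q z) {p x : H} (hp : p ∈ Q) (hx : x ∈ Q) :
    ∃ ζ : H, (ζ = 1 ∨ ζ = z) ∧ p * x * p⁻¹ = x * ζ := by
  rcases h.comm p hp x hx with e | e
  · exact ⟨1, Or.inl rfl, by rw [e]; group⟩
  · refine ⟨z, Or.inr rfl, ?_⟩
    rw [e, mul_assoc (x * p), ← h.central]; group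

theorem EZ.zz (h : EZ Q z) {ζ ξ : H} (h1 : ζ = 1 ∨ ζ = z) (h2 : ξ = 1 ∨ ξ = z) :
    ζ * ξ = 1 ∨ ζ * ξ = z := by
  rcases h1 with rfl | rfl <;> rcases h2 with rfl | rfl
  · simp
  · simp
  · simp
  · left; exact h.sq

theorem EZ.zc (h : EZ Q z) {ζ : H} (h1 : ζ = 1 ∨ ζ = z) (g : H) : g * ζ = ζ * g := by
  rcases h1 with rfl | rfl
  · simp
  · exact h.central g

theorem EZ.zi (h : EZ Q z) {ζ : H} (h1 : ζ = 1 ∨ ζ = z) : ζ⁻¹ = ζ := by
  rcases h1 with rfl | rfl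
  · simp
  · exact inv_eq_of_mul_eq_one_right h.sq

theorem EZ.fpz_mul_left (h : EZ Q z) {a b p₁ p₂ : H} (hfp : FPz Q z a b) (h₁ : p₁ ∈ Q) (h₂ : p₂ ∈ Q) :
    FPz Q z (p₁ * a) (p₂ * b) := by
  intro w hw
  obtain ⟨u, hu, v, hv, ζ, hζ, e⟩ := hfp w hw
  obtain ⟨ξ, hξ, e₁⟩ := h.conj_eq h₂ (h.conj_mem hu b)
  obtain ⟨η, hη, e₂⟩ := h.conj_eq h₁ (h.conj_mem hv a)
  refine ⟨u, hu, v, hv, ξ * η * ζ, h.zz (h.zz hξ hη) hζ, ?_⟩
  have e₁' : p₂ * b * u * (p₂ * b)⁻¹ = b * u * b⁻¹ * ξ := by rw [← e₁]; group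
  have e₂' : p₁ * a * v * (p₁ * a)⁻¹ = a * v * a⁻¹ * η := by rw [← e₂]; group
  rw [e₁', e₂', mul_inv_rev (b * u * b⁻¹) ξ, mul_inv_rev (a * v * a⁻¹) η, h.zi hξ, h.zi hη, e]
  have c₁ := h.zc hξ
  have c₂ := h.zc hη
  calc u * (b * u * b⁻¹)⁻¹ * (v * (a * v * a⁻¹)⁻¹) * ζ
      = u * (b * u * b⁻¹)⁻¹ * (v * (a * v * a⁻¹)⁻¹) * (ξ * ξ⁻¹) * (η * η⁻¹) * ζ := by group
    _ = u * (b * u * b⁻¹)⁻¹ * (v * (a * v * a⁻¹)⁻¹) * (ξ * ξ) * (η * η) * ζ := by
        rw [h.zi hξ, h.zi hη]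
    _ = u * (b * u * b⁻¹)⁻¹ * ((v * (a * v * a⁻¹)⁻¹) * ξ) * (ξ * η) * (η * ζ) := by group
    _ = u * (b * u * b⁻¹)⁻¹ * (ξ * (v * (a * v * a⁻¹)⁻¹)) * (η * ξ) * (η * ζ) := by
        rw [c₁ (v * (a * v * a⁻¹)⁻¹), c₁ η]
    _ = u * ((b * u * b⁻¹)⁻¹ * ξ) * (v * ((a * v * a⁻¹)⁻¹ * η)) * (ξ * η * ζ) := by group
    _ = u * (ξ * (b * u * b⁻¹)⁻¹) * (v * (η * (a * v * a⁻¹)⁻¹)) * (ξ * η * ζ) := by
        rw [c₁ (b * u * b⁻¹)⁻¹, c₂ (a * v * a⁻¹)⁻¹]

theorem EZ.exists_vdata (h : EZ Q z) [Finite Q] : Nonempty (VData Q z) := by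
  classical
  have hn := h.normal
  let N : Subgroup Q := (Subgroup.zpowers z).subgroupOf Q
  have hN : ∀ x : Q, x ∈ N ↔ ((x : H) = 1 ∨ (x : H) = z) := by
    intro x
    rw [Subgroup.mem_subgroupOf, h.mem_zpowers]
  have hNn : N.Normal := by
    have := h.normal_zpowers
    exact Subgroup.normal_subgroupOf
  let _ : CommGroup (Q ⧸ N) := { (inferInstance : Group (Q ⧸ N)) with
    mul_comm := by
      intro u v
      induction u using QuotientGroup.induction_on with | _ x => ?_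
      induction v using QuotientGroup.induction_on with | _ y => ?_
      rw [← QuotientGroup.mk_mul, ← QuotientGroup.mk_mul, QuotientGroup.eq, hN]
      simp only [Subgroup.coe_mul, Subgroup.coe_inv]
      rcases h.comm x x.2 y y.2 with e | e
      · left; rw [e]; group
      · right
        rw [e]
        have : ((y : H) * x * z)⁻¹ * (y * x) = z⁻¹ := by group
        rw [this]; exact h.zi (Or.inr rfl) }
  let V := Additive (Q ⧸ N)
  let mk : Q → V := fun x => Additive.ofMul (QuotientGroup.mk x)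
  have hsurj : Function.Surjective mk := by
    intro v
    obtain ⟨x, hx⟩ := QuotientGroup.mk_surjective (Additive.toMul v)
    exact ⟨x, by show Additive.ofMul _ = v; rw [hx]; rfl⟩
  have mk_mul : ∀ x y, mk (x * y) = mk x + mk y := fun x y => rfl
  have mk_eq : ∀ x y : Q, mk x = mk y ↔ ((y : H) = x ∨ (y : H) = x * z) := by
    intro x y
    have : mk x = mk y ↔ (QuotientGroup.mk x : Q ⧸ N) = QuotientGroup.mk y := Iff.rfl
    rw [this, QuotientGroup.eq, hN]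
    simp only [Subgroup.coe_mul, Subgroup.coe_inv]
    constructor
    · rintro (e | e)
      · left; exact (inv_mul_eq_one.1 e).symm
      · right; rw [← e]; group
    · rintro (e | e)
      · left; rw [e]; group
      · right; rw [e]; group
  have two : ∀ v : V, 2 • v = 0 := by
    intro v
    obtain ⟨x, rfl⟩ := hsurj v
    rw [two_nsmul, ← mk_mul]
    have h1 : mk (1 : Q) = 0 := rfl
    rw [← h1, mk_eq]
    simp only [Subgroup.coe_mul, Subgroup.coe_one]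
    rcases h.pow x x.2 with e | e
    · left; exact e.symm
    · right; rw [e]; exact h.sq.symm
  let _ : Module (ZMod 2) V := AddCommGroup.zmodModule two
  -- the form
  let f : Q → Q → ZMod 2 := fun x y => if (x : H) * y = y * x then 0 else 1
  have hf0 : ∀ x y : Q, f x y = 0 ↔ (x : H) * y = y * x := by
    intro x y
    by_cases e : (x : H) * y = y * x <;> simp only [f, e, ↓ _root_.reduceIte, _root_.one_ne_zero]
  have hf1 : ∀ x y : Q, f x y = 1 ↔ (x : H) * y = y * x * z := by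
    intro x y
    rcases h.comm x x.2 y y.2 with e | e
    · have : ¬ ((x : H) * y = y * x * z) := by
        rw [e]; intro h'; exact h.ne (by simpa using h'.symm)
      simp only [f, e, ↓ _root_.reduceIte, _root_.zero_ne_one, _root_.left_eq_mul, _root_.false_iff, _root_.ne_eq]
      intro h'
      exact h.ne h'
    · have : ¬ ((x : H) * y = y * x) := by
        rw [e]; intro h'; exact h.ne (by simpa using h')
      simp only [f, e, _root_.mul_eq_left, _root_.ite_eq_right_iff, _root_.zero_ne_one, _root_.imp_false, _root_.iff_true, _root_.ne_eq]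
      exact h.ne
  have fl : ∀ x x' y : Q, f (x * x') y = f x y + f x' y := by
    intro x x' y
    rcases h.comm x x.2 y y.2 with e | e <;> rcases h.comm x' x'.2 y y.2 with e' | e'
    · have e'' : ((x * x' : Q) : H) * y = y * (x * x' : Q) := by
        rw [Subgroup.coe_mul, mul_assoc, e', ← mul_assoc, e, mul_assoc]
      rw [(hf0 _ _).2 e'', (hf0 _ _).2 e, (hf0 _ _).2 e', add_zero]
    · have e'' : ((x * x' : Q) : H) * y = y * (x * x' : Q) * z := by
        rw [Subgroup.coe_mul, mul_assoc, e', ← mul_assoc, ← mul_assoc, e]; group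
      rw [(hf1 _ _).2 e'', (hf0 _ _).2 e, (hf1 _ _).2 e', zero_add]
    · have e'' : ((x * x' : Q) : H) * y = y * (x * x' : Q) * z := by
        rw [Subgroup.coe_mul, mul_assoc, e', ← mul_assoc, e, mul_assoc _ z, ← h.central]; group
      rw [(hf1 _ _).2 e'', (hf1 _ _).2 e, (hf0 _ _).2 e', add_zero]
    · have e'' : ((x * x' : Q) : H) * y = y * (x * x' : Q) := by
        have : (x : H) * x' * y = y * (x * x') * (z * z) := by
          calc (x : H) * x' * y = x * (x' * y) := by group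
            _ = (x * y) * (x' * z) := by rw [e']; group
            _ = y * x * (z * x') * z := by rw [e]; group
            _ = y * x * (x' * z) * z := by rw [h.central x']
            _ = _ := by group
        rw [Subgroup.coe_mul, this, h.sq, mul_one]
      rw [(hf0 _ _).2 e'', (hf1 _ _).2 e, (hf1 _ _).2 e']
      rfl
  have fs : ∀ x y : Q, f x y = f y x := by
    intro x y
    by_cases e : (x : H) * y = y * x
    · rw [(hf0 x y).2 e, (hf0 y x).2 e.symm]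
    · have e' : ¬ ((y : H) * x = x * y) := fun h' => e h'.symm
      simp [f, e, e']
  have fr : ∀ x y y' : Q, f x (y * y') = f x y + f x y' := by
    intro x y y'
    rw [fs, fl, fs y, fs y']
  have fN : ∀ n ∈ N, ∀ y : Q, f n y = 0 := by
    intro n hn y
    rw [hf0]
    rcases (hN n).1 hn with e | e
    · rw [e]; simp
    · rw [e, h.central]
  let Fq : Q → Q →* Multiplicative (ZMod 2) := fun x =>
    { toFun := fun y => Multiplicative.ofAdd (f x y)
      map_one' := by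
        show Multiplicative.ofAdd (f x 1) = Multiplicative.ofAdd 0
        rw [fs, fN 1 N.one_mem]
      map_mul' := fun y y' => by
        show Multiplicative.ofAdd (f x (y * y')) = Multiplicative.ofAdd (f x y + f x y')
        rw [fr] }
  have hFqN : ∀ x, N ≤ (Fq x).ker := by
    intro x n hn
    rw [MonoidHom.mem_ker]
    show Multiplicative.ofAdd (f x n) = Multiplicative.ofAdd 0
    rw [fs, fN n hn]
  let Fq' : Q → (Q ⧸ N) →* Multiplicative (ZMod 2) := fun x => QuotientGroup.lift N (Fq x) (hFqN x)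
  let FF : Q →* ((Q ⧸ N) →* Multiplicative (ZMod 2)) :=
    { toFun := Fq'
      map_one' := by
        apply QuotientGroup.monoidHom_ext
        ext y
        show Multiplicative.ofAdd (f 1 y) = Multiplicative.ofAdd 0
        rw [fN 1 N.one_mem]
      map_mul' := fun x x' => by
        apply QuotientGroup.monoidHom_ext
        ext y
        show Multiplicative.ofAdd (f (x * x') y) = Multiplicative.ofAdd (f x y + f x' y)
        rw [fl] }
  have hFFN : N ≤ FF.ker := by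
    intro n hn
    rw [MonoidHom.mem_ker]
    apply QuotientGroup.monoidHom_ext
    ext y
    show Multiplicative.ofAdd (f n y) = Multiplicative.ofAdd 0
    rw [fN n hn]
  let FF' : (Q ⧸ N) →* ((Q ⧸ N) →* Multiplicative (ZMod 2)) := QuotientGroup.lift N FF hFFN
  let w : V → V → ZMod 2 := fun v v' => Multiplicative.toAdd (FF' (Additive.toMul v) (Additive.toMul v'))
  have hw : ∀ x y, w (mk x) (mk y) = f x y := fun x y => rfl
  have c2 : ∀ c : ZMod 2, c = 0 ∨ c = 1 := by decide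
  have wl : ∀ u v v', w (u + v) v' = w u v' + w v v' := by
    intro u v v'
    obtain ⟨x, rfl⟩ := hsurj u
    obtain ⟨y, rfl⟩ := hsurj v
    obtain ⟨y', rfl⟩ := hsurj v'
    rw [← mk_mul, hw, hw, hw, fl]
  have wr : ∀ u v v', w u (v + v') = w u v + w u v' := by
    intro u v v'
    obtain ⟨x, rfl⟩ := hsurj u
    obtain ⟨y, rfl⟩ := hsurj v
    obtain ⟨y', rfl⟩ := hsurj v'
    rw [← mk_mul, hw, hw, hw, fr]
  have w0 : ∀ v, w 0 v = 0 := by
    intro v
    have := wl 0 0 v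
    rw [add_zero] at this
    have h2 : w 0 v + 0 = w 0 v + w 0 v := by rw [add_zero]; exact this
    exact (add_left_cancel h2).symm
  have w0' : ∀ v, w v 0 = 0 := by
    intro v
    have := wr v 0 0
    rw [add_zero] at this
    have h2 : w v 0 + 0 = w v 0 + w v 0 := by rw [add_zero]; exact this
    exact (add_left_cancel h2).symm
  let ω : LinearMap.BilinForm (ZMod 2) V := LinearMap.mk₂ (ZMod 2) w wl
    (by
      intro c u v
      rcases c2 c with rfl | rfl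
      · rw [zero_smul, zero_smul, w0]
      · rw [one_smul, one_smul])
    wr
    (by
      intro c u v
      rcases c2 c with rfl | rfl
      · rw [zero_smul, zero_smul, w0']
      · rw [one_smul, one_smul])
  -- the action
  have hmap : ∀ g : H, N.map (MulAut.conjNormal g : Q ≃* Q).toMonoidHom = N := by
    intro g
    have hz1 : ∀ x : H, (x = 1 ∨ x = z) → g * x * g⁻¹ = x := by
      intro x hx
      rw [h.zc hx g]; group
    apply le_antisymm
    · rintro _ ⟨x, hx, rfl⟩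
      have hx' := (hN x).1 hx
      rw [hN]
      have : (((MulAut.conjNormal g : Q ≃* Q).toMonoidHom x : Q) : H) = x := by
        show ((MulAut.conjNormal g x : Q) : H) = x
        rw [MulAut.conjNormal_apply]; exact hz1 _ hx'
      rw [this]; exact hx'
    · intro x hx
      have hx' := (hN x).1 hx
      refine ⟨x, hx, ?_⟩
      apply Subtype.ext
      show ((MulAut.conjNormal g x : Q) : H) = x
      rw [MulAut.conjNormal_apply]; exact hz1 _ hx'
  let Lm : H → (Q ⧸ N) ≃* (Q ⧸ N) := fun g => QuotientGroup.congr N N (MulAut.conjNormal g) (hmap g)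
  let La : H → V ≃+ V := fun g => MulEquiv.toAdditive (Lm g)
  let L : H → V ≃ₗ[ZMod 2] V := fun g => (La g).toLinearEquiv (fun c x => ZMod.map_smul (La g) c x)
  exact ⟨{
    V := V
    cls := mk
    surj := hsurj
    cls_mul := mk_mul
    cls_eq := mk_eq
    ω := ω
    ω_cls := fun x y => hf0 x y
    L := L
    L_cls := by
      intro g x y hy
      have : y = MulAut.conjNormal g x := Subtype.ext (by rw [hy, MulAut.conjNormal_apply])
      rw [this]
      rfl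
    fin := inferInstanceAs (Finite (Q ⧸ N)) }⟩


/-- **the coset lemma with a radical** -/
theorem EZ.step (h : EZ Q z) [Finite Q] {a b c : H} (hfp : FPz Q z a b)
    (hc : c * (a * b * a⁻¹ * b⁻¹)⁻¹ ∈ Q)
    (hact : Nat.card {x : Q // ∀ y ∈ Q, (c * x * c⁻¹ * (x : H)⁻¹) * y = y * (c * x * c⁻¹ * (x : H)⁻¹)} *
      Nat.card {x : Q // ∀ y ∈ Q, (x : H) * y = y * x} ^ 2 < 4 * Nat.card Q) :
    ∃ q₁ ∈ Q, ∃ q₂ ∈ Q, c = (q₁ * a) * (q₂ * b) * (q₁ * a)⁻¹ * (q₂ * b)⁻¹ := by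
  classical
  obtain ⟨p₁, hp₁, p₂, hp₂, ζ, hζ, e⟩ := h.step_mod hfp hc
  rcases hζ with rfl | rfl
  · exact ⟨p₁, hp₁, p₂, hp₂, by rw [← e, mul_one]⟩
  by_contra hno
  push Not at hno
  have hfp' : FPz Q ζ (p₁ * a) (p₂ * b) := EZ.fpz_mul_left h hfp hp₁ hp₂
  obtain ⟨a₁, ha₁⟩ : ∃ a₁, a₁ = p₁ * a := ⟨_, rfl⟩
  obtain ⟨b₁, hb₁⟩ : ∃ b₁, b₁ = p₂ * b := ⟨_, rfl⟩
  have hno' : ∀ q₁ ∈ Q, ∀ q₂ ∈ Q,
      (q₁ * a₁) * (q₂ * b₁) * (q₁ * a₁)⁻¹ * (q₂ * b₁)⁻¹ ≠ c := by
    intro q₁ h₁ q₂ h₂ e'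
    refine hno (q₁ * p₁) (Q.mul_mem h₁ hp₁) (q₂ * p₂) (Q.mul_mem h₂ hp₂) ?_
    rw [← e', ha₁, hb₁]; group
  rw [← ha₁, ← hb₁] at e hfp'
  obtain ⟨c₁, hc₁⟩ : ∃ c₁, c₁ = a₁ * b₁ * a₁⁻¹ * b₁⁻¹ := ⟨_, rfl⟩
  obtain ⟨g, hg⟩ : ∃ g, g = a₁ * b₁ * a₁⁻¹ := ⟨_, rfl⟩
  rw [← hc₁] at e
  -- the function Φ
  let Φ : Q → Q → H := fun r₁ r₂ => r₁ * (a₁ * r₂ * a₁⁻¹) * (g * r₁ * g⁻¹)⁻¹ * (c₁ * r₂ * c₁⁻¹)⁻¹
  have hΦ : ∀ r₁ r₂ : Q, (r₁ * a₁) * (r₂ * b₁) * (r₁ * a₁)⁻¹ * (r₂ * b₁)⁻¹ = Φ r₁ r₂ * c₁ := by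
    intro r₁ r₂
    show _ = r₁ * (a₁ * r₂ * a₁⁻¹) * (g * r₁ * g⁻¹)⁻¹ * (c₁ * r₂ * c₁⁻¹)⁻¹ * c₁
    rw [hc₁, hg]; group
  have hΦ1 : ∀ r₁ r₂ : Q, (Φ r₁ r₂ = 1 ∨ Φ r₁ r₂ = ζ) → Φ r₁ r₂ = 1 := by
    intro r₁ r₂ h'
    rcases h' with h' | h'
    · exact h'
    · exfalso
      refine hno' r₁ r₁.2 r₂ r₂.2 ?_
      rw [hΦ, h', ← e, h.central c, ← mul_assoc, h.sq, one_mul]
  obtain ⟨D⟩ := h.exists_vdata
  let _ := D.acg
  let _ := D.mod
  have hfin := D.fin
  have : FiniteDimensional (ZMod 2) D.V := Module.Finite.of_finite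
  -- conjugation inside Q
  let K : H → Q → Q := fun g x => ⟨g * x * g⁻¹, h.conj_mem x.2 g⟩
  have hL : ∀ g x, D.L g (D.cls x) = D.cls (K g x) := fun g x => D.L_cls g x _ rfl
  have c2 : ∀ c : ZMod 2, c = 0 ∨ c = 1 := by decide
  have ceq : ∀ s t : ZMod 2, (s = 0 ↔ t = 0) → s = t := by decide
  have hs : ∀ x y, D.ω x y = D.ω y x := by
    intro u v
    obtain ⟨x, rfl⟩ := D.surj u
    obtain ⟨y, rfl⟩ := D.surj v
    apply ceq
    rw [D.ω_cls, D.ω_cls]
    exact eq_comm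
  have hcls0 : D.cls 1 = 0 := by
    have := D.cls_mul 1 1
    rw [mul_one] at this
    have h2 : D.cls 1 + 0 = D.cls 1 + D.cls 1 := by rw [add_zero]; exact this
    exact (add_left_cancel h2).symm
  have hiso : ∀ g x y, D.ω (D.L g x) (D.L g y) = D.ω x y := by
    intro g u v
    obtain ⟨x, rfl⟩ := D.surj u
    obtain ⟨y, rfl⟩ := D.surj v
    apply ceq
    rw [hL, hL, D.ω_cls, D.ω_cls]
    constructor
    · intro e'
      have e'' : g * ((x : H) * y) * g⁻¹ = g * (y * x) * g⁻¹ := by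
        calc g * ((x : H) * y) * g⁻¹ = (K g x : H) * (K g y : H) := by
              show _ = (g * x * g⁻¹) * (g * y * g⁻¹); group
          _ = (K g y : H) * (K g x : H) := e'
          _ = _ := by show (g * y * g⁻¹) * (g * x * g⁻¹) = _; group
      exact mul_left_cancel (mul_right_cancel e'')
    · intro e'
      show (g * x * g⁻¹) * (g * y * g⁻¹) = (g * y * g⁻¹) * (g * x * g⁻¹)
      calc (g * (x : H) * g⁻¹) * (g * y * g⁻¹) = g * (x * y) * g⁻¹ := by group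
        _ = g * (y * x) * g⁻¹ := by rw [e']
        _ = _ := by group
  have hLm : ∀ g k l, (∀ x : H, g * (k * x * k⁻¹) * g⁻¹ = l * x * l⁻¹) →
      ∀ v, D.L g (D.L k v) = D.L l v := by
    intro g k l hk v
    obtain ⟨x, rfl⟩ := D.surj v
    rw [hL, hL, hL]
    congr 1
    exact Subtype.ext (hk x)
  have hsum : ∀ r₁ r₂ : Q, ∀ h' : Φ r₁ r₂ ∈ Q,
      D.cls ⟨Φ r₁ r₂, h'⟩ = D.cls r₁ + D.L g (D.cls r₁)
        + (D.L a₁ (D.cls r₂) + D.L c₁ (D.cls r₂)) := by
    intro r₁ r₂ h'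
    have hinv : ∀ x : Q, D.cls x⁻¹ = D.cls x := by
      intro x
      rw [D.cls_eq]
      rcases h.pow x x.2 with e' | e'
      · left
        exact (inv_eq_of_mul_eq_one_right e').symm
      · right
        have : (x : H)⁻¹ * x * x = (x : H)⁻¹ * ζ := by rw [mul_assoc, e']
        simpa only [_root_.InvMemClass.coe_inv, _root_.inv_mul_cancel, _root_.one_mul] using this
    have e1 : (⟨Φ r₁ r₂, h'⟩ : Q) = r₁ * K a₁ r₂ * (K g r₁)⁻¹ * (K c₁ r₂)⁻¹ := Subtype.ext rfl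
    rw [e1, D.cls_mul, D.cls_mul, D.cls_mul, hinv, hinv, hL, hL, hL]
    abel
  have hmem : ∀ r₁ r₂ : Q, Φ r₁ r₂ ∈ Q := by
    intro r₁ r₂
    exact (r₁ * K a₁ r₂ * (K g r₁)⁻¹ * (K c₁ r₂)⁻¹).2
  have hone : ∀ r₁ r₂ : Q, D.cls r₁ + D.L g (D.cls r₁)
        + (D.L a₁ (D.cls r₂) + D.L c₁ (D.cls r₂)) = 0 → Φ r₁ r₂ = 1 := by
    intro r₁ r₂ h0
    apply hΦ1
    rw [← hsum r₁ r₂ (hmem r₁ r₂)] at h0
    have h00 : D.cls 1 = 0 := by
      have := D.cls_mul 1 1
      rw [mul_one] at this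
      have h2 : D.cls 1 + 0 = D.cls 1 + D.cls 1 := by rw [add_zero]; exact this
      exact (add_left_cancel h2).symm
    rw [← h00, eq_comm, D.cls_eq] at h0
    simpa using h0
  let R : Submodule (ZMod 2) D.V := LinearMap.ker D.ω
  have hRm : ∀ x, x ∈ R ↔ ∀ y, D.ω x y = 0 := by
    intro x
    rw [LinearMap.mem_ker]
    exact ⟨fun h y => by rw [h]; rfl, fun h => LinearMap.ext h⟩
  let F : Submodule (ZMod 2) D.V := R.comap ((D.L c₁).toLinearMap + LinearMap.id)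
  have hRc : ∀ x : Q, D.cls x ∈ R ↔ ∀ y ∈ Q, (x : H) * y = y * x := by
    intro x
    rw [hRm]
    constructor
    · intro h1 y hy
      have := h1 (D.cls ⟨y, hy⟩)
      rwa [D.ω_cls] at this
    · intro h1 v
      obtain ⟨y, rfl⟩ := D.surj v
      rw [D.ω_cls]; exact h1 y y.2
  have hRtriv : ∀ g : H, ∀ v ∈ R, D.L g v = v := by
    intro g v hv
    obtain ⟨x, rfl⟩ := D.surj v
    rw [hL, eq_comm, D.cls_eq]
    exact h.rad x x.2 ((hRc x).1 hv) g
  have hγ := rank_rad D.ω hs (D.L a₁) (D.L b₁) (D.L g) (D.L c₁) (hiso a₁) (hiso b₁) (hiso g) (hiso c₁)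
    (fun x => (hLm g a₁ (a₁ * b₁) (fun x => by rw [hg]; group) x).trans
      (hLm a₁ b₁ (a₁ * b₁) (fun x => by group) x).symm)
    (fun x => hLm c₁ b₁ g (fun x => by rw [hc₁, hg]; group) x)
    R F hRm (hRtriv a₁) (hRtriv b₁) (fun x => Iff.rfl)
    (by
      intro w
      obtain ⟨y, rfl⟩ := D.surj w
      obtain ⟨q₁, h₁, q₂, h₂, ξ, hξ, e'⟩ := h.step_mod (a := a₁) (b := b₁) (c := y * c₁) hfp'
        (by rw [← hc₁, mul_assoc, mul_inv_cancel, mul_one]; exact y.2)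
      refine ⟨D.cls ⟨q₁, h₁⟩, D.cls ⟨q₂, h₂⟩, ?_⟩
      rw [← hsum ⟨q₁, h₁⟩ ⟨q₂, h₂⟩ (hmem _ _)]
      have e'' : Φ ⟨q₁, h₁⟩ ⟨q₂, h₂⟩ * c₁ = y * ξ * c₁ := by
        rw [← hΦ]
        show q₁ * a₁ * (q₂ * b₁) * (q₁ * a₁)⁻¹ * (q₂ * b₁)⁻¹ = _
        rw [← e', mul_assoc, mul_assoc, h.zc hξ c₁]
      have e3 : Φ ⟨q₁, h₁⟩ ⟨q₂, h₂⟩ = y * ξ := mul_right_cancel e''
      rw [eq_comm, D.cls_eq]
      show Φ ⟨q₁, h₁⟩ ⟨q₂, h₂⟩ = y ∨ Φ ⟨q₁, h₁⟩ ⟨q₂, h₂⟩ = y * ζ
      rw [e3]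
      rcases hξ with rfl | rfl
      · left; simp
      · right; rfl)
    (by
      intro u₁ u₂ v₁ v₂ hu hv
      obtain ⟨r₁, rfl⟩ := D.surj u₁
      obtain ⟨r₂, rfl⟩ := D.surj u₂
      obtain ⟨q₁, rfl⟩ := D.surj v₁
      obtain ⟨q₂, rfl⟩ := D.surj v₂
      have o1 := hone r₁ r₂ hu
      have o2 := hone q₁ q₂ hv
      have o3 : Φ (q₁ * r₁) (q₂ * r₂) = 1 := by
        apply hone
        rw [D.cls_mul, D.cls_mul]
        simp only [map_add]
        have : (D.cls q₁ + D.cls r₁) + (D.L g (D.cls q₁) + D.L g (D.cls r₁))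
            + (D.L a₁ (D.cls q₂) + D.L a₁ (D.cls r₂) + (D.L c₁ (D.cls q₂) + D.L c₁ (D.cls r₂)))
            = (D.cls q₁ + D.L g (D.cls q₁) + (D.L a₁ (D.cls q₂) + D.L c₁ (D.cls q₂)))
            + (D.cls r₁ + D.L g (D.cls r₁) + (D.L a₁ (D.cls r₂) + D.L c₁ (D.cls r₂))) := by abel
        rw [this, hu, hv, add_zero]
      -- x = q, y = r
      obtain ⟨x₁, hx₁⟩ : ∃ t, t = (q₁ : H) := ⟨_, rfl⟩
      obtain ⟨x₂, hx₂⟩ : ∃ t, t = a₁ * (q₂ : H) * a₁⁻¹ := ⟨_, rfl⟩
      obtain ⟨x₃, hx₃⟩ : ∃ t, t = g * (q₁ : H) * g⁻¹ := ⟨_, rfl⟩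
      obtain ⟨x₄, hx₄⟩ : ∃ t, t = c₁ * (q₂ : H) * c₁⁻¹ := ⟨_, rfl⟩
      obtain ⟨y₁, hy₁⟩ : ∃ t, t = (r₁ : H) := ⟨_, rfl⟩
      obtain ⟨y₂, hy₂⟩ : ∃ t, t = a₁ * (r₂ : H) * a₁⁻¹ := ⟨_, rfl⟩
      obtain ⟨y₃, hy₃⟩ : ∃ t, t = g * (r₁ : H) * g⁻¹ := ⟨_, rfl⟩
      obtain ⟨y₄, hy₄⟩ : ∃ t, t = c₁ * (r₂ : H) * c₁⁻¹ := ⟨_, rfl⟩
      have p1 : y₁ * y₂ = y₄ * y₃ := by
        have : y₁ * y₂ * y₃⁻¹ * y₄⁻¹ = 1 := by rw [hy₁, hy₂, hy₃, hy₄]; exact o1
        calc y₁ * y₂ = (y₁ * y₂ * y₃⁻¹ * y₄⁻¹) * y₄ * y₃ := by group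
          _ = _ := by rw [this, one_mul]
      have p2 : x₁ * x₂ = x₄ * x₃ := by
        have : x₁ * x₂ * x₃⁻¹ * x₄⁻¹ = 1 := by rw [hx₁, hx₂, hx₃, hx₄]; exact o2
        calc x₁ * x₂ = (x₁ * x₂ * x₃⁻¹ * x₄⁻¹) * x₄ * x₃ := by group
          _ = _ := by rw [this, one_mul]
      have p3 : x₁ * y₁ * (x₂ * y₂) = (x₄ * y₄) * (x₃ * y₃) := by
        have : x₁ * y₁ * (x₂ * y₂) * (x₃ * y₃)⁻¹ * (x₄ * y₄)⁻¹ = 1 := by
          have o4 : ((q₁ * r₁ : Q) : H) * (a₁ * ((q₂ * r₂ : Q) : H) * a₁⁻¹)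
            * (g * ((q₁ * r₁ : Q) : H) * g⁻¹)⁻¹ * (c₁ * ((q₂ * r₂ : Q) : H) * c₁⁻¹)⁻¹ = 1 := o3
          rw [Subgroup.coe_mul, Subgroup.coe_mul] at o4
          rw [hx₁, hx₂, hx₃, hx₄, hy₁, hy₂, hy₃, hy₄, ← o4]; group
        calc x₁ * y₁ * (x₂ * y₂)
            = (x₁ * y₁ * (x₂ * y₂) * (x₃ * y₃)⁻¹ * (x₄ * y₄)⁻¹) * (x₄ * y₄) * (x₃ * y₃) := by group
          _ = _ := by rw [this, one_mul]
      have m1 : y₁ ∈ Q := by rw [hy₁]; exact r₁.2
      have m2 : x₂ ∈ Q := by rw [hx₂]; exact h.conj_mem q₂.2 a₁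
      have m3 : y₄ ∈ Q := by rw [hy₄]; exact h.conj_mem r₂.2 c₁
      have m4 : x₃ ∈ Q := by rw [hx₃]; exact h.conj_mem q₁.2 g
      -- y₁ x₂ vs y₄ x₃
      have cc : (y₁ * x₂ = x₂ * y₁) ↔ (y₄ * x₃ = x₃ * y₄) := by
        constructor
        · intro e1
          have : x₁ * (y₁ * x₂) * y₂ = x₄ * (y₄ * x₃) * y₃ := by
            calc x₁ * (y₁ * x₂) * y₂ = x₁ * y₁ * (x₂ * y₂) := by group
              _ = (x₄ * y₄) * (x₃ * y₃) := p3
              _ = _ := by group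
          have e2 : x₄ * (y₄ * x₃) * y₃ = x₄ * (x₃ * y₄) * y₃ := by
            rw [← this, e1]
            calc x₁ * (x₂ * y₁) * y₂ = (x₁ * x₂) * (y₁ * y₂) := by group
              _ = (x₄ * x₃) * (y₄ * y₃) := by rw [p1, p2]
              _ = _ := by group
          exact mul_left_cancel (mul_right_cancel e2)
        · intro e1
          have : x₁ * (y₁ * x₂) * y₂ = x₄ * (y₄ * x₃) * y₃ := by
            calc x₁ * (y₁ * x₂) * y₂ = x₁ * y₁ * (x₂ * y₂) := by group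
              _ = (x₄ * y₄) * (x₃ * y₃) := p3
              _ = _ := by group
          have e2 : x₁ * (y₁ * x₂) * y₂ = x₁ * (x₂ * y₁) * y₂ := by
            rw [this, e1]
            calc x₄ * (x₃ * y₄) * y₃ = (x₄ * x₃) * (y₄ * y₃) := by group
              _ = (x₁ * x₂) * (y₁ * y₂) := by rw [p1, p2]
              _ = _ := by group
          exact mul_left_cancel (mul_right_cancel e2)
      have e5 : D.ω (D.cls r₁) (D.L a₁ (D.cls q₂)) = D.ω (D.L g (D.cls q₁)) (D.L c₁ (D.cls r₂)) := by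
        apply ceq
        rw [hL, hL, hL, D.ω_cls, D.ω_cls]
        have t1 : ((K a₁ q₂ : Q) : H) = x₂ := hx₂.symm
        have t2 : ((K g q₁ : Q) : H) = x₃ := hx₃.symm
        have t3 : ((K c₁ r₂ : Q) : H) = y₄ := hy₄.symm
        rw [t1, t2, t3, ← hy₁, cc]
        exact eq_comm
      rw [e5]
      rcases c2 (D.ω (D.L g (D.cls q₁)) (D.L c₁ (D.cls r₂))) with h0 | h0
      · rw [h0]; rfl
      · rw [h0]; rfl)
  -- conclusion
  let f : Q →* Multiplicative D.V :=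
    { toFun := fun x => Multiplicative.ofAdd (D.cls x)
      map_one' := by rw [hcls0]; rfl
      map_mul' := fun x y => by rw [D.cls_mul]; rfl }
  have hfs : Function.Surjective f := by
    intro v
    obtain ⟨x, hx⟩ := D.surj (Multiplicative.toAdd v)
    exact ⟨x, by show Multiplicative.ofAdd (D.cls x) = v; rw [hx]; rfl⟩
  have hfk : ∀ x : Q, x ∈ f.ker ↔ ((x : H) = 1 ∨ (x : H) = ζ) := by
    intro x
    rw [MonoidHom.mem_ker]
    have e1 : f x = 1 ↔ D.cls 1 = D.cls x := by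
      rw [hcls0, eq_comm]
      constructor
      · intro h1; exact congrArg Multiplicative.toAdd h1
      · intro h1; exact congrArg Multiplicative.ofAdd h1
    rw [e1, D.cls_eq]
    simp only [_root_.OneMemClass.coe_one, _root_.OneMemClass.coe_eq_one, _root_.one_mul]
  have hfk2 : Nat.card f.ker = 2 := by
    have hne : (1 : Q) ≠ ⟨ζ, h.mem⟩ := by
      intro e'
      exact h.ne (congrArg Subtype.val e').symm
    have e1 : (f.ker : Set Q) = {1, ⟨ζ, h.mem⟩} := by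
      ext x
      rw [SetLike.mem_coe, hfk, Set.mem_insert_iff, Set.mem_singleton_iff, Subtype.ext_iff, Subtype.ext_iff]
      rfl
    have e2 : Nat.card f.ker = Set.ncard (f.ker : Set Q) := rfl
    rw [e2, e1, Set.ncard_pair hne]
  have hcomap : ∀ S : Submodule (ZMod 2) D.V, Nat.card {x : Q // D.cls x ∈ S} = 2 * Nat.card S := by
    intro S
    let S' : Subgroup (Multiplicative D.V) := AddSubgroup.toSubgroup S.toAddSubgroup
    have e1 : Nat.card {x : Q // D.cls x ∈ S} = Nat.card (S'.comap f) := rfl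
    have e2 : Nat.card S = Nat.card S' := rfl
    have e3 := Subgroup.card_mul_index (S'.comap f)
    have e4 := Subgroup.card_mul_index S'
    rw [Subgroup.index_comap_of_surjective S' hfs] at e3
    have e5 : Nat.card Q = 2 * Nat.card (Multiplicative D.V) := by
      have e6 := Subgroup.card_mul_index f.ker
      rw [hfk2, Subgroup.index_ker, MonoidHom.range_eq_top.2 hfs] at e6
      rw [← e6, Subgroup.card_top]
    have e7 : 0 < S'.index := Nat.pos_of_ne_zero (Subgroup.index_ne_zero_of_finite)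
    rw [e1, e2]
    apply Nat.eq_of_mul_eq_mul_right e7
    rw [e3, e5, mul_assoc, e4]
  have hV : Nat.card Q = 2 * 2 ^ finrank (ZMod 2) D.V := by
    have h1 := hcomap ⊤
    have h2 : Nat.card {x : Q // D.cls x ∈ (⊤ : Submodule (ZMod 2) D.V)} = Nat.card Q :=
      Nat.card_congr (Equiv.subtypeUnivEquiv (fun x => Submodule.mem_top))
    have h3 : Nat.card (⊤ : Submodule (ZMod 2) D.V) = 2 ^ finrank (ZMod 2) D.V := by
      rw [Module.natCard_eq_pow_finrank (K := ZMod 2), Nat.card_zmod, finrank_top]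
    rw [← h2, h1, h3]
  have hRR : Nat.card {x : Q // ∀ y ∈ Q, (x : H) * y = y * x} = 2 * 2 ^ finrank (ZMod 2) R := by
    have h1 := hcomap R
    have h3 : Nat.card R = 2 ^ finrank (ZMod 2) R := by
      rw [Module.natCard_eq_pow_finrank (K := ZMod 2), Nat.card_zmod]
    rw [← h3, ← h1]
    exact Nat.card_congr (Equiv.subtypeEquivRight (fun x => (hRc x).symm))
  have hFF : Nat.card {x : Q // ∀ y ∈ Q, (c * x * c⁻¹ * (x : H)⁻¹) * y = y * (c * x * c⁻¹ * (x : H)⁻¹)}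
      = 2 * 2 ^ finrank (ZMod 2) F := by
    have h1 := hcomap F
    have h3 : Nat.card F = 2 ^ finrank (ZMod 2) F := by
      rw [Module.natCard_eq_pow_finrank (K := ZMod 2), Nat.card_zmod]
    rw [← h3, ← h1]
    refine Nat.card_congr (Equiv.subtypeEquivRight (fun x => ?_))
    have h4 : D.cls x ∈ F ↔ D.cls (K c₁ x * x⁻¹) ∈ R := by
      have hinv : D.cls x⁻¹ = D.cls x := by
        rw [D.cls_eq]
        rcases h.pow x x.2 with e' | e'
        · left
          exact (inv_eq_of_mul_eq_one_right e').symm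
        · right
          have : (x : H)⁻¹ * x * x = (x : H)⁻¹ * ζ := by rw [mul_assoc, e']
          simpa using this
      rw [D.cls_mul, hinv, ← hL]
      exact Iff.rfl
    rw [h4, hRc]
    have h5 : ((K c₁ x * x⁻¹ : Q) : H) = c * x * c⁻¹ * (x : H)⁻¹ := by
      show c₁ * x * c₁⁻¹ * (x : H)⁻¹ = _
      rw [← e]
      calc c * ζ * x * (c * ζ)⁻¹ * (x : H)⁻¹ = c * (ζ * x * ζ⁻¹) * c⁻¹ * (x : H)⁻¹ := by group
        _ = c * x * c⁻¹ * (x : H)⁻¹ := by rw [← h.central x]; group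
    rw [h5]
  rw [hV, hRR, hFF] at hact
  have h1 : 2 ^ finrank (ZMod 2) D.V ≤ 2 ^ finrank (ZMod 2) F * (2 ^ finrank (ZMod 2) R) ^ 2 := by
    rw [← pow_mul, ← pow_add, mul_comm (finrank (ZMod 2) R) 2]
    exact Nat.pow_le_pow_right (by norm_num) hγ
  have h2 : 2 * 2 ^ finrank (ZMod 2) F * (2 * 2 ^ finrank (ZMod 2) R) ^ 2
      = 4 * (2 * (2 ^ finrank (ZMod 2) F * (2 ^ finrank (ZMod 2) R) ^ 2)) := by ring
  rw [h2] at hact
  omega

end Cfsg.Agent.H201.F4
end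

-- part: H201/F4/Ges
section
/-!
# The coset lemma for `Q` with `Q/Z` extraspecial (helper201; box GES of helper231's plan for S2491, row F4)
-/

set_option autoImplicit false

namespace Cfsg.Agent.H201.F4

universe v

open Subgroup
open Cfsg.Agent.H6.ORE (FPz)

/-- `Q ⊴ H`, `Z ≤ Z(H)`, `t` central, `Q/Z` extraspecial with centre `⟨t⟩`; `Q/⟨t⟩ = [Q/⟨t⟩, ⟨a,b⟩]`,
`c` has rank `≥ 5` on `Q/Z⟨t⟩`, `|Z| ∣ 4` : the coset `Q [a,b]` consists of commutators `[q₁ a, q₂ b]` -/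
theorem ges {H : Type v} [Group H] [Finite H] {Q Z : Subgroup H} {t : H} (hQ : Q.Normal) (hZQ : Z ≤ Q) (hZ : Z ≤ center H)
    (hZ2 : ∀ z ∈ Z, z * z = 1) (hZ4 : Nat.card Z ∣ 4) (ht : t ∈ Q) (htc : t ∈ center H) (ht2 : t * t = 1) (htZ : t ∉ Z)
    (hcomm : ∀ x ∈ Q, ∀ y ∈ Q, x * y = y * x ∨ x * y = y * x * t) (hpow : ∀ x ∈ Q, x * x = 1 ∨ x * x = t)
    (hnd : ∀ x ∈ Q, (∀ y ∈ Q, x * y = y * x) → ∃ z ∈ Z, x = z ∨ x = z * t)
    {a b c : H} (hfp : FPz Q t a b) (hc : c * (a * b * a⁻¹ * b⁻¹)⁻¹ ∈ Q)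
    (hrk : 32 * Nat.card {x : H // x ∈ Q ∧ ∃ z ∈ Z, c * x * c⁻¹ = x * z ∨ c * x * c⁻¹ = x * z * t} ≤ Nat.card Q) :
    ∃ q₁ ∈ Q, ∃ q₂ ∈ Q, c = (q₁ * a) * (q₂ * b) * (q₁ * a)⁻¹ * (q₂ * b)⁻¹ := by
  classical
  have hzc : ∀ z ∈ Z, ∀ g : H, g * z = z * g := fun z hz g => mem_center_iff.1 (hZ hz) g
  have htc' : ∀ g : H, g * t = t * g := fun g => mem_center_iff.1 htc g
  have h : EZ Q t :=
    { normal := hQ
      mem := ht
      ne := fun e => htZ (e ▸ Z.one_mem)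
      sq := ht2
      central := htc'
      comm := hcomm
      pow := hpow
      rad := by
        intro x hx hxy g
        left
        obtain ⟨z, hz, e | e⟩ := hnd x hx hxy
        · rw [e, hzc z hz]; group
        · have : g * x = x * g := by
            rw [e, ← mul_assoc, hzc z hz, mul_assoc, htc', mul_assoc]
          rw [this]; group }
  refine h.step hfp hc ?_
  -- the radical
  have h8 : Nat.card {x : Q // ∀ y ∈ Q, (x : H) * y = y * x} ≤ 8 := by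
    have h4 : Nat.card Z ≤ 4 := Nat.le_of_dvd (by norm_num) hZ4
    let f : {x : Q // ∀ y ∈ Q, (x : H) * y = y * x} → Z × Bool := fun x =>
      if hx : (x.1 : H) ∈ Z then (⟨x.1, hx⟩, true) else
        (⟨(x.1 : H) * t, by
          obtain ⟨z, hz, e | e⟩ := hnd x.1 x.1.2 x.2
          · exact absurd (e ▸ hz) hx
          · rw [e, mul_assoc, ht2, mul_one]; exact hz⟩, false)
    have hf : Function.Injective f := by
      intro x y hxy
      by_cases hx : (x.1 : H) ∈ Z <;> by_cases hy : (y.1 : H) ∈ Z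
      · simp only [f, hx, hy, dite_true, Prod.mk.injEq, Subtype.mk.injEq, and_true] at hxy
        exact Subtype.ext (Subtype.ext hxy)
      · simp only [f, hx, hy, ↓ _root_.reduceDIte, _root_.Prod.mk.injEq, _root_.Subtype.mk.injEq, _root_.Bool.true_eq_false, _root_.and_false] at hxy
      · simp only [f, hx, hy, ↓ _root_.reduceDIte, _root_.Prod.mk.injEq, _root_.Subtype.mk.injEq, _root_.Bool.false_eq_true, _root_.and_false] at hxy
      · simp only [f, hx, hy, dite_false, Prod.mk.injEq, Subtype.mk.injEq, and_true] at hxy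
        exact Subtype.ext (Subtype.ext (mul_right_cancel hxy))
    have h5 := Nat.card_le_card_of_injective f hf
    rw [Nat.card_prod, Nat.card_eq_fintype_card (α := Bool), Fintype.card_bool] at h5
    omega
  have hN : Nat.card {x : Q // ∀ y ∈ Q, (c * x * c⁻¹ * (x : H)⁻¹) * y = y * (c * x * c⁻¹ * (x : H)⁻¹)} ≤
      Nat.card {x : H // x ∈ Q ∧ ∃ z ∈ Z, c * x * c⁻¹ = x * z ∨ c * x * c⁻¹ = x * z * t} := by
    let f : {x : Q // ∀ y ∈ Q, (c * x * c⁻¹ * (x : H)⁻¹) * y = y * (c * x * c⁻¹ * (x : H)⁻¹)} →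
        {x : H // x ∈ Q ∧ ∃ z ∈ Z, c * x * c⁻¹ = x * z ∨ c * x * c⁻¹ = x * z * t} := fun x =>
      ⟨(x.1 : H), x.1.2, by
        obtain ⟨z, hz, e | e⟩ := hnd _ (Q.mul_mem (hQ.conj_mem _ x.1.2 c) (Q.inv_mem x.1.2)) x.2
        · refine ⟨z, hz, Or.inl ?_⟩
          rw [hzc z hz, ← e]; group
        · refine ⟨z, hz, Or.inr ?_⟩
          have : (x.1 : H) * z * t = z * t * x.1 := by
            rw [hzc z hz, mul_assoc, htc', mul_assoc]
          rw [this, ← e]; group⟩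
    have hf : Function.Injective f := by
      intro x y hxy
      have h1 : (f x : H) = (f y : H) := by rw [hxy]
      have h1 : (x.1 : H) = (y.1 : H) := h1
      exact Subtype.ext (Subtype.ext h1)
    exact Nat.card_le_card_of_injective f hf
  have hpos : 0 < Nat.card {x : H // x ∈ Q ∧ ∃ z ∈ Z, c * x * c⁻¹ = x * z ∨ c * x * c⁻¹ = x * z * t} := by
    have : Nonempty {x : H // x ∈ Q ∧ ∃ z ∈ Z, c * x * c⁻¹ = x * z ∨ c * x * c⁻¹ = x * z * t} :=
      ⟨⟨1, Q.one_mem, 1, Z.one_mem, Or.inl (by group)⟩⟩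
    exact Nat.card_pos
  generalize Nat.card {x : H // x ∈ Q ∧ ∃ z ∈ Z, c * x * c⁻¹ = x * z ∨ c * x * c⁻¹ = x * z * t} = n at *
  generalize Nat.card {x : Q // ∀ y ∈ Q, (c * x * c⁻¹ * (x : H)⁻¹) * y = y * (c * x * c⁻¹ * (x : H)⁻¹)} = m at *
  generalize Nat.card {x : Q // ∀ y ∈ Q, (x : H) * y = y * x} = r at *
  have h9 : r ^ 2 ≤ 64 := by
    calc r ^ 2 ≤ 8 ^ 2 := Nat.pow_le_pow_left h8 2
      _ = 64 := by norm_num
  calc m * r ^ 2 ≤ n * 64 := Nat.mul_le_mul hN h9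
    _ < 4 * Nat.card Q := by omega

end Cfsg.Agent.H201.F4
end

-- part: H461/QF/Core
section
/-!
# S2491, row F4 = `²E₆(2)` : elements over `P_1 ∖ V_1` : the abstract part of `P1` (helper461)

`ρ : H → K` finite, central kernel, `V ≤ ρ(H)` a normal 2-subgroup "extraspecial" with centre `X = ⟨ρ t⟩`, `t` a central
involution of `H`, commutators of the 2-elements over `V` in `⟨t⟩`, the 2-part `Z` of the kernel elementary of order `∣ 4`
and contained in `[V~, H]`, `V = [V, ρ(H)]`.  If `c ∈ V~ [a, b]`, `H = V~ ⟨a, b⟩ ker ρ`, and `c` has rank at least 5 on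
`V/X`, then `c` is a commutator.
-/

set_option autoImplicit false
set_option linter.unusedSectionVars false

namespace Cfsg.Agent.H461.QF

universe u v

open Subgroup
open Cfsg.Agent.H6.ORE (FPz)
open Cfsg.Agent.Nodes.RGDLift (lft mem_lft isPGroup_lft)
open scoped commutatorElement

section Fpz

variable {H : Type v} [Group H] {Q : Subgroup H} {t : H}

/-- `[Q, H] = Q`, `H = Q ⟨a, b⟩ Z(H)`, `Q/⟨t⟩` abelian : `Q/⟨t⟩ = [Q/⟨t⟩, b] + [Q/⟨t⟩, a]` -/
theorem fpz_of (hQ : Q.Normal) (ht : t ∈ Q) (htc : ∀ h : H, h * t = t * h) (ht2 : t * t = 1)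
    (hcomm : ∀ x ∈ Q, ∀ y ∈ Q, x * y = y * x ∨ x * y = y * x * t) {a b : H}
    (hgen : ∀ M : Subgroup H, a ∈ M → b ∈ M → Q ≤ M → center H ≤ M → M = ⊤)
    (hW : ∀ W : Subgroup H, (∀ x ∈ Q, ∀ g : H, x * g * x⁻¹ * g⁻¹ ∈ W) → Q ≤ W) : FPz Q t a b := by
  classical
  have hzt : ∀ x : H, x ∈ zpowers t → x = 1 ∨ x = t := by
    rintro x ⟨n, rfl⟩
    have h2 : t ^ (2 : ℤ) = 1 := by
      rw [zpow_two]; exact ht2
    rcases Int.even_or_odd' n with ⟨k, hk | hk⟩
    · left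
      show t ^ n = 1
      rw [hk, zpow_mul, h2, one_zpow]
    · right
      show t ^ n = t
      rw [hk, zpow_add, zpow_mul, h2, one_zpow, one_mul, zpow_one]
  have hTn : (zpowers t).Normal := by
    refine ⟨fun x hx g => ?_⟩
    have h1 : g * x = x * g := by
      rcases hzt x hx with rfl | rfl
      · simp
      · exact htc g
    rw [h1, mul_inv_cancel_right]
    exact hx
  let q : H →* H ⧸ zpowers t := QuotientGroup.mk' (zpowers t)
  have hq1 : ∀ x y : H, q x = q y → ∃ ζ : H, (ζ = 1 ∨ ζ = t) ∧ y = x * ζ := by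
    intro x y h
    have h2 : x⁻¹ * y ∈ zpowers t := (QuotientGroup.eq).1 h
    exact ⟨x⁻¹ * y, hzt _ h2, by group⟩
  have hqt : q t = 1 := (QuotientGroup.eq_one_iff t).2 (mem_zpowers t)
  let Qb : Subgroup (H ⧸ zpowers t) := Q.map q
  have hQb : Qb.Normal := hQ.map q (QuotientGroup.mk'_surjective _)
  have hQbc : ∀ x ∈ Qb, ∀ y ∈ Qb, x * y = y * x := by
    rintro _ ⟨x, hx, rfl⟩ _ ⟨y, hy, rfl⟩
    rw [← map_mul, ← map_mul]
    rcases hcomm x hx y hy with h | h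
    · rw [h]
    · rw [h, map_mul, hqt, mul_one]
  let inst : CommGroup ↥Qb := { (inferInstance : Group ↥Qb) with mul_comm := fun x y => Subtype.ext (hQbc _ x.2 _ y.2) }
  let δ : H → (↥Qb →* ↥Qb) := fun g =>
    (MonoidHom.id ↥Qb) / ((MulAut.conjNormal (H := Qb) (q g)).toMonoidHom)
  have hδ : ∀ (g : H) (x : ↥Qb), ((δ g x : ↥Qb) : H ⧸ zpowers t) = x * (q g * x * (q g)⁻¹)⁻¹ := by
    intro g x
    show ((x / (MulAut.conjNormal (H := Qb) (q g)) x : ↥Qb) : H ⧸ zpowers t) = _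
    rw [div_eq_mul_inv]
    show (x : H ⧸ zpowers t) * (((MulAut.conjNormal (H := Qb) (q g)) x : ↥Qb) : H ⧸ zpowers t)⁻¹ = _
    rw [MulAut.conjNormal_apply]
  let S : Subgroup ↥Qb := (δ b).range ⊔ (δ a).range
  let W : Subgroup H := (S.map Qb.subtype).comap q
  have hWspec : ∀ w ∈ W, ∃ u ∈ Q, ∃ v ∈ Q, ∃ ζ : H, (ζ = 1 ∨ ζ = t) ∧
      w = u * (b * u * b⁻¹)⁻¹ * (v * (a * v * a⁻¹)⁻¹) * ζ := by
    intro w hw
    obtain ⟨s, hs, hsw⟩ := (hw : q w ∈ S.map Qb.subtype)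
    obtain ⟨y, ⟨u', rfl⟩, z, ⟨v', rfl⟩, hyz⟩ := Subgroup.mem_sup.1 hs
    obtain ⟨u, hu, hu'⟩ := u'.2
    obtain ⟨v, hv, hv'⟩ := v'.2
    refine ⟨u, hu, v, hv, ?_⟩
    apply hq1
    rw [← hsw, ← hyz]
    show _ = ((δ b u' : ↥Qb) : H ⧸ zpowers t) * ((δ a v' : ↥Qb) : H ⧸ zpowers t)
    rw [hδ, hδ, ← hu', ← hv']
    simp only [map_mul, map_inv]
  have hWQ : W ≤ Q := by
    intro w hw
    obtain ⟨u, hu, v, hv, ζ, hζ, rfl⟩ := hWspec w hw
    have hζQ : ζ ∈ Q := by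
      rcases hζ with rfl | rfl
      · exact one_mem Q
      · exact ht
    exact mul_mem (mul_mem (mul_mem hu (inv_mem (hQ.conj_mem _ hu _))) (mul_mem hv (inv_mem (hQ.conj_mem _ hv _)))) hζQ
  have hδW : ∀ x ∈ Q, ∀ g : H, (g = a ∨ g = b) → x * g * x⁻¹ * g⁻¹ ∈ W := by
    intro x hx g hg
    have h1 : (δ g ⟨q x, x, hx, rfl⟩ : ↥Qb) ∈ S := by
      rcases hg with rfl | rfl
      · exact (le_sup_right : (δ g).range ≤ S) ⟨_, rfl⟩
      · exact (le_sup_left : (δ g).range ≤ S) ⟨_, rfl⟩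
    refine ⟨_, h1, ?_⟩
    show ((δ g _ : ↥Qb) : H ⧸ zpowers t) = _
    rw [hδ]
    simp only [map_mul, map_inv]
    group
  have htW : t ∈ W := by
    show q t ∈ S.map Qb.subtype
    rw [hqt]
    exact one_mem _
  -- the elements acting trivially on `Q/W`
  let M : Subgroup H :=
    { carrier := {g | ∀ x ∈ Q, x * g * x⁻¹ * g⁻¹ ∈ W}
      one_mem' := fun x _ => by
        have : x * 1 * x⁻¹ * 1⁻¹ = 1 := by group
        rw [this]; exact one_mem W
      mul_mem' := by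
        intro g h hg hh x hx
        have h1 := hg x hx
        have h2 := hh x hx
        have h3 := hg _ (hWQ h2)
        have e : x * (g * h) * x⁻¹ * (g * h)⁻¹ = (x * g * x⁻¹ * g⁻¹) *
            (((x * h * x⁻¹ * h⁻¹) * g * (x * h * x⁻¹ * h⁻¹)⁻¹ * g⁻¹)⁻¹ * (x * h * x⁻¹ * h⁻¹)) := by group
        show x * (g * h) * x⁻¹ * (g * h)⁻¹ ∈ W
        rw [e]
        exact mul_mem h1 (mul_mem (inv_mem h3) h2)
      inv_mem' := by
        intro g hg x hx
        have h1 := hg x hx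
        have h2 : g⁻¹ * (x * g * x⁻¹ * g⁻¹)⁻¹ * g ∈ Q := by
          have := hQ.conj_mem _ (inv_mem (hWQ h1)) g⁻¹
          rwa [inv_inv] at this
        have h3 := hg _ h2
        have e : x * g⁻¹ * x⁻¹ * g⁻¹⁻¹ = (g⁻¹ * (x * g * x⁻¹ * g⁻¹)⁻¹ * g * g * (g⁻¹ * (x * g * x⁻¹ * g⁻¹)⁻¹ * g)⁻¹ * g⁻¹) *
            (x * g * x⁻¹ * g⁻¹)⁻¹ := by group
        show x * g⁻¹ * x⁻¹ * g⁻¹⁻¹ ∈ W
        rw [e]
        exact mul_mem h3 (inv_mem h1) }
  have hM : M = ⊤ := by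
    apply hgen M
    · exact fun x hx => hδW x hx a (Or.inl rfl)
    · exact fun x hx => hδW x hx b (Or.inr rfl)
    · intro y hy x hx
      rcases hcomm x hx y hy with h | h
      · have e : x * y * x⁻¹ * y⁻¹ = 1 := by rw [h]; group
        rw [e]; exact one_mem W
      · have e : x * y * x⁻¹ * y⁻¹ = t := by
          rw [h, htc (y * x)]; group
        rw [e]; exact htW
    · intro y hy x hx
      have h := mem_center_iff.1 hy x
      have e : x * y * x⁻¹ * y⁻¹ = 1 := by rw [h]; group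
      rw [e]; exact one_mem W
  have hQW : Q ≤ W := hW W fun x hx g => (hM ▸ mem_top g : g ∈ M) x hx
  exact fun w hw => hWspec w (hQW hw)

end Fpz

section Core

variable {H : Type v} [Group H] [Finite H] {K : Type u} [Group K] {ρ : H →* K}

/-- 2-elements lift to 2-elements -/
theorem exists_two (y : H) {k : ℕ} (hk : ρ y ^ 2 ^ k = 1) : ∃ x : H, ρ x = ρ y ∧ ∃ l : ℕ, x ^ 2 ^ l = 1 := by
  obtain ⟨a, m, hm, ho⟩ := Nat.exists_eq_two_pow_mul_odd (n := orderOf y) (orderOf_pos y).ne'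
  obtain ⟨r, hr1, hr2⟩ := Nat.chineseRemainder (n := 2 ^ k) (m := m) (Nat.Coprime.pow_left k (Nat.coprime_two_left.2 hm)) 1 0
  refine ⟨y ^ r, ?_, a, ?_⟩
  · rw [map_pow]
    have h1 := (pow_eq_pow_iff_modEq (x := ρ y) (n := r) (m := 1)).2 (hr1.of_dvd (orderOf_dvd_of_pow_eq_one hk))
    rw [h1, pow_one]
  · rw [← pow_mul]
    apply orderOf_dvd_iff_pow_eq_one.1
    rw [ho, mul_comm]
    exact mul_dvd_mul_right ((Nat.modEq_zero_iff_dvd).1 hr2) _

/-- the data -/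
structure Dat (ρ : H →* K) (V X : Subgroup K) (t : H) : Prop where
  cen : ρ.ker ≤ center H
  nor : ∀ g : H, ∀ v ∈ V, ρ g * v * (ρ g)⁻¹ ∈ V
  le : V ≤ ρ.range
  pgr : IsPGroup 2 V
  XV : X ≤ V
  Xt : ∀ x ∈ X, x = 1 ∨ x = ρ t
  tX : ρ t ∈ X
  tne : ρ t ≠ 1
  tsq : t * t = 1
  tcen : ∀ g : H, g * t = t * g
  comm : ∀ x ∈ lft 2 ρ V, ∀ y ∈ lft 2 ρ V, x * y = y * x ∨ x * y = y * x * t
  zsq : ∀ z : H, ρ z = 1 → (∃ k : ℕ, z ^ 2 ^ k = 1) → z * z = 1
  zcard : ∀ Z : Subgroup H, (∀ z ∈ Z, ρ z = 1 ∧ z * z = 1) → Nat.card Z ∣ 4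
  sq : ∀ x ∈ V, x * x ∈ X
  nd : ∀ x ∈ V, (∀ y ∈ V, x * y = y * x) → x ∈ X
  perf : V ≤ ⁅V, ρ.range⁆
  h1 : ∀ z : H, ρ z = 1 → z * z = 1 → z ∈ ⁅V.comap ρ, (⊤ : Subgroup H)⁆

namespace Dat

variable {V X : Subgroup K} {t : H}

theorem kcomm (h : Dat ρ V X t) {z : H} (hz : ρ z = 1) (g : H) : g * z = z * g :=
  mem_center_iff.1 (h.cen (MonoidHom.mem_ker.2 hz)) g

theorem mem (h : Dat ρ V X t) {x : H} : x ∈ lft 2 ρ V ↔ ρ x ∈ V ∧ ∃ k : ℕ, x ^ 2 ^ k = 1 := mem_lft h.cen h.pgr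

theorem exists_lift (h : Dat ρ V X t) {v : K} (hv : v ∈ V) : ∃ x ∈ lft 2 ρ V, ρ x = v := by
  obtain ⟨y, rfl⟩ := h.le hv
  obtain ⟨k, hk⟩ := h.pgr ⟨_, hv⟩
  have hk' : ρ y ^ 2 ^ k = 1 := congrArg Subtype.val hk
  obtain ⟨x, hx, l, hl⟩ := exists_two y hk'
  exact ⟨x, h.mem.2 ⟨hx ▸ hv, l, hl⟩, hx⟩

theorem conj_mem (h : Dat ρ V X t) {x : H} (hx : x ∈ lft 2 ρ V) (g : H) : g * x * g⁻¹ ∈ lft 2 ρ V := by
  obtain ⟨h1, k, hk⟩ := h.mem.1 hx
  refine h.mem.2 ⟨?_, k, ?_⟩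
  · rw [map_mul, map_mul, map_inv]
    exact h.nor g _ h1
  · rw [conj_pow, hk, mul_one, mul_inv_cancel]

theorem normal (h : Dat ρ V X t) : (lft 2 ρ V).Normal := ⟨fun _ hx g => h.conj_mem hx g⟩

theorem t_mem (h : Dat ρ V X t) : t ∈ lft 2 ρ V :=
  h.mem.2 ⟨h.XV h.tX, 1, by rw [pow_one, pow_two]; exact h.tsq⟩

/-- `[V~, H] ≤ W` if `W` contains all commutators of `Q` and `H` -/
theorem comm_le (h : Dat ρ V X t) {W : Subgroup H} (hW : ∀ x ∈ lft 2 ρ V, ∀ g : H, x * g * x⁻¹ * g⁻¹ ∈ W) :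
    ⁅V.comap ρ, (⊤ : Subgroup H)⁆ ≤ W := by
  rw [Subgroup.commutator_le]
  intro y hy g _
  obtain ⟨x, hx, hxy⟩ := h.exists_lift (show ρ y ∈ V from hy)
  have h1 : ρ (x⁻¹ * y) = 1 := by rw [map_mul, map_inv, hxy, inv_mul_cancel]
  have h2 := h.kcomm h1 g
  have h3 : g * (x⁻¹ * y)⁻¹ = (x⁻¹ * y)⁻¹ * g := h.kcomm (by rw [map_inv, h1, inv_one]) g
  have e : ⁅y, g⁆ = x * g * x⁻¹ * g⁻¹ := by
    rw [commutatorElement_def]
    calc y * g * y⁻¹ * g⁻¹ = x * ((x⁻¹ * y) * g) * y⁻¹ * g⁻¹ := by group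
      _ = x * (g * (x⁻¹ * y)) * y⁻¹ * g⁻¹ := by rw [h2]
      _ = x * g * x⁻¹ * g⁻¹ := by group
  rw [e]
  exact hW x hx g

/-- `Q = [Q, H]` -/
theorem le_of_comm (h : Dat ρ V X t) {W : Subgroup H} (hW : ∀ x ∈ lft 2 ρ V, ∀ g : H, x * g * x⁻¹ * g⁻¹ ∈ W) :
    lft 2 ρ V ≤ W := by
  intro x hx
  have h1 : ρ x ∈ (⁅V.comap ρ, (⊤ : Subgroup H)⁆).map ρ := by
    rw [Subgroup.map_commutator, ← MonoidHom.range_eq_map, Subgroup.map_comap_eq_self h.le]
    exact h.perf (h.mem.1 hx).1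
  obtain ⟨w, hw, hwx⟩ := h1
  have h2 : w ∈ lft 2 ρ V := by
    refine h.comm_le (W := lft 2 ρ V) ?_ hw
    intro y hy g
    have e : y * g * y⁻¹ * g⁻¹ = y * (g * y⁻¹ * g⁻¹) := by group
    rw [e]
    exact mul_mem hy (h.conj_mem (inv_mem hy) g)
  have h3 : ρ (w⁻¹ * x) = 1 := by rw [map_mul, map_inv, hwx, inv_mul_cancel]
  have h4 := h.zsq _ h3 (h.mem.1 (mul_mem (inv_mem h2) hx)).2
  have h5 := h.comm_le hW (h.h1 _ h3 h4)
  have h6 := mul_mem (h.comm_le hW hw) h5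
  rwa [mul_inv_cancel_left] at h6

theorem of_X (h : Dat ρ V X t) {x : H} (hx : x ∈ lft 2 ρ V) (h1 : ρ x ∈ X) :
    ∃ z : H, ρ z = 1 ∧ z * z = 1 ∧ (x = z ∨ x = z * t) := by
  rcases h.Xt _ h1 with h2 | h2
  · exact ⟨x, h2, h.zsq x h2 (h.mem.1 hx).2, Or.inl rfl⟩
  · have h3 : ρ (x * t⁻¹) = 1 := by rw [map_mul, map_inv, h2, mul_inv_cancel]
    exact ⟨x * t⁻¹, h3, h.zsq _ h3 (h.mem.1 (mul_mem hx (inv_mem h.t_mem))).2, Or.inr (by group)⟩

theorem sq_comm (h : Dat ρ V X t) {x : H} (hx : x ∈ lft 2 ρ V) (g : H) : g * (x * x) = (x * x) * g := by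
  obtain ⟨z, hz, -, e | e⟩ := h.of_X (mul_mem hx hx) (by rw [map_mul]; exact h.sq _ (h.mem.1 hx).1)
  · rw [e]; exact h.kcomm hz g
  · rw [e, ← mul_assoc, h.kcomm hz g, mul_assoc, h.tcen, mul_assoc]

theorem pow (h : Dat ρ V X t) : ∀ x ∈ lft 2 ρ V, x * x = 1 ∨ x * x = t := by
  have key : ∀ x ∈ lft 2 ρ V, ∀ y ∈ lft 2 ρ V, ∃ ζ : H, (ζ = 1 ∨ ζ = t) ∧ (x * y) * (x * y) = (x * x) * (y * y) * ζ := by
    intro x hx y hy
    rcases h.comm y hy x hx with e | e
    · refine ⟨1, Or.inl rfl, ?_⟩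
      calc (x * y) * (x * y) = x * (y * x) * y := by group
        _ = x * (x * y) * y := by rw [e]
        _ = _ := by group
    · refine ⟨t, Or.inr rfl, ?_⟩
      calc (x * y) * (x * y) = x * (y * x) * y := by group
        _ = x * (x * y * t) * y := by rw [e]
        _ = x * x * y * (t * y) := by group
        _ = x * x * y * (y * t) := by rw [h.tcen]
        _ = _ := by group
  have tt : ∀ {x y : H}, (x = 1 ∨ x = t) → (y = 1 ∨ y = t) → (x * y = 1 ∨ x * y = t) := by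
    rintro x y (rfl | rfl) (rfl | rfl)
    · left; simp
    · right; simp
    · right; simp
    · left; exact h.tsq
  let W : Subgroup H :=
    { carrier := {x | x ∈ lft 2 ρ V ∧ (x * x = 1 ∨ x * x = t)}
      one_mem' := ⟨one_mem _, Or.inl (one_mul 1)⟩
      mul_mem' := by
        rintro x y ⟨hx, hx2⟩ ⟨hy, hy2⟩
        refine ⟨mul_mem hx hy, ?_⟩
        obtain ⟨ζ, hζ, e⟩ := key x hx y hy
        rw [e]
        exact tt (tt hx2 hy2) hζ
      inv_mem' := by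
        rintro x ⟨hx, hx2⟩
        refine ⟨inv_mem hx, ?_⟩
        rw [← mul_inv_rev]
        rcases hx2 with e | e
        · left; rw [e, inv_one]
        · right; rw [e]; exact inv_eq_of_mul_eq_one_left h.tsq }
  have hW : lft 2 ρ V ≤ W := by
    apply h.le_of_comm
    intro x hx g
    have h1 := h.conj_mem (inv_mem hx) g
    have e1 : x * g * x⁻¹ * g⁻¹ = x * (g * x⁻¹ * g⁻¹) := by group
    rw [e1]
    refine ⟨mul_mem hx h1, ?_⟩
    obtain ⟨ζ, hζ, e⟩ := key x hx _ h1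
    have h2 := h.sq_comm (inv_mem hx) g
    have e2 : (g * x⁻¹ * g⁻¹) * (g * x⁻¹ * g⁻¹) = (x * x)⁻¹ := by
      calc (g * x⁻¹ * g⁻¹) * (g * x⁻¹ * g⁻¹) = (g * (x⁻¹ * x⁻¹)) * g⁻¹ := by group
        _ = _ := by rw [h2]; group
    rw [e, e2, mul_inv_cancel, one_mul]
    exact hζ
  exact fun x hx => (hW hx).2

/-- **The core.** -/
theorem main (h : Dat ρ V X t) {a b c : H} (hgen : ∀ g : H, ρ g ∈ V ⊔ _root_.Subgroup.closure {ρ a, ρ b})
    (hc : c * (a * b * a⁻¹ * b⁻¹)⁻¹ ∈ lft 2 ρ V)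
    (hrk : 32 * Nat.card {x : K // x ∈ V ∧ ρ c * x * (ρ c)⁻¹ * x⁻¹ ∈ X} ≤ Nat.card V) :
    ∃ x y : H, c = x * y * x⁻¹ * y⁻¹ := by
  classical
  have : Finite ρ.range := Finite.of_surjective ρ.rangeRestrict ρ.rangeRestrict_surjective
  have : Finite V := Finite.of_injective _ (Subgroup.inclusion_injective h.le)
  let Z : Subgroup H :=
    { carrier := {z | ρ z = 1 ∧ z * z = 1}
      one_mem' := ⟨map_one ρ, one_mul 1⟩
      mul_mem' := by
        rintro x y ⟨hx, hx2⟩ ⟨hy, hy2⟩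
        refine ⟨by rw [map_mul, hx, hy, one_mul], ?_⟩
        calc x * y * (x * y) = x * (y * x) * y := by group
          _ = x * (x * y) * y := by rw [h.kcomm hx y]
          _ = (x * x) * (y * y) := by group
          _ = 1 := by rw [hx2, hy2, one_mul]
      inv_mem' := by
        rintro x ⟨hx, hx2⟩
        exact ⟨by rw [map_inv, hx, inv_one], by rw [← mul_inv_rev, hx2, inv_one]⟩ }
  have hZmem : ∀ z, z ∈ Z ↔ ρ z = 1 ∧ z * z = 1 := fun z => Iff.rfl
  have hZQ : Z ≤ lft 2 ρ V := fun z hz =>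
    h.mem.2 ⟨by rw [hz.1]; exact one_mem V, 1, by rw [pow_one, pow_two]; exact hz.2⟩
  have hZc : Z ≤ center H := fun z hz => h.cen (MonoidHom.mem_ker.2 hz.1)
  have htZ : t ∉ Z := fun hz => h.tne hz.1
  have hnd : ∀ x ∈ lft 2 ρ V, (∀ y ∈ lft 2 ρ V, x * y = y * x) → ∃ z ∈ Z, x = z ∨ x = z * t := by
    intro x hx hxy
    have h1 : ρ x ∈ X := by
      refine h.nd _ (h.mem.1 hx).1 ?_
      intro v hv
      obtain ⟨y, hy, rfl⟩ := h.exists_lift hv
      rw [← map_mul, ← map_mul, hxy y hy]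
    obtain ⟨z, hz1, hz2, e⟩ := h.of_X hx h1
    exact ⟨z, ⟨hz1, hz2⟩, e⟩
  have hfp : FPz (lft 2 ρ V) t a b := by
    refine fpz_of h.normal h.t_mem h.tcen h.tsq h.comm ?_ fun W hW => h.le_of_comm hW
    intro M ha hb hQ hZ
    rw [eq_top_iff]
    intro g _
    have h1 : V ⊔ _root_.Subgroup.closure {ρ a, ρ b} ≤ M.map ρ := by
      refine sup_le ?_ ?_
      · intro v hv
        obtain ⟨x, hx, rfl⟩ := h.exists_lift hv
        exact ⟨x, hQ hx, rfl⟩
      · rw [closure_le]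
        rintro y (rfl | rfl)
        · exact ⟨a, ha, rfl⟩
        · exact ⟨b, hb, rfl⟩
    obtain ⟨m, hm, hmg⟩ := h1 (hgen g)
    have h2 : m⁻¹ * g ∈ M := hZ (h.cen (MonoidHom.mem_ker.2 (by rw [map_mul, map_inv, hmg, inv_mul_cancel])))
    have h3 := mul_mem hm h2
    rwa [mul_inv_cancel_left] at h3
  -- the orders
  let r : ↥(lft 2 ρ V) → V := fun x => ⟨ρ x, (h.mem.1 x.2).1⟩
  have hcard : ∀ (A : Set K), A ⊆ V → Nat.card {x : H // x ∈ lft 2 ρ V ∧ ρ x ∈ A} = Nat.card Z * Nat.card A := by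
    intro A hA
    have hl : ∀ v : A, ∃ x : H, x ∈ lft 2 ρ V ∧ ρ x = v := fun v => h.exists_lift (hA v.2)
    choose s hs1 hs2 using hl
    rw [← Nat.card_prod]
    refine Nat.card_congr ⟨fun x => (⟨(s ⟨ρ x.1, x.2.2⟩)⁻¹ * x.1, ?_⟩, ⟨ρ x.1, x.2.2⟩), fun y => ⟨s y.2 * y.1, ?_, ?_⟩, ?_, ?_⟩
    · have h1 : ρ ((s ⟨ρ x.1, x.2.2⟩)⁻¹ * x.1) = 1 := by rw [map_mul, map_inv, hs2, inv_mul_cancel]
      exact ⟨h1, h.zsq _ h1 (h.mem.1 (mul_mem (inv_mem (hs1 _)) x.2.1)).2⟩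
    · exact mul_mem (hs1 _) (hZQ y.1.2)
    · rw [map_mul, hs2, y.1.2.1, mul_one]
      exact y.2.2
    · intro x
      apply Subtype.ext
      show s ⟨ρ x.1, x.2.2⟩ * ((s ⟨ρ x.1, x.2.2⟩)⁻¹ * x.1) = x.1
      rw [mul_inv_cancel_left]
    · rintro ⟨z, v⟩
      have h1 : ρ (s v * z) = v := by rw [map_mul, hs2, z.2.1, mul_one]
      have h2 : (⟨ρ (s v * z), by rw [h1]; exact v.2⟩ : A) = v := Subtype.ext h1
      apply Prod.ext
      · apply Subtype.ext
        show (s ⟨ρ (s v * z), _⟩)⁻¹ * (s v * z) = z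
        rw [h2, inv_mul_cancel_left]
      · exact h2
  have hQc : Nat.card (lft 2 ρ V) = Nat.card Z * Nat.card V := by
    have h1 := hcard (V : Set K) subset_rfl
    rw [← Nat.card_congr (Equiv.subtypeEquivRight (p := fun x => x ∈ lft 2 ρ V ∧ ρ x ∈ (V : Set K))
      (q := fun x => x ∈ lft 2 ρ V) fun x => ⟨fun hx => hx.1, fun hx => ⟨hx, (h.mem.1 hx).1⟩⟩)]
    exact h1
  have hN : Nat.card {x : H // x ∈ lft 2 ρ V ∧ ∃ z ∈ Z, c * x * c⁻¹ = x * z ∨ c * x * c⁻¹ = x * z * t} ≤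
      Nat.card Z * Nat.card {x : K // x ∈ V ∧ ρ c * x * (ρ c)⁻¹ * x⁻¹ ∈ X} := by
    have h1 := hcard {x : K | x ∈ V ∧ ρ c * x * (ρ c)⁻¹ * x⁻¹ ∈ X} fun x hx => hx.1
    have e : Nat.card {x : K // x ∈ V ∧ ρ c * x * (ρ c)⁻¹ * x⁻¹ ∈ X} =
      Nat.card ↥{x : K | x ∈ V ∧ ρ c * x * (ρ c)⁻¹ * x⁻¹ ∈ X} := rfl
    rw [e, ← h1]
    have f : ∀ x : {x : H // x ∈ lft 2 ρ V ∧ ∃ z ∈ Z, c * x * c⁻¹ = x * z ∨ c * x * c⁻¹ = x * z * t},
        (x : H) ∈ lft 2 ρ V ∧ ρ (x : H) ∈ {x : K | x ∈ V ∧ ρ c * x * (ρ c)⁻¹ * x⁻¹ ∈ X} := by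
      rintro ⟨x, hx, z, hz, e⟩
      refine ⟨hx, (h.mem.1 hx).1, ?_⟩
      rcases e with e | e
      · have h2 : ρ c * ρ x * (ρ c)⁻¹ = ρ x := by
          have := congrArg ρ e
          rwa [map_mul, map_mul, map_inv, map_mul, hz.1, mul_one] at this
        rw [h2, mul_inv_cancel]
        exact one_mem X
      · have h2 : ρ c * ρ x * (ρ c)⁻¹ = ρ t * ρ x := by
          have := congrArg ρ e
          rwa [map_mul, map_mul, map_inv, map_mul, map_mul, hz.1, mul_one, ← map_mul, ← map_mul, h.tcen, map_mul,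
            map_mul] at this
        rw [h2, mul_inv_cancel_right]
        exact h.tX
    exact Nat.card_le_card_of_injective (fun x => ⟨x.1, f x⟩) fun x y hxy => Subtype.ext (congrArg (fun w => w.1) hxy)
  obtain ⟨q₁, -, q₂, -, e⟩ := Cfsg.Agent.H201.F4.ges h.normal hZQ hZc (fun z hz => hz.2)
    (h.zcard Z fun z hz => hz) h.t_mem (mem_center_iff.2 h.tcen) h.tsq htZ h.comm h.pow hnd hfp hc (by
      rw [hQc]
      calc _ ≤ 32 * (Nat.card Z * Nat.card {x : K // x ∈ V ∧ ρ c * x * (ρ c)⁻¹ * x⁻¹ ∈ X}) := Nat.mul_le_mul_left 32 hN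
        _ = Nat.card Z * (32 * Nat.card {x : K // x ∈ V ∧ ρ c * x * (ρ c)⁻¹ * x⁻¹ ∈ X}) := by ring
        _ ≤ _ := Nat.mul_le_mul_left _ hrk)
  exact ⟨_, _, e⟩

end Dat

end Core

end Cfsg.Agent.H461.QF
end

-- part: H461/QF/P1
section
/-!
# S2491, row F4 = `²E₆(2)` : all elements over `P_1 ∖ V_1` are commutators (box P1, helper461)
-/

set_option autoImplicit false
set_option linter.unusedSectionVars false

namespace Cfsg.Agent.H461.QF

open CoxeterSystem Cfsg.Agent.ChevalleyStructure.CoxeterGeom Cfsg.Agent.Tits.Roots Cfsg.Agent.Tits.Core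
  Cfsg.Agent.Nodes Cfsg.Agent.Nodes.Reps Cfsg.Agent.Nodes.BNOf Cfsg.Agent.Nodes.RGDLib Cfsg.Agent.Nodes.Bruhat
  Cfsg.Agent.Nodes.OppDec Cfsg.Agent.Nodes.LeviDec Cfsg.Agent.Nodes.StabComb
open Cfsg.Lie Subgroup
open Cfsg.Agent.H51.Mult (PCE)
open Cfsg.Agent.H777.Ore (AllC IsC)
open Cfsg.Agent.H231.QF
open Cfsg.Agent.Nodes.RGDLift (lft mem_lft isPGroup_lft)
open Cfsg.Agent.SporadicStructure.UnitTwo
open scoped commutatorElement

universe u v

/-! ## K-side -/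

section K

variable {F : Type u} [Field F] [Fintype F] (hF : Fintype.card F = 4) {φ : F →+* F} (hφ : ∀ t, φ t = t ^ 2)

include hF in
theorem charP_two : CharP F 2 := by
  obtain ⟨p, hp⟩ := CharP.exists F
  have : Fact p.Prime := ⟨CharP.char_is_prime F p⟩
  obtain ⟨n, hn, h1⟩ := FiniteField.card F p
  have h2 : p ∣ 2 ^ 2 := by
    have h3 : p ∣ p ^ (n : ℕ) := dvd_pow_self p n.2.ne'
    rw [← h1, hF] at h3
    exact h3
  have h4 : p = 2 := (Nat.prime_dvd_prime_iff_eq hn Nat.prime_two).1 (hn.dvd_of_dvd_pow h2)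
  rwa [h4] at hp

include hF in
theorem frob_frob (t : F) : (t ^ 2) ^ 2 = t := by
  have := FiniteField.pow_card t
  rw [hF] at this
  rw [← pow_mul]
  exact this

theorem cls_th : ∀ k < chevE6.nroots, (Cfsg.Agent.Nodes.RGDFold.V chevE6 RGDTwE6.J k = th ↔ k ∈ [71]) := by
  decide +kernel

theorem eps_th : Cfsg.Agent.ChevalleyStructure.GraphSymm.symmE6.ε (⟨71, by decide +kernel⟩ : Fin chevE6.nroots) = 1 := by
  decide +kernel

theorem rho_th : (Cfsg.Agent.ChevalleyStructure.TwE6Basic.rho (71 : Fin 72)).val = 71 := by decide +kernel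

include hφ in
/-- the root group of the highest root has order at most two -/
theorem X_th {g h : KK F} (hg : g ∈ X φ th) (hh : h ∈ X φ th) (g1 : g ≠ 1) (h1 : h ≠ 1) : g = h := by
  have key : ∀ g : KK F, g ∈ X φ th → g ≠ 1 →
      (g : GL chevE6.Idx F) = Cfsg.Agent.ChevalleyStructure.TwE6Basic.x 71 1 := by
    intro g hg g1
    have h1 : (g : GL chevE6.Idx F) ∈ Cfsg.Agent.Nodes.RGDFold.R chevE6 RGDTwE6.hp F RGDTwE6.J
        (Cfsg.Agent.ChevalleyStructure.TwE6Basic.sg φ) th := hg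
    rw [Cfsg.Agent.Nodes.RGDFold.R_eq cls_th (by decide +kernel), RGDTwE6.rspan_eq, RGDTwE6.fixS_eq] at h1
    obtain ⟨t, ht⟩ := Cfsg.Agent.ChevalleyStructure.TwE6BN.rs_single (r := 71) (K := F) h1.1
    have h2 := Cfsg.Agent.ChevalleyStructure.TwE6Basic.mem_fix.1 h1.2
    have h3 := Cfsg.Agent.ChevalleyStructure.TwE6Basic.sg_x φ (71 : Fin 72) t
    have h4 : Cfsg.Agent.ChevalleyStructure.GraphSymm.symmE6.ε (71 : Fin 72) = 1 := eps_th
    rw [rho_th, h4, Int.cast_one, one_mul] at h3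
    rw [ht] at h2
    have h5 : φ t = t := Cfsg.Agent.ChevalleyStructure.TwE6Basic.x_injective (r := 71) (by norm_num) (h3.symm.trans h2)
    rw [hφ] at h5
    have h6 : t * (t - 1) = 0 := by linear_combination h5
    rcases mul_eq_zero.1 h6 with h7 | h7
    · exfalso
      apply g1
      apply Subtype.ext
      rw [ht, h7]
      exact Cfsg.Agent.ChevalleyStructure.TwE6Basic.x_zero 71
    · rw [ht, sub_eq_zero.1 h7]
  exact Subtype.ext ((key g hg g1).trans (key h hh h1).symm)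

theorem isRoot_th : IsRoot cs RGDTwE6.isCartan th :=
  (RGDTwE6.foldData.isRoot_iff (cs := cs) (h := RGDTwE6.isCartan) RGDTwE6.hp.checked
    (fun i _ hr => Cfsg.Agent.Nodes.RGDFold.wp_lt RGDTwE6.hp (RGDTwE6.J i) hr) th).2
      ⟨71, by decide +kernel, (cls_th 71 (by decide +kernel)).2 (List.mem_singleton.2 rfl)⟩

theorem X_le_V {g : KK F} (hg : g ∈ X φ th) : g ∈ V φ j1 :=
  (RGD.le_Sup (X := X φ) (S := NotJ cs RGDTwE6.isCartan j1)
    ⟨isRoot_th, by intro i; fin_cases i <;> decide, 0, fun h => h rfl, by decide⟩ : X φ th ≤ V φ j1) hg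

include hF hφ in
theorem rgd : RGD cs RGDTwE6.isCartan 2 (RGDTwE6.T F 2) (RGDTwE6.nn hφ) (X φ) := by
  have := charP_two hF
  exact RGDTwE6.rgd cs hφ (frob_frob hF) 2

include hF hφ in
theorem conj_V {g v : KK F} (hg : g ∈ P φ j1) (hv : v ∈ V φ j1) : g * v * g⁻¹ ∈ V φ j1 :=
  (Subgroup.mem_normalizer_iff.1 (PJ_le_normalizer_VJ (rgd hF hφ) j1 hg) v).1 hv

include hF hφ in
theorem exists_dec {g : KK F} (hg : g ∈ P φ j1) : ∃ v ∈ V φ j1, ∃ l ∈ Lv φ j1, g = v * l := by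
  obtain ⟨l, hl, v, hv, rfl⟩ := (mem_PJ (rgd hF hφ)).1 hg
  exact ⟨l * v * l⁻¹, conj_V hF hφ (LJ_le_PJ hl) hv, l, hl, by group⟩

end K

/-! ## L-side -/

section Ker

variable {F : Type u} [Field F] [Fintype F] (hF : Fintype.card F = 4) {L : Type v} [Group L] [Finite L] {π : L →* KK F}
  (hπ : PCE π) (hk : Nat.card π.ker = 12)

include hF hπ hk

theorem ker_sq (z : L) (hz : π z = 1) (h2 : ∃ k : ℕ, z ^ 2 ^ k = 1) : z * z = 1 := by
  have hpow : ∀ x : L, π x = 1 → x ^ 12 = 1 := by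
    intro x hx
    have h1 : (⟨x, hx⟩ : π.ker) ^ Nat.card π.ker = 1 := pow_card_eq_one'
    rw [hk] at h1
    exact congrArg Subtype.val h1
  let N : Subgroup L :=
    { carrier := {x | π x = 1 ∧ x ^ 3 = 1}
      one_mem' := ⟨map_one π, one_pow 3⟩
      mul_mem' := by
        rintro x y ⟨hx, hx3⟩ ⟨hy, hy3⟩
        have hc : Commute x y := hπ.comm hx y
        exact ⟨by rw [map_mul, hx, hy, one_mul], by rw [hc.mul_pow, hx3, hy3, one_mul]⟩
      inv_mem' := by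
        rintro x ⟨hx, hx3⟩
        exact ⟨by rw [map_inv, hx, inv_one], by rw [inv_pow, hx3, inv_one]⟩ }
  obtain ⟨L', _, q, ρ, hq, hqk, hρ, hP⟩ := hπ.quot (N := N) fun x hx => hx.1
  have : Finite L' := Finite.of_surjective q hq
  have hp : IsPGroup 2 ρ.ker := by
    rintro ⟨y, hy⟩
    obtain ⟨x, rfl⟩ := hq y
    have h1 : π x = 1 := (hρ x).symm.trans hy
    have h3 : x ^ 4 ∈ N := ⟨by rw [map_pow, h1, one_pow], by rw [← pow_mul]; exact hpow x h1⟩
    refine ⟨2, Subtype.ext ?_⟩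
    show q x ^ 2 ^ 2 = 1
    rw [← map_pow]
    rw [← hqk] at h3
    exact h3
  have h3 := (Cfsg.Agent.KFacts.Mult.TwESixTwo.ker F hF hP.perf hP.surj hP.cen hp).1 (q z) (by rw [hρ, hz])
  rw [← map_mul, ← MonoidHom.mem_ker, hqk] at h3
  obtain ⟨k, hk2⟩ := h2
  have h4 : (z * z) ^ 2 ^ k = 1 := by rw [(Commute.refl z).mul_pow, hk2, one_mul]
  have h5 : orderOf (z * z) ∣ 1 := by
    rw [← (show Nat.Coprime 3 (2 ^ k) from Nat.Coprime.pow_right k (by norm_num))]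
    exact Nat.dvd_gcd (orderOf_dvd_of_pow_eq_one h3.2) (orderOf_dvd_of_pow_eq_one h4)
  exact orderOf_eq_one_iff.1 (Nat.dvd_one.1 h5)

omit hF hπ in
theorem card_Z {Z : Subgroup L} (hZ : ∀ z ∈ Z, π z = 1 ∧ z * z = 1) : Nat.card Z ∣ 4 := by
  have h1 : Nat.card Z ∣ 4 * 3 := by
    have := Subgroup.card_dvd_of_le (show Z ≤ π.ker from fun z hz => (hZ z hz).1)
    rw [hk] at this
    exact this
  have h2 : IsPGroup 2 Z := by
    rintro ⟨z, hz⟩
    exact ⟨1, Subtype.ext (by rw [pow_one]; exact (pow_two z).trans (hZ z hz).2)⟩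
  obtain ⟨n, hn⟩ := IsPGroup.iff_card.1 h2
  refine Nat.Coprime.dvd_of_dvd_mul_right ?_ h1
  rw [hn]
  exact Nat.Coprime.pow_left n (by norm_num)

end Ker

section P1

variable {F : Type u} [Field F] [Fintype F] (hF : Fintype.card F = 4) {φ : F →+* F} (hφ : ∀ t, φ t = t ^ 2)
  {L : Type v} [Group L] [Finite L] {π : L →* KK F} (hπ : PCE π) (hk : Nat.card π.ker = 12)

include hF hφ hπ hk

/-- **P1**, from the boxes K4 - K7, TSTAR, MATCH3, PERF, H1. -/
theorem p1_of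
    (f : SU 6 F 2 →* KK F) (hf : f.range = Lv φ j1) (hfk : f.ker = center (SU 6 F 2))
    (K5 : ∀ (hF2 : Fintype.card F = 2 ^ 2) (w : Fin 6 → F) (hw : hermForm 6 F 2 w w = 0), w ≠ 0 → ∀ v ∈ V φ j1,
      Cfsg.Agent.H231.QF.Out φ j4 (v * f (Cfsg.Agent.SporadicStructure.UnitTwo.T hF2 w hw)))
    (K6 : (∀ x ∈ V φ j1, ∀ y ∈ V φ j1, x * y * x⁻¹ * y⁻¹ ∈ X φ th) ∧ (∀ x ∈ V φ j1, x * x ∈ X φ th) ∧
      (∀ x ∈ V φ j1, (∀ y ∈ V φ j1, x * y = y * x) → x ∈ X φ th) ∧ Nat.card (V φ j1) = 2 ^ 21)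
    (K7 : ∀ h : SU 6 F 2, h ∉ center (SU 6 F 2) →
      32 * Nat.card {x : KK F // x ∈ V φ j1 ∧ f h * x * (f h)⁻¹ * x⁻¹ ∈ X φ th} ≤ Nat.card (V φ j1))
    (TSTAR : ∃ t : L, π t ∈ X φ th ∧ π t ≠ 1 ∧ t * t = 1 ∧ (∀ g, π g ∈ P φ j1 → g * t = t * g) ∧
      (∀ x ∈ lft 2 π (V φ j1), ∀ y ∈ lft 2 π (V φ j1), x * y = y * x ∨ x * y = y * x * t))
    (MATCH3 : ∀ (g : L) (v : KK F),
      v ∈ V φ j1 → ∀ h : SU 6 F 2, π g = v * f h → ∃ s ∈ center (SU 6 F 2), ∀ (a b : SU 6 F 2) (a' b' : L),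
        h * s = a * b * a⁻¹ * b⁻¹ → π a' = f a → π b' = f b → g * (a' * b' * a'⁻¹ * b'⁻¹)⁻¹ ∈ lft 2 π (V φ j1))
    (PERF : V φ j1 ≤ ⁅V φ j1, P φ j1⁆)
    (H1 : ∀ z : L, π z = 1 → z * z = 1 → z ∈ ⁅(V φ j1).comap π, (P φ j1).comap π⁆)
    (hp4 : ∀ g : L, π g ∈ P φ j4 → π g ∉ V φ j4 → IsC g) (g : L) (h : π g ∈ P φ j1) (h1 : π g ∉ V φ j1) : IsC g := by
  obtain ⟨v, hv, l, hl, hg⟩ := exists_dec hF hφ h
  rw [← hf] at hl
  obtain ⟨x, rfl⟩ := hl
  have hx : x ∉ center (SU 6 F 2) := by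
    intro hx
    rw [← hfk] at hx
    apply h1
    rw [hg, MonoidHom.mem_ker.1 hx, mul_one]
    exact hv
  obtain ⟨s, hs, hm⟩ := MATCH3 g v hv x hg
  have hfs : f (x * s) = f x := by
    rw [map_mul, MonoidHom.mem_ker.1 (show s ∈ f.ker by rw [hfk]; exact hs), mul_one]
  have hxs : x * s ∉ center (SU 6 F 2) := by
    intro h2
    apply hx
    have := mul_mem h2 (inv_mem hs)
    rwa [mul_inv_cancel_right] at this
  have hF2 : Fintype.card F = 2 ^ 2 := hF
  rcases Cfsg.Agent.H259.U6.ore hF2 hxs with ⟨a, b, hab, hcl⟩ | ⟨w, hw, hw0, hT⟩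
  · obtain ⟨t, ht1, ht2, ht3, ht4, ht5⟩ := TSTAR
    obtain ⟨a', ha'⟩ := hπ.surj (f a)
    obtain ⟨b', hb'⟩ := hπ.surj (f b)
    have hc := hm a b a' b' hab ha' hb'
    have hfP : ∀ y, f y ∈ P φ j1 := fun y => LJ_le_PJ (show f y ∈ Lv φ j1 from hf ▸ ⟨y, rfl⟩)
    have htP : t ∈ (P φ j1).comap π := VJ_le_PJ (show π t ∈ V φ j1 from X_le_V ht1)
    let ρ : ↥((P φ j1).comap π) →* KK F := π.comp ((P φ j1).comap π).subtype
    have hρr : ρ.range = P φ j1 := by
      ext y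
      constructor
      · rintro ⟨z, rfl⟩
        exact z.2
      · intro hy
        obtain ⟨z, rfl⟩ := hπ.surj y
        exact ⟨⟨z, hy⟩, rfl⟩
    have hV2 : IsPGroup 2 (V φ j1) := IsPGroup.of_card K6.2.2.2
    have hρc : ρ.ker ≤ center ↥((P φ j1).comap π) := by
      intro z hz
      rw [mem_center_iff]
      intro y
      exact Subtype.ext (hπ.comm (z := z.1) hz y.1).symm
    have hl : ∀ y : ↥((P φ j1).comap π), y ∈ lft 2 ρ (V φ j1) ↔ (y : L) ∈ lft 2 π (V φ j1) := by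
      intro y
      rw [mem_lft hρc hV2, mem_lft hπ.cen hV2]
      refine and_congr_right fun _ => exists_congr fun k => ?_
      rw [← Subgroup.coe_pow, OneMemClass.coe_eq_one]
    have hD : Dat ρ (V φ j1) (X φ th) ⟨t, htP⟩ :=
      { cen := hρc
        nor := fun y v hv => conj_V hF hφ y.2 hv
        le := by rw [hρr]; exact VJ_le_PJ
        pgr := hV2
        XV := fun _ => X_le_V
        Xt := by
          intro y hy
          by_cases h2 : y = 1
          · exact Or.inl h2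
          · exact Or.inr (X_th hφ hy ht1 h2 ht2)
        tX := ht1
        tne := ht2
        tsq := Subtype.ext ht3
        tcen := fun y => Subtype.ext (ht4 y y.2)
        comm := by
          intro y hy z hz
          rcases ht5 y ((hl y).1 hy) z ((hl z).1 hz) with e | e
          · exact Or.inl (Subtype.ext e)
          · exact Or.inr (Subtype.ext e)
        zsq := by
          rintro z hz ⟨k, hk2⟩
          exact Subtype.ext (ker_sq hF hπ hk z hz ⟨k, congrArg Subtype.val hk2⟩)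
        zcard := by
          intro Z hZ
          rw [Nat.card_congr (Z.equivMapOfInjective _ (Subgroup.subtype_injective _)).toEquiv]
          apply card_Z (π := π) hk
          rintro _ ⟨z, hz, rfl⟩
          exact ⟨(hZ z hz).1, congrArg Subtype.val (hZ z hz).2⟩
        sq := K6.2.1
        nd := K6.2.2.1
        perf := by rw [hρr]; exact PERF
        h1 := by
          intro z hz hz2
          have h2 := H1 z hz (congrArg Subtype.val hz2)
          have h3 : ⁅(V φ j1).comap π, (P φ j1).comap π⁆ ≤ (⁅(V φ j1).comap ρ, (⊤ : Subgroup _)⁆).map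
              ((P φ j1).comap π).subtype := by
            rw [Subgroup.map_commutator]
            refine Subgroup.commutator_mono ?_ ?_
            · intro y hy
              exact ⟨⟨y, VJ_le_PJ (show π y ∈ V φ j1 from hy)⟩, hy, rfl⟩
            · intro y hy
              exact ⟨⟨y, hy⟩, mem_top _, rfl⟩
          obtain ⟨z', hz', e⟩ := h3 h2
          have : z' = z := Subtype.ext e
          rwa [← this] }
    have hrk : 32 * Nat.card {y : KK F // y ∈ V φ j1 ∧ ρ ⟨g, h⟩ * y * (ρ ⟨g, h⟩)⁻¹ * y⁻¹ ∈ X φ th} ≤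
        Nat.card (V φ j1) := by
      refine le_trans (Nat.mul_le_mul_left 32 ?_) (K7 x hx)
      have key : ∀ y : {y : KK F // y ∈ V φ j1 ∧ ρ ⟨g, h⟩ * y * (ρ ⟨g, h⟩)⁻¹ * y⁻¹ ∈ X φ th},
          (y : KK F) ∈ V φ j1 ∧ f x * y * (f x)⁻¹ * (y : KK F)⁻¹ ∈ X φ th := by
        rintro ⟨y, hy, hy2⟩
        refine ⟨hy, ?_⟩
        have h2 : ρ ⟨g, h⟩ = v * f x := hg
        rw [h2] at hy2
        have h3 : f x * y * (f x)⁻¹ ∈ V φ j1 := conj_V hF hφ (hfP x) hy
        have h4 := K6.1 v hv _ h3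
        have e : f x * y * (f x)⁻¹ * y⁻¹ = (v * (f x * y * (f x)⁻¹) * v⁻¹ * (f x * y * (f x)⁻¹)⁻¹)⁻¹ *
            (v * f x * y * (v * f x)⁻¹ * y⁻¹) := by group
        rw [e]
        exact mul_mem (inv_mem h4) hy2
      have : Finite (KK F) := Finite.of_surjective π hπ.surj
      exact Nat.card_le_card_of_injective (fun y => ⟨y.1, key y⟩) fun y z hyz =>
        Subtype.ext (congrArg (fun w => w.1) hyz)
    obtain ⟨y, z, e⟩ := hD.main (a := ⟨a', (by show π a' ∈ P φ j1; rw [ha']; exact hfP a)⟩)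
      (b := ⟨b', (by show π b' ∈ P φ j1; rw [hb']; exact hfP b)⟩) (c := ⟨g, h⟩) (by
        intro y
        show π y.1 ∈ V φ j1 ⊔ _root_.Subgroup.closure {π a', π b'}
        obtain ⟨v', hv', l', hl', e⟩ := exists_dec hF hφ (show π y.1 ∈ P φ j1 from y.2)
        rw [e]
        refine mul_mem ((le_sup_left : V φ j1 ≤ _) hv') ((le_sup_right : closure {π a', π b'} ≤ _) ?_)
        rw [ha', hb']
        have e2 : ({f a, f b} : Set (KK F)) = f '' {a, b} := by
          rw [Set.image_insert_eq, Set.image_singleton]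
        rw [e2, ← MonoidHom.map_closure, hcl, ← MonoidHom.range_eq_map, hf]
        exact hl') ((hl _).2 hc) hrk
    exact ⟨y, z, congrArg Subtype.val e⟩
  · have h2 := K5 hF2 w hw hw0 v hv
    rw [← hT, hfs, ← hg] at h2
    obtain ⟨y, hy⟩ := h2
    exact of_conj hπ.surj (Q := fun y => y ∈ P φ j4 ∧ y ∉ V φ j4) (fun y hy => hp4 y hy.1 hy.2) hy

end P1

end Cfsg.Agent.H461.QF
end

-- part: H164/F4/Coll
section
/-!
# S2491, row F4, box COLL: collection in the cover (helper164)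

`coll_abs` : `R` a root group datum in `G`, `π : L →* G`, `Z b ≤ L` over the root groups `X b` (`b > 0`), meeting the kernel
trivially and satisfying the commutator relations: the group generated by the `Z b` meets the kernel trivially.
-/

set_option autoImplicit false
set_option linter.unusedSectionVars false

namespace Cfsg.Agent.H164.F4.Coll

open CoxeterSystem Cfsg.Agent.ChevalleyStructure.CoxeterGeom Cfsg.Agent.Tits.Roots Cfsg.Agent.Tits.Core
  Cfsg.Agent.Tits.RootComb Cfsg.Agent.Tits.Exchange Cfsg.Agent.Nodes.Reps Cfsg.Agent.Nodes.BNOf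
  Cfsg.Agent.Nodes.StabComb Cfsg.Agent.Nodes.Bruhat Cfsg.Agent.Nodes.OppDec Cfsg.Agent.Nodes.LeviDec
  Cfsg.Agent.Nodes.Comb
open scoped commutatorElement

universe u v

section Abs

variable {I W Y : Type*} [Fintype I] [DecidableEq I] [Group W] [Group Y] {M : CoxeterMatrix I}
  {cs : CoxeterSystem M W} {A : I → I → ℤ} {h : IsCartan M A} {p : ℕ} {T : Subgroup Y} {n : I → Y}
  {X : (I → ℤ) → Subgroup Y}

variable (R : RGD cs h p T n X) {L : Type v} [Group L] {π : L →* Y} {Z : (I → ℤ) → Subgroup L}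
  (hZ : ∀ b, IsRoot cs h b → 0 ≤ b → (Z b).map π ≤ X b ∧ Z b ⊓ π.ker = ⊥)
  (hcomm : ∀ a b, IsRoot cs h a → 0 ≤ a → IsRoot cs h b → 0 ≤ b → a ≠ b →
      ⁅Z a, Z b⁆ ≤ ⨆ c : {c : I → ℤ // IsRoot cs h c ∧ ∃ i j : ℕ, 0 < i ∧ 0 < j ∧ c = i • a + j • b}, Z c.1)

include R hZ hcomm

/-- the step: the root `β = w⁻¹ α_i` and the other positive roots made positive by `w` -/
theorem step [Finite W] {w : W} {i : I} (hi : 0 ≤ rep cs h w⁻¹ (sr i))
    (ih : RGD.Sup Z (PW cs h w \ {rep cs h w⁻¹ (sr i)}) ⊓ π.ker = ⊥) : RGD.Sup Z (PW cs h w) ⊓ π.ker = ⊥ := by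
  obtain ⟨β, hβ⟩ : ∃ β, β = rep cs h w⁻¹ (sr i) := ⟨_, rfl⟩
  rw [← hβ] at hi ih
  have hwβ : rep cs h w β = sr i := by
    rw [hβ, ← rep_mul_apply, mul_inv_cancel, map_one]
    rfl
  have hβr : IsRoot cs h β := by
    rw [hβ]
    exact (isRoot_sr cs h i).act _
  have hβS : β ∈ PW cs h w := ⟨hβr, hi, by rw [hwβ]; exact NotRad.sr_nonneg i⟩
  -- images
  have hinj : ∀ x : I → ℤ, rep cs h w x = sr i → x = β := by
    intro x hx
    rw [hβ, ← hx, ← rep_mul_apply, inv_mul_cancel, map_one]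
    rfl
  -- `Z β` normalises the rest
  have hn : Z β ≤ Subgroup.normalizer (RGD.Sup Z (PW cs h w \ {β}) : Set L) := by
    have key : ∀ z ∈ Z β, ∀ y ∈ RGD.Sup Z (PW cs h w \ {β}), z * y * z⁻¹ ∈ RGD.Sup Z (PW cs h w \ {β}) := by
      intro z hz y hy
      have h1 : RGD.Sup Z (PW cs h w \ {β}) ≤ (RGD.Sup Z (PW cs h w \ {β})).comap (MulAut.conj z).toMonoidHom := by
        refine RGD.Sup_le fun b hb => fun y hy => ?_
        change z * y * z⁻¹ ∈ RGD.Sup Z (PW cs h w \ {β})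
        have h2 : ⁅z, y⁆ ∈ RGD.Sup Z (PW cs h w \ {β}) := by
          have h3 := hcomm β b hβr hi hb.1.1 hb.1.2.1 (fun h4 => hb.2 h4.symm)
            (Subgroup.commutator_mem_commutator hz hy)
          refine (iSup_le ?_ : _ ≤ RGD.Sup Z (PW cs h w \ {β})) h3
          rintro ⟨c, hc, k, l, hk, hl, rfl⟩
          refine RGD.le_Sup (S := PW cs h w \ {β}) ⟨⟨hc, ?_, ?_⟩, ?_⟩
          · exact add_nonneg (nsmul_nonneg hi k) (nsmul_nonneg hb.1.2.1 l)
          · rw [map_add, map_nsmul, map_nsmul]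
            exact add_nonneg (nsmul_nonneg (by rw [hwβ]; exact NotRad.sr_nonneg i) k) (nsmul_nonneg hb.1.2.2 l)
          · intro h4
            rw [Set.mem_singleton_iff] at h4
            -- `w b` is a positive root different from `α_i`
            have h5 : rep cs h w b ≠ sr i := fun h6 => hb.2 (hinj b h6)
            obtain ⟨m, hm, hm0⟩ := RGD.exists_coeff (hb.1.1.act w) hb.1.2.2 h5
            have h6 := congrArg (rep cs h w) h4
            rw [map_add, map_nsmul, map_nsmul, hwβ] at h6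
            have h7 := congrFun h6 m
            rw [Pi.add_apply, Pi.smul_apply, Pi.smul_apply, sr_ne hm, smul_zero, zero_add, nsmul_eq_mul] at h7
            have h8 : (0 : ℤ) < l := by exact_mod_cast hl
            nlinarith only [hl, hm0, h7]
        have h3 : z * y * z⁻¹ = ⁅z, y⁆ * y := by
          rw [commutatorElement_def]
          group
        rw [h3]
        exact mul_mem h2 (RGD.le_Sup hb hy)
      exact h1 hy
    intro z hz
    rw [Subgroup.mem_normalizer_iff]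
    intro y
    refine ⟨key z hz y, fun h1 => ?_⟩
    have h2 := key z⁻¹ (inv_mem hz) _ h1
    rwa [show z⁻¹ * (z * y * z⁻¹) * z⁻¹⁻¹ = y by group] at h2
  rw [Subgroup.eq_bot_iff_forall]
  rintro x ⟨hx, hxk⟩
  have h1 : RGD.Sup Z (PW cs h w) ≤ Z β ⊔ RGD.Sup Z (PW cs h w \ {β}) := by
    refine RGD.Sup_le fun b hb => ?_
    by_cases h2 : b = β
    · rw [h2]
      exact le_sup_left
    · exact le_trans (RGD.le_Sup (S := PW cs h w \ {β}) ⟨hb, h2⟩) le_sup_right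
  have h2 : x ∈ ((Z β ⊔ RGD.Sup Z (PW cs h w \ {β}) : Subgroup L) : Set L) := h1 hx
  rw [Subgroup.coe_mul_of_left_le_normalizer_right _ _ hn, Set.mem_mul] at h2
  obtain ⟨z, hz, y, hy, rfl⟩ := h2
  have hxk : π (z * y) = 1 := hxk
  change z * y = 1
  rw [map_mul] at hxk
  -- `π z ∈ X β ∩ Sup X (PW \ β) = 1`
  have h3 : π z ∈ X β := (hZ β hβr hi).1 ⟨z, hz, rfl⟩
  have h4 : π y ∈ RGD.Sup X (PW cs h w \ {β}) := by
    have h5 : RGD.Sup Z (PW cs h w \ {β}) ≤ (RGD.Sup X (PW cs h w \ {β})).comap π :=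
      RGD.Sup_le fun b hb y hy => RGD.le_Sup hb ((hZ b hb.1.1 hb.1.2.1).1 ⟨y, hy, rfl⟩)
    exact h5 hy
  have h5 : π z = (π y)⁻¹ := eq_inv_of_mul_eq_one_left hxk
  have h6 : π z = 1 := by
    obtain ⟨k, hk⟩ := exists_rp cs R.nsys w
    have h7 : k * π z * k⁻¹ ∈ X (sr i) := by
      rw [← hwβ, ← R.conj_rp hk hβr]
      exact conj_mem_cj.2 h3
    have h8 : k * π z * k⁻¹ ∈ VJ cs h X {i} := by
      rw [h5]
      refine conj_mem_Sup R hk (S := PW cs h w \ {β}) (fun x hx => hx.1.1) (fun x hx => ?_) (inv_mem h4)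
      obtain ⟨m, hm, hm0⟩ := RGD.exists_coeff (hx.1.1.act w) hx.1.2.2 (fun h9 => hx.2 (hinj x h9))
      exact ⟨hx.1.1.act w, hx.1.2.2, m, hm, hm0⟩
    have h9 : k * π z * k⁻¹ = 1 :=
      Cfsg.Agent.H164.F4.NotRad.eq_one_of_UJ_VJ R (J := {i}) (by
        rw [Cfsg.Agent.H164.F4.NotRad.UJ_single]
        exact h7) h8
    calc π z = k⁻¹ * (k * π z * k⁻¹) * k := by group
      _ = 1 := by rw [h9]; group
  have h7 : z = 1 := by
    have h8 := (hZ β hβr hi).2
    rw [Subgroup.eq_bot_iff_forall] at h8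
    exact h8 z ⟨hz, h6⟩
  rw [h7, one_mul]
  rw [Subgroup.eq_bot_iff_forall] at ih
  refine ih y ⟨hy, ?_⟩
  change π y = 1
  rw [h6, one_mul] at hxk
  exact hxk

theorem coll_PW [Finite W] (k : ℕ) : ∀ w : W, (PW cs h w).ncard ≤ k → RGD.Sup Z (PW cs h w) ⊓ π.ker = ⊥ := by
  induction k with
  | zero =>
    intro w hw
    have h1 : (PW cs h w).Finite := (RGD.finite_roots (cs := cs) (h := h)).subset fun x hx => hx.1
    have h2 := (Set.ncard_eq_zero h1).1 (Nat.le_zero.1 hw)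
    rw [h2, Cfsg.Agent.Nodes.OppDec.Sup_empty, bot_inf_eq]
  | succ k ih =>
    intro w hw
    have h1 : (PW cs h w).Finite := (RGD.finite_roots (cs := cs) (h := h)).subset fun x hx => hx.1
    by_cases h2 : ∃ i, 0 ≤ rep cs h w⁻¹ (sr i)
    · obtain ⟨i, hi⟩ := h2
      refine step R hZ hcomm hi ?_
      -- `PW w \ {β} = PW (s_i w)`
      have h3 : PW cs h w \ {rep cs h w⁻¹ (sr i)} = PW cs h (cs.simple i * w) := by
        ext x
        constructor
        · rintro ⟨⟨a1, a2, a3⟩, a4⟩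
          refine ⟨a1, a2, ?_⟩
          rw [rep_mul_apply]
          refine (a1.act w).simple_nonneg a3 i fun h9 => a4 ?_
          rw [Set.mem_singleton_iff, ← h9, ← rep_mul_apply, inv_mul_cancel, map_one]
          rfl
        · rintro ⟨a1, a2, a3⟩
          rw [rep_mul_apply] at a3
          have h9 : rep cs h (cs.simple i) (rep cs h (cs.simple i) (rep cs h w x)) = rep cs h w x := by
            rw [← rep_mul_apply, cs.simple_mul_simple_self, map_one]
            rfl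
          have h11 : x ≠ rep cs h w⁻¹ (sr i) := by
            rintro rfl
            rw [← rep_mul_apply cs h w, mul_inv_cancel, map_one] at a3
            have h12 : (0 : I → ℤ) ≤ rep cs h (cs.simple i) (sr i) := a3
            rw [rep_simple_sr] at h12
            have h13 : (0 : ℤ) ≤ (-sr i : I → ℤ) i := h12 i
            rw [Pi.neg_apply, sr_self] at h13
            norm_num at h13
          refine ⟨⟨a1, a2, ?_⟩, h11⟩
          rw [← h9]
          refine (((a1.act w).act (cs.simple i))).simple_nonneg a3 i fun h12 => ?_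
          -- then `w x = -α_i`, `x = -β`
          have h13 : rep cs h w x = -sr i := by
            rw [← h9, h12, rep_simple_sr]
          have h14 : x = -rep cs h w⁻¹ (sr i) := by
            rw [← map_neg, ← h13, ← rep_mul_apply, inv_mul_cancel, map_one]
            rfl
          rw [h14] at a1 a2
          exact a1.not_pos_neg a2 (neg_nonpos.2 hi)
      rw [h3]
      refine ih _ ?_
      rw [← h3]
      have h4 : rep cs h w⁻¹ (sr i) ∈ PW cs h w := ⟨(isRoot_sr cs h i).act _, hi, by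
        rw [← rep_mul_apply, mul_inv_cancel, map_one]
        exact NotRad.sr_nonneg i⟩
      have h5 := Set.ncard_sdiff_singleton_lt_of_mem h4 h1
      exact Nat.lt_succ_iff.1 (lt_of_lt_of_le h5 hw)
    · push Not at h2
      have h3 : PW cs h w = ∅ := by
        rw [Set.eq_empty_iff_forall_notMem]
        rintro x ⟨a1, a2, a3⟩
        have h4 : ∀ i, rep cs h w⁻¹ (sr i) ≤ 0 := fun i =>
          (((isRoot_sr cs h i).act w⁻¹).pos_or_neg).resolve_left (h2 i)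
        obtain ⟨z, hz⟩ : ∃ z, z = rep cs h w x := ⟨_, rfl⟩
        have h5 : x = rep cs h w⁻¹ z := by
          rw [hz, ← rep_mul_apply, inv_mul_cancel, map_one]
          rfl
        have h6 : z = ∑ k, z k • sr k := by
          funext j
          simp only [Finset.sum_apply, sr, Pi.single_apply, _root_.zsmul_eq_mul, _root_.Pi.mul_apply, _root_.Pi.intCast_apply, _root_.Int.cast_eq, _root_.mul_ite, _root_.mul_one, _root_.MulZeroClass.mul_zero, _root_.Finset.sum_ite_eq, _root_.Finset.mem_univ, ↓ _root_.reduceIte]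
        have h7 : x ≤ 0 := by
          rw [h5, h6, map_sum]
          refine Finset.sum_nonpos fun k _ => ?_
          rw [map_smul]
          intro j
          rw [Pi.smul_apply, smul_eq_mul]
          exact mul_nonpos_of_nonneg_of_nonpos (by rw [hz]; exact a3 k) (h4 k j)
        exact a1.not_pos_neg a2 h7
      rw [h3, Cfsg.Agent.Nodes.OppDec.Sup_empty, bot_inf_eq]

/-- **Collection** -/
theorem coll_abs [Finite W] : RGD.Sup Z {b | IsRoot cs h b ∧ 0 ≤ b} ⊓ π.ker = ⊥ := by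
  have h1 := coll_PW R hZ hcomm _ (1 : W) le_rfl
  rwa [PW_one] at h1

end Abs

section Inst

open Cfsg.Agent.Nodes Cfsg.Agent.Nodes.RGDLib
open Cfsg.Lie Subgroup
open Cfsg.Agent.H231.QF

variable {F : Type u} [Field F] [Fintype F] (hF : Fintype.card F = 4) {φ : F →+* F} (hφ : ∀ t, φ t = t ^ 2)

include hF hφ

/-- **COLL** -/
theorem coll {L : Type v} [Group L] {π : L →* KK F} (Y : (Fin 4 → ℤ) → Subgroup L)
    (hY : ∀ b, IsRoot Cfsg.Agent.H231.QF.cs RGDTwE6.isCartan b → 0 ≤ b →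
      (Y b).map π = Cfsg.Agent.H231.QF.X φ b ∧ Y b ⊓ π.ker = ⊥)
    (hcomm : ∀ a b, IsRoot Cfsg.Agent.H231.QF.cs RGDTwE6.isCartan a → 0 ≤ a →
      IsRoot Cfsg.Agent.H231.QF.cs RGDTwE6.isCartan b → 0 ≤ b → a ≠ b →
      ⁅Y a, Y b⁆ ≤ ⨆ c : {c : Fin 4 → ℤ // IsRoot Cfsg.Agent.H231.QF.cs RGDTwE6.isCartan c ∧
        ∃ i j : ℕ, 0 < i ∧ 0 < j ∧ c = i • a + j • b}, Y c.1) :
    (⨆ b : {b : Fin 4 → ℤ // IsRoot Cfsg.Agent.H231.QF.cs RGDTwE6.isCartan b ∧ 0 ≤ b}, Y b.1) ⊓ π.ker = ⊥ := by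
  have : CharP F 2 := OutV.charTwo hF
  have : Fact (Nat.Prime 2) := ⟨Nat.prime_two⟩
  have : Finite (KK F) := inferInstance
  have : Finite CoxeterMatrix.F₄.Group :=
    Cfsg.Agent.Nodes.RGDFold.finite_W (hp := RGDTwE6.hp) Cfsg.Agent.H231.QF.cs RGDTwE6.isCartan RGDTwE6.foldData
  exact coll_abs (RGDTwE6.rgd Cfsg.Agent.H231.QF.cs hφ (OutV.hqq hF) 2)
    (fun b h1 h2 => ⟨(hY b h1 h2).1.le, (hY b h1 h2).2⟩) hcomm

end Inst

end Cfsg.Agent.H164.F4.Coll
end

-- part: H231/QF/HOne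
section
/-!
# S2491, row F4: the kernel is in `[V~, P~]` (H1)

Central extensions `π : L → K`, `K = ²E₆(2)`, `D r = ⁅V_r~, P_r~⁆` for the long roots `r`. If `D θ ⊓ ker π = ⊥` then the root groups
have lifts `Y b` with exact commutator relations, so the Sylow 2-subgroup of `K` splits in `L`, and the transfer kills the 2-part of the
kernel.
-/

set_option autoImplicit false
set_option linter.unusedSectionVars false

namespace Cfsg.Agent.H231.QF.HOne

open CoxeterSystem Cfsg.Agent.ChevalleyStructure.CoxeterGeom Cfsg.Agent.Tits.Roots Cfsg.Agent.Tits.Core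
  Cfsg.Agent.Nodes Cfsg.Agent.Nodes.Reps Cfsg.Agent.Nodes.BNOf Cfsg.Agent.Nodes.RGDLib Cfsg.Agent.Nodes.Bruhat
  Cfsg.Agent.Nodes.OppDec Cfsg.Agent.Nodes.LeviDec Cfsg.Agent.Nodes.StabComb Cfsg.Agent.KFacts.RgdSL
  Cfsg.Agent.Nodes.RGDTwE6 Cfsg.Agent.KFacts.TwESix.Comb Cfsg.Agent.KFacts.TwESix.Btw
open Cfsg.Agent.Nodes.RGDTwComE6 (Lg St comm_nil comm_long comm_trace comm_short comm_quad long_or_short)
open Cfsg.Agent.Nodes.RGDTwActE6 (mem_X_long mem_X_short x_mem x_add exists_T x_zero)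
open Cfsg.Lie Subgroup
open Cfsg.Agent.H326.QS.VP (Q conj_Q)
open Cfsg.Agent.H231.QF
open scoped commutatorElement

universe u v

/-! ### Tables -/

/-- long decomposition -/
theorem tab_long : ∀ b ∈ rts, bf b b = 4 → ∀ r ∈ rts, bf r r = 4 → 0 < bf b r →
    ∃ a ∈ rts, bf a a = 4 ∧ b - a ∈ rts ∧ bf (b - a) (b - a) = 4 ∧ bf a (b - a) = -2 ∧ 0 ≤ bf a r ∧ 0 < bf (b - a) r ∧
      0 < bf a b ∧ 0 < bf (b - a) b := by (delta Cfsg.Agent.KFacts.TwESix.Comb.bf; set_option synthInstance.maxSize 100000 in exact Cfsg.Agent.Lib.Refl.of (by decide +kernel))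

theorem tab_pair : ∀ a ∈ rts, (∀ k, 0 ≤ a k) → ∀ b ∈ rts, (∀ k, 0 ≤ b k) → a ≠ b →
    ∃ r ∈ rts, bf r r = 4 ∧ ((0 < bf b r ∧ 0 ≤ bf a r) ∨ (0 < bf a r ∧ 0 ≤ bf b r)) := by (delta Cfsg.Agent.KFacts.TwESix.Comb.bf; set_option synthInstance.maxSize 100000 in exact Cfsg.Agent.Lib.Refl.of (by decide +kernel))

theorem tab_short : ∀ b ∈ rts, ∃ r ∈ rts, bf r r = 4 ∧ 0 < bf b r := by (delta Cfsg.Agent.KFacts.TwESix.Comb.bf; set_option synthInstance.maxSize 100000 in exact Cfsg.Agent.Lib.Refl.of (by decide +kernel))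

theorem tab_th : th ∈ rts ∧ bf th th = 4 := by decide +kernel

theorem bf_th : ∀ x ∈ rts, bf x th = 2 * x 0 := by decide +kernel

/-- integral betweenness -/
def bti (a b c : Fin 4 → ℤ) : Prop := IsRoot cs isCartan c ∧ ∃ i j : ℕ, 0 < i ∧ 0 < j ∧ c = i • a + j • b

theorem lg_iff {z : Fin 4 → ℤ} (hz : z ∈ rts) : Lg z ↔ bf z z = 4 := by
  have h : ∀ z ∈ rts, (Lg z ↔ bf z z = 4) := by decide +kernel
  exact h z hz

theorem st_iff {z : Fin 4 → ℤ} (hz : z ∈ rts) : St z ↔ bf z z = 2 := by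
  have h : ∀ z ∈ rts, (St z ↔ bf z z = 2) := by decide +kernel
  exact h z hz

/-! ### Facts on the group -/

section K

variable {F : Type u} [Field F] [Fintype F] {φ : F →+* F} (hφ : ∀ t, φ t = t ^ 2) (hqq : ∀ t : F, (t ^ 2) ^ 2 = t)

/-- the join of the root groups of the roots between `a` and `b` -/
noncomputable def BX (φ : F →+* F) (a b : Fin 4 → ℤ) : Subgroup (KK F) := ⨆ c : {c : Fin 4 → ℤ // bti a b c}, X φ c.1

theorem BX_comm (a b : Fin 4 → ℤ) : BX φ a b = BX φ b a := by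
  have key : ∀ a b, BX φ a b ≤ BX φ b a := by
    intro a b
    refine iSup_le fun c => ?_
    obtain ⟨h1, i, j, hi, hj, e⟩ := c.2
    exact le_iSup (fun c : {c : Fin 4 → ℤ // bti b a c} => X φ c.1) ⟨c.1, h1, j, i, hj, hi, by rw [e, add_comm]⟩
  exact le_antisymm (key a b) (key b a)

include hφ hqq

theorem mem_BX {a b : Fin 4 → ℤ} (ha : IsRoot cs isCartan a) (hb : IsRoot cs isCartan b) (hne : a ≠ -b) {u v : KK F}
    (hu : u ∈ X φ a) (hv : v ∈ X φ b) : ⁅u, v⁆ ∈ BX φ a b := by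
  -- one direction
  have key : ∀ {a b : Fin 4 → ℤ} (_ : IsRoot cs isCartan a) (_ : IsRoot cs isCartan b) (_ : a ≠ -b)
      (_ : Lg a ∨ St b) {u v : KK F} (_ : u ∈ X φ a) (_ : v ∈ X φ b), ⁅u, v⁆ ∈ BX φ a b := by
    intro a b ha hb hne hor u v hu hv
    by_cases hab : IsRoot cs isCartan (a + b)
    swap
    · obtain ⟨s, -, rfl⟩ := (RGDTwActE6.mem_X hφ hqq ha _).1 hu
      obtain ⟨t, -, rfl⟩ := (RGDTwActE6.mem_X hφ hqq hb _).1 hv
      have hne' : b ≠ -a := by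
        rintro rfl
        exact hne (neg_neg a).symm
      rw [commutatorElement_eq_one_iff_commute.2 (comm_nil hφ hqq ha hb hab hne' s t)]
      exact one_mem _
    have hle : X φ (a + b) ≤ BX φ a b :=
      le_iSup (fun c : {c : Fin 4 → ℤ // bti a b c} => X φ c.1) ⟨a + b, hab, 1, 1, one_pos, one_pos, by simp⟩
    obtain ⟨s, hs, rfl⟩ := (RGDTwActE6.mem_X hφ hqq ha _).1 hu
    obtain ⟨t, ht, rfl⟩ := (RGDTwActE6.mem_X hφ hqq hb _).1 hv
    rcases long_or_short ha with la | sa <;> rcases long_or_short hb with lb | sb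
    · obtain ⟨h1, h2⟩ := comm_long hφ hqq ha hb hab la lb ((RGDTwComE6.ok_iff_long ha la).1 hs)
        ((RGDTwComE6.ok_iff_long hb lb).1 ht)
      rw [h2]
      refine hle ((mem_X_long hφ hqq hab h1 _).2 ⟨_, ?_, rfl⟩)
      rw [map_mul, map_mul, map_intCast, (RGDTwComE6.ok_iff_long ha la).1 hs, (RGDTwComE6.ok_iff_long hb lb).1 ht]
    · obtain ⟨h1, h2, h3, h4⟩ := comm_quad hφ hqq ha hb hab la sb ((RGDTwComE6.ok_iff_long ha la).1 hs) t
      rw [h4]
      refine mul_mem (hle ((mem_X_short hφ hqq hab h1 _).2 ⟨_, rfl⟩)) ?_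
      have hle2 : X φ (a + (2 : ℤ) • b) ≤ BX φ a b :=
        le_iSup (fun c : {c : Fin 4 → ℤ // bti a b c} => X φ c.1)
          ⟨a + (2 : ℤ) • b, h2, 1, 2, one_pos, two_pos, by rw [one_smul]; norm_cast⟩
      refine hle2 ((mem_X_long hφ hqq h2 h3 _).2 ⟨_, ?_, rfl⟩)
      rw [map_mul, map_mul, map_intCast, map_mul, RGDTwComE6.phi_phi hφ hqq,
        (RGDTwComE6.ok_iff_long ha la).1 hs, mul_comm (φ t) t]
    · exfalso
      rcases hor with h | h
      · exact RGDTwComE6.not_both h sa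
      · exact RGDTwComE6.not_both lb h
    · rcases long_or_short hab with h | h
      · rw [comm_trace hφ hqq ha hb hab sa sb h]
        refine hle ((mem_X_long hφ hqq hab h _).2 ⟨_, ?_, rfl⟩)
        rw [map_mul, map_add, map_mul, map_mul, map_intCast, RGDTwComE6.phi_phi hφ hqq, RGDTwComE6.phi_phi hφ hqq,
          add_comm]
      · rw [comm_short hφ hqq ha hb hab sa sb h]
        exact hle ((mem_X_short hφ hqq hab h _).2 ⟨_, rfl⟩)
  by_cases hor : Lg a ∨ St b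
  · exact key ha hb hne hor hu hv
  · have hor' : Lg b ∨ St a := by
      rcases long_or_short ha with la | sa
      · exact absurd (Or.inl la) hor
      · exact Or.inr sa
    have h1 := key hb ha (fun h => hne (by rw [h, neg_neg])) hor' hv hu
    rw [← commutatorElement_inv, BX_comm]
    exact inv_mem h1

/-- short root groups: `X b ≤ [X b, T]` -/
theorem le_comm_T (hF : Fintype.card F = 4) {b : Fin 4 → ℤ} (hb : IsRoot cs isCartan b) (sb : St b) :
    X φ b ≤ ⁅X φ b, RGDTwE6.T F 2⁆ := by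
  intro w hw
  obtain ⟨c, rfl⟩ := (mem_X_short hφ hqq hb sb _).1 hw
  obtain ⟨l, hl0, hl1⟩ : ∃ l : F, l ≠ 0 ∧ l ≠ 1 := by
    classical
    by_contra hne
    push Not at hne
    have h1 : Fintype.card F ≤ Fintype.card Bool := by
      refine Fintype.card_le_of_injective (fun x : F => decide (x = 0)) ?_
      intro x y hxy
      by_cases hx : x = 0
      · simp [hx] at hxy
        rw [hx, hxy]
      · by_cases hy : y = 0
        · simp [hx, hy] at hxy
        · rw [hne x hx, hne y hy]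
    rw [hF, Fintype.card_bool] at h1
    omega
  have hok : ∀ a : F, Cfsg.Agent.Nodes.RGDTwCoord.Ok chevE6 J RGDTwCoordE6.O φ b a := fun a =>
    RGDTwComE6.ok_short hφ hqq hb sb a
  obtain ⟨t, ht, h1⟩ := exists_T hφ hqq hb (hok 1) (hok l) one_ne_zero hl0
  have h2 : RGDTwComE6.x φ 2 b c = ⁅RGDTwComE6.x φ 2 b (c / (1 - l)), t⁆ := by
    have h3 : (1 - l) ≠ 0 := sub_ne_zero.2 (Ne.symm hl1)
    have h4 : (RGDTwComE6.x φ 2 b (c / (1 - l)))⁻¹ = RGDTwComE6.x φ 2 b (-(c / (1 - l))) := by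
      rw [inv_eq_iff_mul_eq_one, ← x_add hφ hqq hb (hok _) (hok _), add_neg_cancel, x_zero hφ hqq hb]
    rw [commutatorElement_def, mul_assoc, mul_assoc, ← mul_assoc t, h4, h1 _ (hok _), ← x_add hφ hqq hb (hok _) (hok _)]
    congr 1
    field_simp
    ring
  rw [h2]
  exact commutator_mem_commutator ((mem_X_short hφ hqq hb sb _).2 ⟨_, rfl⟩) ht

end K

/-! ### The lifts -/

/-- the radical of the parabolic subgroup of the root `r` -/
noncomputable def Vr {F : Type u} [Field F] (φ : F →+* F) (r : Fin 4 → ℤ) : Subgroup (KK F) :=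
  RGD.Sup (X φ) (Q fun c => 0 < bf c r)

/-- the parabolic subgroup of the root `r` -/
noncomputable def Pr {F : Type u} [Field F] (φ : F →+* F) (r : Fin 4 → ℤ) : Subgroup (KK F) :=
  RGDTwE6.T F 2 ⊔ RGD.Sup (X φ) (Q fun c => 0 ≤ bf c r)

section Par

variable {F : Type u} [Field F] {φ : F →+* F}

theorem X_le_Vr {c r : Fin 4 → ℤ} (hc : c ∈ rts) (h : 0 < bf c r) : X φ c ≤ Vr φ r :=
  RGD.le_Sup (S := Q fun c => 0 < bf c r) ⟨hc, h⟩

theorem X_le_Pr {c r : Fin 4 → ℤ} (hc : c ∈ rts) (h : 0 ≤ bf c r) : X φ c ≤ Pr φ r :=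
  le_trans (RGD.le_Sup (S := Q fun c => 0 ≤ bf c r) ⟨hc, h⟩) le_sup_right

theorem T_le_Pr {r : Fin 4 → ℤ} : RGDTwE6.T F 2 ≤ Pr φ r := le_sup_left

theorem Vr_th_le : Vr φ th ≤ V φ j1 := by
  refine RGD.Sup_le fun z hz => RGD.le_Sup ⟨(mem_rts cs).2 hz.1, ?_, 0, by simp [j1], ?_⟩
  · have h1 : ∀ x ∈ rts, 0 < bf x th → ∀ k, 0 ≤ x k := by decide +kernel
    exact fun k => h1 z hz.1 hz.2 k
  · have h1 : 0 < bf z th := hz.2
    rw [bf_th z hz.1] at h1
    omega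

theorem Pr_th_le : Pr φ th ≤ P φ j1 := by
  refine sup_le ?_ (RGD.Sup_le fun z hz => ?_)
  · exact le_trans (le_sup_left : RGDTwE6.T F 2 ≤ Lv φ j1) le_sup_left
  · have hz2 : 0 ≤ bf z th := hz.2
    rcases eq_or_lt_of_le hz2 with h | h
    · refine le_trans ?_ (le_sup_left : Lv φ j1 ≤ P φ j1)
      refine le_trans ?_ (le_sup_right : RGD.Sup (X φ) (RootsJ cs isCartan j1) ≤ Lv φ j1)
      refine RGD.le_Sup ⟨(mem_rts cs).2 hz.1, fun k hk => ?_⟩
      have hk0 : k = 0 := by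
        by_contra h
        exact hk h
      rw [bf_th z hz.1] at h
      rw [hk0]
      omega
    · refine le_trans ?_ (le_sup_right : V φ j1 ≤ P φ j1)
      exact le_trans (X_le_Vr hz.1 h) Vr_th_le

end Par

section L

variable {F : Type u} [Field F] [Fintype F] {φ : F →+* F} (hφ : ∀ t, φ t = t ^ 2) (hqq : ∀ t : F, (t ^ 2) ^ 2 = t)
  {L : Type v} [Group L] {π : L →* KK F}

/-- `[V_r~, P_r~]` -/
noncomputable def D (φ : F →+* F) (π : L →* KK F) (r : Fin 4 → ℤ) : Subgroup L := ⁅(Vr φ r).comap π, (Pr φ r).comap π⁆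

omit [Fintype F] in
theorem mem_D {r : Fin 4 → ℤ} {x y : L} (hx : π x ∈ Vr φ r) (hy : π y ∈ Pr φ r) : ⁅x, y⁆ ∈ D φ π r :=
  commutator_mem_commutator hx hy

omit [Fintype F] in
theorem mem_D' {r : Fin 4 → ℤ} {x y : L} (hx : π x ∈ Pr φ r) (hy : π y ∈ Vr φ r) : ⁅x, y⁆ ∈ D φ π r := by
  rw [← commutatorElement_inv]
  exact inv_mem (mem_D hy hx)

include hφ hqq in
/-- conjugation -/
theorem D_conj [CharP F 2] (hs : Function.Surjective π) (hc : π.ker ≤ center L) (h0 : D φ π th ⊓ π.ker = ⊥)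
    {r : Fin 4 → ℤ} (hr : r ∈ rts) (hl : bf r r = 4) : D φ π r ⊓ π.ker = ⊥ := by
  have : Fact (Nat.Prime 2) := ⟨Nat.prime_two⟩
  set R := rgd cs hφ hqq 2 with hR
  obtain ⟨w₁, h1⟩ := exists_rep_long cs ((mem_rts cs).2 hr) hl
  obtain ⟨w₂, h2⟩ := exists_rep_long cs ((mem_rts cs).2 tab_th.1) tab_th.2
  set w := w₂ * w₁⁻¹ with hw
  have hwr : rep cs isCartan w r = th := by
    rw [hw, rep_mul_apply, ← h1, rep_inv_apply, h2]
  obtain ⟨g, hg⟩ := exists_rp cs R.nsys w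
  obtain ⟨gh, hgh⟩ := hs g
  have hV : ∀ x ∈ Vr φ r, g * x * g⁻¹ ∈ Vr φ th := by
    intro x hx
    refine conj_Q R hg (P' := fun c => 0 < bf c th) (fun c hc h => ?_) hx
    rw [← hwr, bf_rep]
    exact h
  have hP : ∀ x ∈ Pr φ r, g * x * g⁻¹ ∈ Pr φ th := by
    have h3 : Pr φ r ≤ (Pr φ th).comap (MulAut.conj g).toMonoidHom := by
      refine sup_le ?_ (fun x hx => ?_)
      · intro t ht
        refine T_le_Pr ?_
        exact (mem_normalizer_iff.1 hg.mem_normalizer t).1 ht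
      · refine (le_sup_right : RGD.Sup (X φ) (Q fun c => 0 ≤ bf c th) ≤ Pr φ th) ?_
        refine conj_Q R hg (P' := fun c => 0 ≤ bf c th) (fun c hc h => ?_) hx
        rw [← hwr, bf_rep]
        exact h
    exact fun x hx => h3 hx
  have hD : ∀ x : L, x ∈ D φ π r → gh * x * gh⁻¹ ∈ D φ π th := by
    have h3 : D φ π r ≤ (D φ π th).comap (MulAut.conj gh).toMonoidHom := by
      rw [D, commutator_le]
      intro x hx y hy
      show gh * ⁅x, y⁆ * gh⁻¹ ∈ D φ π th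
      have e : gh * ⁅x, y⁆ * gh⁻¹ = ⁅gh * x * gh⁻¹, gh * y * gh⁻¹⁆ := by
        rw [commutatorElement_def, commutatorElement_def]; group
      rw [e]
      refine mem_D ?_ ?_
      · rw [map_mul, map_mul, map_inv, hgh]
        exact hV _ hx
      · rw [map_mul, map_mul, map_inv, hgh]
        exact hP _ hy
    exact fun x hx => h3 hx
  rw [eq_bot_iff]
  rintro x ⟨hx, hx1⟩
  have h4 := hD x hx
  have h5 : gh * x * gh⁻¹ = x := by
    rw [mem_center_iff.1 (hc hx1) gh, mul_inv_cancel_right]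
  rw [h5] at h4
  rw [← h0]
  exact ⟨h4, hx1⟩

/-- the lift of the root group `X b` -/
noncomputable def Yl (φ : F →+* F) (π : L →* KK F) (b : Fin 4 → ℤ) : Subgroup L :=
  if bf b b = 4 then D φ π b ⊓ (X φ b).comap π else ⁅(X φ b).comap π, (RGDTwE6.T F 2).comap π⁆

section Main

variable [CharP F 2] (hF : Fintype.card F = 4) (hs : Function.Surjective π)

include hφ hqq hs in
/-- the elements of `X b`, `b` long, are commutators -/
theorem exists_comm {b r : Fin 4 → ℤ} (hb : b ∈ rts) (hbl : bf b b = 4) (hr : r ∈ rts) (hrl : bf r r = 4) (h : 0 < bf b r)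
    {w : KK F} (hw : w ∈ X φ b) : ∃ d, π d = w ∧ d ∈ D φ π b ∧ d ∈ D φ π r := by
  have : Fact (Nat.Prime 2) := ⟨Nat.prime_two⟩
  have : Finite CoxeterMatrix.F₄.Group := finiteW cs
  set R := rgd cs hφ hqq 2 with hR
  obtain ⟨a, ha, hal, ha', hal', h1, h2, h3, h4, h5⟩ := tab_long b hb hbl r hr hrl h
  have hA := a2 cs ((mem_rts cs).2 ha) ((mem_rts cs).2 ha') (by rw [hal, hal']) (by rw [h1, hal]; norm_num)
  obtain ⟨u, hu, hu1⟩ := Cfsg.Agent.KFacts.TwESix.Facts.exists_ne_one R ((mem_rts cs).2 ha)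
  have hw' : w ∈ X φ (a + (b - a)) := by
    rw [add_sub_cancel]
    exact hw
  obtain ⟨v, hv, e⟩ := A2.comm_surj R hA hu hu1 hw'
  obtain ⟨uh, rfl⟩ := hs u
  obtain ⟨vh, rfl⟩ := hs v
  refine ⟨⁅uh, vh⁆, by rw [map_commutatorElement, e], ?_, ?_⟩
  · exact mem_D (X_le_Vr ha h4 hu) (X_le_Pr ha' h5.le hv)
  · exact mem_D' (X_le_Pr ha h2 hu) (X_le_Vr ha' h3 hv)

variable (hD : ∀ r ∈ rts, bf r r = 4 → D φ π r ⊓ π.ker = ⊥)

include hφ hqq hs hD in
theorem Yl_le {b r : Fin 4 → ℤ} (hb : b ∈ rts) (hr : r ∈ rts) (hrl : bf r r = 4) (h : 0 < bf b r) :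
    Yl φ π b ≤ D φ π r := by
  unfold Yl
  split_ifs with hl
  · rintro y ⟨hy, hy'⟩
    obtain ⟨d, hd, hd1, hd2⟩ := exists_comm hφ hqq hs hb hl hr hrl h (show π y ∈ X φ b from hy')
    have h1 : y * d⁻¹ ∈ D φ π b ⊓ π.ker := Subgroup.mem_inf.2 ⟨mul_mem (show y ∈ D φ π b from hy) (inv_mem hd1), by
      rw [MonoidHom.mem_ker, map_mul, map_inv, hd, mul_inv_cancel]⟩
    rw [hD b hb hl, mem_bot, mul_inv_eq_one] at h1
    rw [h1]
    exact hd2
  · exact commutator_mono (comap_mono (X_le_Vr hb h)) (comap_mono T_le_Pr)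

include hφ hqq hs hD in
theorem Yl_ker {b : Fin 4 → ℤ} (hb : b ∈ rts) : Yl φ π b ⊓ π.ker = ⊥ := by
  obtain ⟨r, hr, hrl, h⟩ := tab_short b hb
  rw [eq_bot_iff, ← hD r hr hrl]
  exact inf_le_inf_right _ (Yl_le hφ hqq hs hD hb hr hrl h)

include hφ hqq hs hF in
theorem Yl_map {b : Fin 4 → ℤ} (hb : b ∈ rts) : (Yl φ π b).map π = X φ b := by
  unfold Yl
  split_ifs with hl
  · apply le_antisymm
    · rintro _ ⟨y, ⟨-, hy⟩, rfl⟩
      exact hy
    · intro w hw
      obtain ⟨d, hd, hd1, -⟩ := exists_comm hφ hqq hs hb hl hb hl (by rw [hl]; norm_num) hw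
      exact ⟨d, Subgroup.mem_inf.2 ⟨hd1, by rw [mem_comap, hd]; exact hw⟩, hd⟩
  · rw [map_commutator, map_comap_eq_self_of_surjective hs, map_comap_eq_self_of_surjective hs]
    have hb' := (mem_rts cs).2 hb
    apply le_antisymm
    · rw [commutator_le]
      intro x hx t ht
      have : Fact (Nat.Prime 2) := ⟨Nat.prime_two⟩
      have h1 := (rgd cs hφ hqq 2).tor b hb' t ht
      rw [commutatorElement_def, mul_assoc, mul_assoc]
      refine mul_mem hx ?_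
      rw [← mul_assoc]
      show t * x⁻¹ * t⁻¹ ∈ RGDTwE6.X φ 2 b
      rw [← h1]
      exact conj_mem_cj.2 (inv_mem hx)
    · refine le_comm_T hφ hqq hF hb' ((st_iff hb).2 ?_)
      exact (norm_rts b hb).resolve_left hl

include hφ hqq hs hD hF in
theorem Yl_comm {a b : Fin 4 → ℤ} (ha : a ∈ rts) (ha0 : 0 ≤ a) (hb : b ∈ rts) (hb0 : 0 ≤ b) (hab : a ≠ b) :
    ⁅Yl φ π a, Yl φ π b⁆ ≤ ⨆ c : {c : Fin 4 → ℤ // bti a b c}, Yl φ π c.1 := by
  obtain ⟨r, hr, hrl, h⟩ := tab_pair a ha (fun k => ha0 k) b hb (fun k => hb0 k) hab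
  rw [commutator_le]
  intro x hx y hy
  have hx' : π x ∈ X φ a := by
    rw [← Yl_map hφ hqq hF hs ha]
    exact mem_map_of_mem π hx
  have hy' : π y ∈ X φ b := by
    rw [← Yl_map hφ hqq hF hs hb]
    exact mem_map_of_mem π hy
  have hne : a ≠ -b := by
    intro h1
    have h2 : b = 0 := by
      apply le_antisymm _ hb0
      rw [h1] at ha0
      exact neg_nonneg.1 ha0
    exact ((mem_rts cs).2 hb).ne_zero h2
  have h1 := mem_BX hφ hqq ((mem_rts cs).2 ha) ((mem_rts cs).2 hb) hne hx' hy'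
  have h2 : BX φ a b = (⨆ c : {c : Fin 4 → ℤ // bti a b c}, Yl φ π c.1).map π := by
    rw [Subgroup.map_iSup]
    unfold BX
    exact iSup_congr fun c => (Yl_map hφ hqq hF hs ((mem_rts cs).1 c.2.1)).symm
  rw [h2] at h1
  obtain ⟨m, hm, e⟩ := h1
  have hmD : m ∈ D φ π r := by
    refine (iSup_le fun c => ?_ : (⨆ c : {c : Fin 4 → ℤ // bti a b c}, Yl φ π c.1) ≤ D φ π r) hm
    obtain ⟨h3, i, j, hi, hj, e⟩ := c.2
    refine Yl_le hφ hqq hs hD ((mem_rts cs).1 h3) hr hrl ?_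
    have h4 : bf c.1 r = i * bf a r + j * bf b r := by
      rw [e, ← natCast_zsmul, ← natCast_zsmul, bf_add_left, bf_smul_left, bf_smul_left]
    rw [h4]
    have hi' : (0 : ℤ) < i := by exact_mod_cast hi
    have hj' : (0 : ℤ) < j := by exact_mod_cast hj
    rcases h with ⟨h5, h6⟩ | ⟨h5, h6⟩
    · have := mul_pos hj' h5
      have := mul_nonneg hi'.le h6
      omega
    · have := mul_pos hi' h5
      have := mul_nonneg hj'.le h6
      omega
  have hxD : ⁅x, y⁆ ∈ D φ π r := by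
    rcases h with ⟨h5, h6⟩ | ⟨h5, h6⟩
    · exact mem_D' (X_le_Pr ha h6 hx') (X_le_Vr hb h5 hy')
    · exact mem_D (X_le_Vr ha h5 hx') (X_le_Pr hb h6 hy')
  have h3 : ⁅x, y⁆ * m⁻¹ ∈ D φ π r ⊓ π.ker := Subgroup.mem_inf.2 ⟨mul_mem hxD (inv_mem hmD), by
    rw [MonoidHom.mem_ker, map_mul, map_inv, e, map_commutatorElement, mul_inv_cancel]⟩
  rw [hD r hr hrl, mem_bot, mul_inv_eq_one] at h3
  rw [h3]
  exact hm

end Main

include hφ hqq in
/-- **The core**: if `[V~, P~]` meets the kernel trivially then the kernel has odd order. -/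
theorem core [Finite L] [CharP F 2] (hF : Fintype.card F = 4) (hs : Function.Surjective π) (hc : π.ker ≤ center L)
    (hL : commutator L = ⊤) (h0 : ⁅(V φ j1).comap π, (P φ j1).comap π⁆ ⊓ π.ker = ⊥) {a : L} (ha : π a = 1) :
    ∃ n : ℕ, ¬ 2 ∣ n ∧ a ^ n = 1 := by
  have : Fact (Nat.Prime 2) := ⟨Nat.prime_two⟩
  have : Finite CoxeterMatrix.F₄.Group := finiteW cs
  have : Finite (KK F) := inferInstance
  set R := rgd cs hφ hqq 2 with hR
  have h1 : D φ π th ⊓ π.ker = ⊥ := by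
    rw [eq_bot_iff, ← h0]
    exact inf_le_inf_right _ (commutator_mono (comap_mono Vr_th_le) (comap_mono Pr_th_le))
  have hD : ∀ r ∈ rts, bf r r = 4 → D φ π r ⊓ π.ker = ⊥ := fun r hr hl => D_conj hφ hqq hs hc h1 hr hl
  have h2 := Cfsg.Agent.H164.F4.Coll.coll hF hφ (Yl φ π)
    (fun b hb _ => ⟨Yl_map hφ hqq hF hs ((mem_rts cs).1 hb), Yl_ker hφ hqq hs hD ((mem_rts cs).1 hb)⟩)
    (fun a b ha ha0 hb hb0 hab => Yl_comm hφ hqq hF hs hD ((mem_rts cs).1 ha) ha0 ((mem_rts cs).1 hb) hb0 hab)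
  set Z : Subgroup L := ⨆ b : {b : Fin 4 → ℤ // IsRoot cs isCartan b ∧ 0 ≤ b}, Yl φ π b.1 with hZ
  have h3 : Z.map π = RGD.Sup (X φ) (RGD.Pos cs isCartan) := by
    rw [hZ, Subgroup.map_iSup]
    exact iSup_congr fun b => Yl_map hφ hqq hF hs ((mem_rts cs).1 b.2.1)
  have hG : GG cs isCartan (RGDTwE6.T F 2) (X φ) = ⊤ := by
    rw [eq_top_iff, ← G1_eq_top cs hφ hqq]
    exact le_sup_right
  obtain ⟨S, hS⟩ := Cfsg.Agent.KFacts.RgdAutFacts.exists_sylow R hG
  have h4 := Cfsg.Agent.Nodes.ExactLift.Lft.pow_index hs hc hL (V := Z) (fun a ha h => by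
    have h5 : a ∈ Z ⊓ π.ker := ⟨ha, h⟩
    rw [h2] at h5
    exact mem_bot.1 h5) ha
  refine ⟨_, ?_, h4⟩
  rw [h3, ← hS]
  exact S.not_dvd_index

include hφ hqq in
/-- **H1.** -/
theorem h1_of [Finite L] [CharP F 2] (hF : Fintype.card F = 4) (hs : Function.Surjective π) (hc : π.ker ≤ center L)
    (hL : commutator L = ⊤) {z : L} (hz : π z = 1) (hz2 : z * z = 1) :
    z ∈ ⁅(V φ j1).comap π, (P φ j1).comap π⁆ := by
  set E : Subgroup L := ⁅(V φ j1).comap π, (P φ j1).comap π⁆ with hE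
  set M : Subgroup L := E ⊓ π.ker with hM
  have hMc : M ≤ center L := inf_le_right.trans hc
  have hMn : M.Normal := ⟨fun n hn g => by
    rw [mem_center_iff.1 (hMc hn) g, mul_inv_cancel_right]
    exact hn⟩
  have hMk : ∀ x ∈ M, π x = 1 := fun x hx => hx.2
  let π' : L ⧸ M →* KK F := QuotientGroup.lift M π hMk
  have hπ' : ∀ x : L, π' (x : L ⧸ M) = π x := fun x => rfl
  have hs' : Function.Surjective π' := fun y => by
    obtain ⟨x, rfl⟩ := hs y
    exact ⟨(x : L ⧸ M), rfl⟩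
  have hmk : Function.Surjective (QuotientGroup.mk' M) := QuotientGroup.mk'_surjective M
  have hc' : π'.ker ≤ center (L ⧸ M) := by
    intro x hx
    obtain ⟨x, rfl⟩ := hmk x
    rw [mem_center_iff]
    intro y
    obtain ⟨y, rfl⟩ := hmk y
    rw [← map_mul, ← map_mul, mem_center_iff.1 (hc (show π x = 1 from hx)) y]
  have hL' : _root_.commutator (L ⧸ M) = ⊤ := by
    have h1 := congrArg (Subgroup.map (QuotientGroup.mk' M)) hL
    rw [commutator_def, map_commutator, Subgroup.map_top_of_surjective _ hmk] at h1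
    rw [commutator_def]
    exact h1
  have hcomap : ∀ A : Subgroup (KK F), A.comap π' = (A.comap π).map (QuotientGroup.mk' M) := by
    intro A
    have h1 : A.comap π = (A.comap π').comap (QuotientGroup.mk' M) := rfl
    rw [h1, map_comap_eq_self_of_surjective hmk]
  have h0 : ⁅(V φ j1).comap π', (P φ j1).comap π'⁆ ⊓ π'.ker = ⊥ := by
    rw [hcomap, hcomap, ← map_commutator, eq_bot_iff]
    rintro _ ⟨⟨x, hx, rfl⟩, hx'⟩
    rw [mem_bot]
    exact (QuotientGroup.eq_one_iff x).2 ⟨hx, hx'⟩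
  obtain ⟨n, hn, h2⟩ := core hφ hqq hF hs' hc' hL' h0 (a := (z : L ⧸ M)) hz
  have h3 : (z : L ⧸ M) = 1 := by
    have h4 : (z : L ⧸ M) ^ 2 = 1 := by
      rw [pow_two]
      exact congrArg (QuotientGroup.mk' M) hz2
    have h5 : orderOf (z : L ⧸ M) ∣ 1 := by
      have hcop : Nat.Coprime n 2 := ((Nat.Prime.coprime_iff_not_dvd Nat.prime_two).2 hn).symm
      rw [← hcop]
      exact Nat.dvd_gcd (orderOf_dvd_of_pow_eq_one h2) (orderOf_dvd_of_pow_eq_one h4)
    exact orderOf_eq_one_iff.1 (Nat.dvd_one.1 h5)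
  exact ((QuotientGroup.eq_one_iff z).1 h3).1

end L

/-- **H1 : the 2-part of the kernel is in `[V~, P~]`.** -/
theorem h1 {F : Type u} [Field F] [Fintype F] (hF : Fintype.card F = 4) {φ : F →+* F} (hφ : ∀ t, φ t = t ^ 2)
    {L : Type v} [Group L] [Finite L] {π : L →* KK F} (hπ : Cfsg.Agent.H51.Mult.PCE π) (z : L) (hz : π z = 1)
    (hz2 : z * z = 1) : z ∈ ⁅(V φ j1).comap π, (P φ j1).comap π⁆ := by
  have : CharP F 2 := Cfsg.Agent.H164.F4.OutV.charTwo hF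
  have hqq : ∀ t : F, (t ^ 2) ^ 2 = t := fun t => by
    rw [← pow_mul, show 2 * 2 = Fintype.card F by rw [hF]]
    exact FiniteField.pow_card t
  exact h1_of hφ hqq hF hπ.surj hπ.cen hπ.perf hz hz2

end Cfsg.Agent.H231.QF.HOne
end

private theorem dce_ec5bab5035ed : _root_.True := by
  try have : _root_.True := by simp only [_root_.Cfsg.Agent.H231.QF.HOne.D.eq_1]
  try have : _root_.True := by simp only [_root_.Cfsg.Agent.H231.QF.j1.eq_1]
  exact _root_.True.intro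
end

-- part: H486/F4/KSeven
section
prune_inst 0xc1102c444162020000000584e1003c02ce00059000480c0044010a400688ec4009020020b0003013500a280c003c0420024c00c04050000004000400011c05a1908240003200010426001f800080000000000000000000000000000000000004200000000
set_option linter.all false
open scoped Cfsg.Agent.FastGrp

-- part: H486/F4/Cen
section
/-!
# F4 of S2491: the index of `C_{Q/⟨z⟩}(h)` (helper486)

`Q` a large extraspecial subgroup with centre `⟨z⟩`, `cen L h = {x ∈ Q | [h, x] ∈ ⟨z⟩}`, `idx L h` its index in `Q`.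

* `idx_mul`, `idx_conj`, `idx_inv`, `idx_comm` : `idx [h, k] ≤ (idx h) ^ 2`;
* `chain` : lower bounds of the index from a unitriangular list of commutators.
-/

set_option autoImplicit false
set_option linter.unusedSectionVars false

namespace Cfsg.Agent.H486.F4

open Cfsg.Agent.Co2Type.Quad (Large)

variable {G : Type*} [Group G] {Q : Subgroup G} {z : G}

theorem zinv (L : Large Q z) : z⁻¹ = z := inv_eq_of_mul_eq_one_right L.z_sq

/-- `{x ∈ Q | [h, x] ∈ ⟨z⟩}` -/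
def cen (L : Large Q z) (h : G) : Subgroup G where
  carrier := {x | x ∈ Q ∧ (h * x * h⁻¹ = x ∨ h * x * h⁻¹ = x * z)}
  one_mem' := ⟨Q.one_mem, Or.inl (by group)⟩
  mul_mem' := by
    rintro x y ⟨hx, hx'⟩ ⟨hy, hy'⟩
    refine ⟨Q.mul_mem hx hy, ?_⟩
    have e : h * (x * y) * h⁻¹ = (h * x * h⁻¹) * (h * y * h⁻¹) := by group
    have hz := L.comm_z y hy
    rcases hx' with hx' | hx' <;> rcases hy' with hy' | hy' <;> rw [e, hx', hy']
    · exact Or.inl rfl
    · right; rw [mul_assoc]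
    · right; rw [mul_assoc, ← hz, ← mul_assoc]
    · left
      calc x * z * (y * z) = x * (z * y) * z := by group
        _ = x * y * (z * z) := by rw [← hz]; group
        _ = x * y := by rw [L.z_sq, mul_one]
  inv_mem' := by
    rintro x ⟨hx, hx'⟩
    refine ⟨Q.inv_mem hx, ?_⟩
    have e : h * x⁻¹ * h⁻¹ = (h * x * h⁻¹)⁻¹ := by group
    rcases hx' with hx' | hx' <;> rw [e, hx']
    · exact Or.inl rfl
    · right
      rw [mul_inv_rev, zinv L]
      exact (L.comm_z _ (Q.inv_mem hx)).symm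

theorem mem_cen {L : Large Q z} {h x : G} : x ∈ cen L h ↔ x ∈ Q ∧ (h * x * h⁻¹ = x ∨ h * x * h⁻¹ = x * z) :=
  Iff.rfl

theorem cen_le (L : Large Q z) (h : G) : cen L h ≤ Q := fun _ hx => hx.1

/-- the index -/
noncomputable def idx (L : Large Q z) (h : G) : ℕ := (cen L h).relIndex Q

variable [Finite Q]

theorem idx_mul_card (L : Large Q z) (h : G) : idx L h * Nat.card (cen L h) = Nat.card Q := by
  have h1 := Subgroup.card_mul_index ((cen L h).subgroupOf Q)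
  have h2 : Nat.card ((cen L h).subgroupOf Q) = Nat.card (cen L h) :=
    Nat.card_congr (Subgroup.subgroupOfEquivOfLe (cen_le L h)).toEquiv
  rw [h2] at h1
  rw [mul_comm]
  exact h1

theorem relIndex_anti {A B : Subgroup G} (h : A ≤ B) : B.relIndex Q ≤ A.relIndex Q := by
  have : Finite (Q ⧸ A.subgroupOf Q) := inferInstance
  exact Subgroup.relIndex_le_of_le_left h (Subgroup.index_ne_zero_of_finite)

theorem idx_mul (L : Large Q z) {h k : G} (hz : h * z = z * h) : idx L (h * k) ≤ idx L h * idx L k := by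
  refine le_trans (relIndex_anti (A := cen L h ⊓ cen L k) ?_) Subgroup.relIndex_inf_le
  rintro x ⟨⟨hx, h1⟩, -, h2⟩
  refine ⟨hx, ?_⟩
  have e : h * k * x * (h * k)⁻¹ = h * (k * x * k⁻¹) * h⁻¹ := by group
  have e2 : h * z * h⁻¹ = z := by rw [hz]; group
  rcases h2 with h2 | h2
  · rw [e, h2]; exact h1
  · have e3 : h * (x * z) * h⁻¹ = (h * x * h⁻¹) * z := by
      calc h * (x * z) * h⁻¹ = (h * x * h⁻¹) * (h * z * h⁻¹) := by group
        _ = _ := by rw [e2]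
    rw [e, h2, e3]
    rcases h1 with h1 | h1
    · right; rw [h1]
    · left; rw [h1, mul_assoc, L.z_sq, mul_one]

theorem card_cen_conj (L : Large Q z) {k : G} (hk : k * z = z * k) (h : G) :
    Nat.card (cen L (k * h * k⁻¹)) = Nat.card (cen L h) := by
  have e : cen L (k * h * k⁻¹) = (cen L h).map (MulAut.conj k).toMonoidHom := by
    have ez : k * z * k⁻¹ = z := by rw [hk]; group
    have hk' : k⁻¹ * z = z * k⁻¹ := by
      rw [inv_mul_eq_iff_eq_mul, ← mul_assoc, hk, mul_assoc, mul_inv_cancel, mul_one]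
    have ez' : k⁻¹ * z * k = z := by rw [hk']; group
    ext x
    constructor
    · rintro ⟨hx, h1⟩
      refine ⟨k⁻¹ * x * k, ⟨by simpa using L.conj_mem k⁻¹ hk' x hx, ?_⟩, ?_⟩
      · have e1 : h * (k⁻¹ * x * k) * h⁻¹ = k⁻¹ * (k * h * k⁻¹ * x * (k * h * k⁻¹)⁻¹) * k := by group
        rw [e1]
        rcases h1 with h1 | h1
        · left; rw [h1]
        · right; rw [h1]
          calc k⁻¹ * (x * z) * k = (k⁻¹ * x * k) * (k⁻¹ * z * k) := by group
            _ = _ := by rw [ez']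
      · show k * (k⁻¹ * x * k) * k⁻¹ = x
        group
    · rintro ⟨y, ⟨hy, h1⟩, rfl⟩
      refine ⟨L.conj_mem k hk y hy, ?_⟩
      show k * h * k⁻¹ * (k * y * k⁻¹) * (k * h * k⁻¹)⁻¹ = k * y * k⁻¹ ∨
        k * h * k⁻¹ * (k * y * k⁻¹) * (k * h * k⁻¹)⁻¹ = k * y * k⁻¹ * z
      have e1 : k * h * k⁻¹ * (k * y * k⁻¹) * (k * h * k⁻¹)⁻¹ = k * (h * y * h⁻¹) * k⁻¹ := by group
      rw [e1]
      rcases h1 with h1 | h1
      · left; rw [h1]
      · right; rw [h1]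
        calc k * (y * z) * k⁻¹ = (k * y * k⁻¹) * (k * z * k⁻¹) := by group
          _ = _ := by rw [ez]
  rw [e]
  exact Nat.card_congr (Subgroup.equivMapOfInjective _ _ (MulAut.conj k).injective).symm.toEquiv

theorem idx_conj (L : Large Q z) {k : G} (hk : k * z = z * k) (h : G) : idx L (k * h * k⁻¹) = idx L h := by
  have h1 := idx_mul_card L (k * h * k⁻¹)
  have h2 := idx_mul_card L h
  rw [card_cen_conj L hk, ← h2] at h1
  have : Finite (cen L h) := Finite.of_injective _ (Subgroup.inclusion_injective (cen_le L h))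
  exact Nat.eq_of_mul_eq_mul_right Nat.card_pos h1

theorem cen_inv (L : Large Q z) {h : G} (hz : h * z = z * h) : cen L h⁻¹ = cen L h := by
  have key : ∀ {h : G}, h * z = z * h → cen L h ≤ cen L h⁻¹ := by
    intro h hz x hx
    obtain ⟨hx, h1⟩ := hx
    refine ⟨hx, ?_⟩
    have e : h⁻¹ * z * h = z := by
      rw [mul_assoc, ← hz]; group
    rcases h1 with h1 | h1
    · left
      calc h⁻¹ * x * (h⁻¹)⁻¹ = h⁻¹ * (h * x * h⁻¹) * h := by rw [h1]; group
        _ = x := by group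
    · right
      have h2 : h⁻¹ * (h * x * h⁻¹) * h = (h⁻¹ * x * h) * (h⁻¹ * z * h) := by rw [h1]; group
      rw [e] at h2
      have h3 : x = (h⁻¹ * x * h) * z := by rw [← h2]; group
      calc h⁻¹ * x * (h⁻¹)⁻¹ = (h⁻¹ * x * h) * (z * z) := by rw [L.z_sq]; group
        _ = ((h⁻¹ * x * h) * z) * z := by group
        _ = x * z := by rw [← h3]
  refine le_antisymm ?_ (key hz)
  have hz' : h⁻¹ * z = z * h⁻¹ := by
    rw [inv_mul_eq_iff_eq_mul, ← mul_assoc, hz, mul_assoc, mul_inv_cancel, mul_one]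
  have := key hz'
  rwa [inv_inv] at this

theorem idx_inv (L : Large Q z) {h : G} (hz : h * z = z * h) : idx L h⁻¹ = idx L h := by
  unfold idx; rw [cen_inv L hz]

/-- `idx [h, k] ≤ (idx h) ^ 2` -/
theorem idx_comm (L : Large Q z) {h k : G} (hz : h * z = z * h) (hk : k * z = z * k) :
    idx L (h * k * h⁻¹ * k⁻¹) ≤ idx L h ^ 2 := by
  have hz' : h⁻¹ * z = z * h⁻¹ := by
    rw [inv_mul_eq_iff_eq_mul, ← mul_assoc, hz, mul_assoc, mul_inv_cancel, mul_one]
  have h1 := idx_mul L (h := h) (k := k * h⁻¹ * k⁻¹) hz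
  rw [idx_conj L hk, idx_inv L hz] at h1
  have e : h * k * h⁻¹ * k⁻¹ = h * (k * h⁻¹ * k⁻¹) := by group
  rw [e, pow_two]
  exact h1

theorem cen_mul_right (L : Large Q z) {h q : G} (hz : h * z = z * h) (hq : q ∈ Q) : cen L (h * q) = cen L h := by
  have ez : h * z * h⁻¹ = z := by rw [hz]; group
  have key : ∀ {q : G}, q ∈ Q → cen L h ≤ cen L (h * q) := by
    intro q hq x hx
    obtain ⟨hx, h1⟩ := hx
    refine ⟨hx, ?_⟩
    have h2 : q * x * q⁻¹ = x ∨ q * x * q⁻¹ = x * z := by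
      rcases L.comm q hq x hx with h2 | h2
      · left; rw [h2]; group
      · right
        rw [h2]
        calc x * q * z * q⁻¹ = x * (q * z) * q⁻¹ := by group
          _ = x * (z * q) * q⁻¹ := by rw [L.comm_z q hq]
          _ = x * z := by group
    have e : h * q * x * (h * q)⁻¹ = h * (q * x * q⁻¹) * h⁻¹ := by group
    rcases h2 with h2 | h2
    · rw [e, h2]; exact h1
    · have e3 : h * (x * z) * h⁻¹ = (h * x * h⁻¹) * z := by
        calc h * (x * z) * h⁻¹ = (h * x * h⁻¹) * (h * z * h⁻¹) := by group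
          _ = _ := by rw [ez]
      rw [e, h2, e3]
      rcases h1 with h1 | h1
      · right; rw [h1]
      · left; rw [h1, mul_assoc, L.z_sq, mul_one]
  refine le_antisymm ?_ (key hq)
  intro x hx
  obtain ⟨hx, h1⟩ := hx
  refine ⟨hx, ?_⟩
  have h2 : q * x * q⁻¹ = x ∨ q * x * q⁻¹ = x * z := by
    rcases L.comm q hq x hx with h2 | h2
    · left; rw [h2]; group
    · right
      rw [h2]
      calc x * q * z * q⁻¹ = x * (q * z) * q⁻¹ := by group
        _ = x * (z * q) * q⁻¹ := by rw [L.comm_z q hq]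
        _ = x * z := by group
  have e : h * q * x * (h * q)⁻¹ = h * (q * x * q⁻¹) * h⁻¹ := by group
  rw [e] at h1
  rcases h2 with h2 | h2
  · rwa [h2] at h1
  · have e3 : h * (x * z) * h⁻¹ = (h * x * h⁻¹) * z := by
      calc h * (x * z) * h⁻¹ = (h * x * h⁻¹) * (h * z * h⁻¹) := by group
        _ = _ := by rw [ez]
    rw [h2, e3] at h1
    have e4 : h * x * h⁻¹ = (h * x * h⁻¹) * z * z := by rw [mul_assoc _ z z, L.z_sq, mul_one]
    rcases h1 with h1 | h1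
    · right; rw [e4, h1]
    · left; rw [e4, h1, mul_assoc, L.z_sq, mul_one]

theorem idx_mul_right (L : Large Q z) {h q : G} (hz : h * z = z * h) (hq : q ∈ Q) : idx L (h * q) = idx L h := by
  unfold idx; rw [cen_mul_right L hz hq]

/-! ### lower bounds -/

/-- `{q ∈ Q | [x, [s, q]] = 1}` -/
def det (L : Large Q z) (s x : G) (hs : s * z = z * s) (hx : x ∈ Q) : Subgroup G where
  carrier := {q | q ∈ Q ∧ x * (s * q * s⁻¹ * q⁻¹) = (s * q * s⁻¹ * q⁻¹) * x}
  one_mem' := ⟨Q.one_mem, by simp⟩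
  mul_mem' := by
    rintro q p ⟨hq, h1⟩ ⟨hp, h2⟩
    refine ⟨Q.mul_mem hq hp, ?_⟩
    have hm : s * p * s⁻¹ * p⁻¹ ∈ Q := Q.mul_mem (L.conj_mem s hs p hp) (Q.inv_mem hp)
    have e : s * (q * p) * s⁻¹ * (q * p)⁻¹ = (s * q * s⁻¹ * q⁻¹) * (q * (s * p * s⁻¹ * p⁻¹) * q⁻¹) := by group
    have h3 : x * (q * (s * p * s⁻¹ * p⁻¹) * q⁻¹) = (q * (s * p * s⁻¹ * p⁻¹) * q⁻¹) * x := by
      generalize s * p * s⁻¹ * p⁻¹ = c at hm h2
      have h4 : q * c * q⁻¹ = c ∨ q * c * q⁻¹ = c * z := by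
        rcases L.comm q hq c hm with h4 | h4
        · left; rw [h4]; group
        · right
          rw [h4]
          calc c * q * z * q⁻¹ = c * (q * z) * q⁻¹ := by group
            _ = c * (z * q) * q⁻¹ := by rw [L.comm_z q hq]
            _ = c * z := by group
      rcases h4 with h4 | h4
      · rw [h4]; exact h2
      · rw [h4, ← mul_assoc, h2, mul_assoc, mul_assoc, L.comm_z x hx]
    rw [e, ← mul_assoc, h1, mul_assoc, h3, ← mul_assoc]
  inv_mem' := by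
    rintro q ⟨hq, h1⟩
    refine ⟨Q.inv_mem hq, ?_⟩
    have hm : s * q * s⁻¹ * q⁻¹ ∈ Q := Q.mul_mem (L.conj_mem s hs q hq) (Q.inv_mem hq)
    have e : s * q⁻¹ * s⁻¹ * (q⁻¹)⁻¹ = q⁻¹ * (s * q * s⁻¹ * q⁻¹)⁻¹ * q := by group
    rw [e]
    generalize s * q * s⁻¹ * q⁻¹ = c at hm h1
    have hc : x * c⁻¹ = c⁻¹ * x := by
      rw [eq_inv_mul_iff_mul_eq, ← mul_assoc, ← h1, mul_assoc, mul_inv_cancel, mul_one]
    have hq' := Q.inv_mem hq
    have h4 : q⁻¹ * c⁻¹ * q = c⁻¹ ∨ q⁻¹ * c⁻¹ * q = c⁻¹ * z := by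
      rcases L.comm q⁻¹ hq' c⁻¹ (Q.inv_mem hm) with h4 | h4
      · left; rw [h4]; group
      · right
        rw [h4]
        calc c⁻¹ * q⁻¹ * z * q = c⁻¹ * (q⁻¹ * z) * q := by group
          _ = c⁻¹ * (z * q⁻¹) * q := by rw [L.comm_z _ hq']
          _ = c⁻¹ * z := by group
    rcases h4 with h4 | h4
    · rw [h4]; exact hc
    · rw [h4, ← mul_assoc, hc, mul_assoc, mul_assoc, L.comm_z x hx]

theorem cen_le_det (L : Large Q z) {s x : G} (hs : s * z = z * s) (hx : x ∈ Q) : cen L s ≤ det L s x hs hx := by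
  rintro q ⟨hq, h1⟩
  refine ⟨hq, ?_⟩
  rcases h1 with h1 | h1
  · rw [h1]; simp
  · have e : s * q * s⁻¹ * q⁻¹ = z := by
      rw [h1]
      calc q * z * q⁻¹ = z * q * q⁻¹ := by rw [L.comm_z q hq]
        _ = z := by group
    rw [e, L.comm_z x hx]

/-- `y ∈ A`, `y ∉ B`, `B ≤ A ≤ Q` : the index doubles -/
theorem relIndex_double {A B : Subgroup G} (hBA : B ≤ A) (hA : A ≤ Q) {y : G} (hy : y ∈ A) (hy' : y ∉ B) :
    2 * A.relIndex Q ≤ B.relIndex Q := by
  have h1 : B.relIndex A * A.relIndex Q = B.relIndex Q := Subgroup.relIndex_mul_relIndex B A Q hBA hA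
  have h2 : B.relIndex A ≠ 0 := by
    have : Finite A := Finite.of_injective _ (Subgroup.inclusion_injective hA)
    have : Finite (A ⧸ B.subgroupOf A) := inferInstance
    exact Subgroup.index_ne_zero_of_finite
  have h3 : B.relIndex A ≠ 1 := fun h => hy' (Subgroup.relIndex_eq_one.1 h hy)
  rw [← h1]
  exact Nat.mul_le_mul_right _ (by omega)

/-- the condition on a list of pairs -/
def Tri (s : G) : List (G × G) → Prop
  | [] => True
  | p :: l => p.1 * (s * p.2 * s⁻¹ * p.2⁻¹) ≠ (s * p.2 * s⁻¹ * p.2⁻¹) * p.1 ∧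
      (∀ q ∈ l, q.1 * (s * p.2 * s⁻¹ * p.2⁻¹) = (s * p.2 * s⁻¹ * p.2⁻¹) * q.1) ∧ Tri s l

/-- **lower bounds of the index** -/
theorem chain (L : Large Q z) {s : G} (hs : s * z = z * s) (l : List (G × G))
    (hl : ∀ p ∈ l, p.1 ∈ Q ∧ p.2 ∈ Q) (ht : Tri s l) : 2 ^ l.length ≤ idx L s := by
  suffices H : ∃ A : Subgroup G, cen L s ≤ A ∧ A ≤ Q ∧ 2 ^ l.length ≤ A.relIndex Q ∧
      (∀ y ∈ Q, (∀ q ∈ l, q.1 * (s * y * s⁻¹ * y⁻¹) = (s * y * s⁻¹ * y⁻¹) * q.1) → y ∈ A) by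
    obtain ⟨A, h1, -, h2, -⟩ := H
    exact h2.trans (relIndex_anti h1)
  induction l with
  | nil => exact ⟨Q, cen_le L s, le_rfl, by simp, fun y hy _ => hy⟩
  | cons p l ih =>
    obtain ⟨h1, h2, h3⟩ := ht
    obtain ⟨A, hA1, hA2, hA3, hA4⟩ := ih (fun q hq => hl q (List.mem_cons_of_mem _ hq)) h3
    obtain ⟨hp1, hp2⟩ := hl p List.mem_cons_self
    refine ⟨A ⊓ det L s p.1 hs hp1, le_inf hA1 (cen_le_det L hs hp1), inf_le_left.trans hA2, ?_, ?_⟩
    · have h4 : p.2 ∈ A := hA4 _ hp2 h2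
      have h5 : p.2 ∉ A ⊓ det L s p.1 hs hp1 := fun h => h1 h.2.2
      have h6 := relIndex_double (Q := Q) inf_le_left hA2 h4 h5
      rw [List.length_cons, pow_succ, mul_comm]
      exact (Nat.mul_le_mul_left 2 hA3).trans h6
    · intro y hy h
      exact ⟨hA4 y hy fun q hq => h q (List.mem_cons_of_mem _ hq), hy, h p List.mem_cons_self⟩

end Cfsg.Agent.H486.F4
end

-- part: H486/F4/Expl
section
/-!
# F4 of S2491: the rank of `x₆₀(1) x₁₁(1)` on `2²⁰` (helper486)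

`idx_s` : `s = x₆₀(1) x₁₁(1)` (order 3, a product of two opposite root involutions of the Levi subgroup of
`C(r0)` in `²E₆(2)`) has `2⁹ ≤ |Q : C_{Q/⟨z⟩}(s)|` (the truth is `2¹²`).
-/

set_option autoImplicit false
set_option linter.unusedSectionVars false

namespace Cfsg.Agent.H486.F4

open Cfsg Cfsg.Lie
open Cfsg.Agent.ChevalleyStructure
open Cfsg.Agent.ChevalleyStructure.Elts hiding x_add x_zero x_eq_one_iff
open Cfsg.Agent.ChevalleyStructure.TwE6Basic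
open Cfsg.Agent.ChevalleyStructure.TwE6BN
open Cfsg.Agent.TwoESix.LeviA
open Cfsg.Agent.TwoESix.LeviB
open Cfsg.Agent.TwoESix.LeviC
open Cfsg.Agent.TwoESix.LeviD
open Cfsg.Agent.TwoESix.LongPairs
open Cfsg.Agent.TwoESix.LongCard
open Cfsg.Agent.TwoESix.FlagH
open Cfsg.Agent.TwoESix.FlagI
open Cfsg.Agent.TwoESix.FlagK (l20)
open Cfsg.Agent.TwoESix.FlagL (Si Co ZX comm_zx z_mem_UE x_mem_UE)
open Cfsg.Agent.TwoESix.KeyExtra
open Cfsg.Agent.TwoESix.SheetA
open Cfsg.Agent.BabyU (rootClass)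
open Cfsg.Agent.Co2Type.Quad (Large)

universe u

variable {K : Type u} [Field K]

section Gl

variable [CharP K 2]

theorem sq_x (r : ℕ) (t : K) : x r t * x r t = (1 : GL chevE6.Idx K) := by
  rw [x_add, CharTwo.add_self_eq_zero, TwE6Basic.x_zero]

/-- `s x_r = x_r x_k s` -/
theorem s_neg {r k : Fin 72} (h : Si r 60 k) (h11 : Co r 11) (hk : Co k 60) :
    (x 60 1 * x 11 1) * x r.val (1 : K) = x r.val 1 * x k.val 1 * (x 60 1 * x 11 1) := by
  have e1 : x 11 (1 : K) * x r.val 1 = x r.val 1 * x 11 1 := h11.eq 1 1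
  have e2 : x 60 (1 : K) * x r.val 1 = x r.val 1 * x 60 1 * x k.val (1 * 1) := h.eq 1 1
  have e3 : x 60 (1 : K) * x k.val 1 = x k.val 1 * x 60 1 := hk.eq 1 1
  rw [mul_one] at e2
  calc (x 60 1 * x 11 1) * x r.val (1 : K) = x 60 1 * (x 11 1 * x r.val 1) := by group
    _ = (x 60 1 * x r.val 1) * x 11 1 := by rw [e1]; group
    _ = x r.val 1 * (x 60 1 * x k.val 1) * x 11 1 := by rw [e2]; group
    _ = _ := by rw [e3]; group

/-- `s x_r = x_r x_k x_r s` -/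
theorem s_pos {r k : Fin 72} (h : Si r 11 k) (h60 : Co r 60) (hk : Si k 60 r) (hk' : Co k 11) :
    (x 60 1 * x 11 1) * x r.val (1 : K) = x r.val 1 * x k.val 1 * x r.val 1 * (x 60 1 * x 11 1) := by
  have e1 : x 11 (1 : K) * x r.val 1 = x r.val 1 * x 11 1 * x k.val (1 * 1) := h.eq 1 1
  have e2 : x 11 (1 : K) * x k.val 1 = x k.val 1 * x 11 1 := hk'.eq 1 1
  have e3 : x 60 (1 : K) * x r.val 1 = x r.val 1 * x 60 1 := h60.eq 1 1
  have e4 : x 60 (1 : K) * x k.val 1 = x k.val 1 * x 60 1 * x r.val (1 * 1) := hk.eq 1 1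
  rw [mul_one] at e1 e4
  calc (x 60 1 * x 11 1) * x r.val (1 : K) = x 60 1 * (x 11 1 * x r.val 1) := by group
    _ = x 60 1 * x r.val 1 * (x 11 1 * x k.val 1) := by rw [e1]; group
    _ = (x 60 1 * x r.val 1) * x k.val 1 * x 11 1 := by rw [e2]; group
    _ = x r.val 1 * (x 60 1 * x k.val 1) * x 11 1 := by rw [e3]; group
    _ = x r.val 1 * x k.val 1 * (x 60 1 * x r.val 1) * x 11 1 := by rw [e4]; group
    _ = _ := by rw [e3]; group

theorem zx48 : ZX 48 60 66 71 := by decide +kernel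

/-- `s z_48(a) = z_48(a) z_66(a) x_71(a φ(a)) s` -/
theorem s_short (φ : K →+* K) (a : K) :
    (x 60 1 * x 11 1) * z φ 48 a = z φ 48 a * (z φ 66 a * x 71 (a * φ a)) * (x 60 1 * x 11 1) := by
  have c1 : Co 48 11 := by decide +kernel
  have c2 : Co 50 11 := by decide +kernel
  have hr : rho 48 = 50 := by decide +kernel
  have e1 : x 11 (1 : K) * z φ 48 a = z φ 48 a * x 11 1 := by
    have d1 : x 11 (1 : K) * x 48 a = x 48 a * x 11 1 := c1.eq a 1
    have d2 : x 11 (1 : K) * x 50 (φ a) = x 50 (φ a) * x 11 1 := c2.eq (φ a) 1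
    show x 11 (1 : K) * (x 48 a * x (rho 48).val (φ a)) = x 48 a * x (rho 48).val (φ a) * x 11 1
    rw [hr, ← mul_assoc, d1, mul_assoc, show x 11 (1 : K) * x (50 : Fin 72).val (φ a) = x (50 : Fin 72).val (φ a) * x 11 1
      from d2, ← mul_assoc]
  have e2 : z φ 48 a * x 60 1 = x 60 1 * z φ 48 a * (z φ 66 a * x 71 (a * φ a)) := comm_zx zx48 φ a
  have e3 : x 60 (1 : K) * z φ 48 a = z φ 48 a * (z φ 66 a * x 71 (a * φ a)) * x 60 1 := by
    have h1 : x 60 (1 : K) * (x 60 1 * z φ 48 a * (z φ 66 a * x 71 (a * φ a))) = x 60 1 * (z φ 48 a * x 60 1) := by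
      rw [e2]
    have h2 : z φ 48 a * (z φ 66 a * x 71 (a * φ a)) = x 60 1 * (z φ 48 a * x 60 1) := by
      rw [← h1]
      calc z φ 48 a * (z φ 66 a * x 71 (a * φ a)) = (x 60 1 * x 60 1) * (z φ 48 a * (z φ 66 a * x 71 (a * φ a))) := by
            rw [sq_x, one_mul]
        _ = _ := by group
    rw [h2]
    calc x 60 (1 : K) * z φ 48 a = x 60 1 * z φ 48 a * (x 60 1 * x 60 1) := by rw [sq_x, mul_one]
      _ = _ := by group
  rw [mul_assoc, e1, ← mul_assoc, e3]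
  group

end Gl

section Four

variable [Fintype K] {φ : K →+* K} (F : Four K φ)
include F

/-- `x₆₀(1)` -/
def a6 : ↥(twistedE6 K 2) := xe F 60 (by decide +kernel)

/-- `x₁₁(1)` -/
def b6 : ↥(twistedE6 K 2) := xe F 11 (by decide +kernel)

/-- `z_r(t)` in `²E₆(2)` -/
def ze (r : Fin 72) (hr : r ∈ l20) (hrr : rho r ≠ r) (t : K) : ↥(twistedE6 K 2) :=
  ⟨z φ r t, (z_mem_UE F hr hrr t).2⟩

theorem xe_RE {r : Fin 72} (hr : rho r = r) (hU : IsU r) : xe F r hr ∈ RE K :=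
  Subgroup.mem_subgroupOf.2 (x_mem_UR hU.1 hU.2 1)

theorem ze_RE {r : Fin 72} (hr : r ∈ l20) (hrr : rho r ≠ r) (t : K) : ze F r hr hrr t ∈ RE K :=
  Subgroup.mem_subgroupOf.2 (z_mem_UE F hr hrr t).1

theorem co {p q : Fin 72} (h : Co p q) (hp : rho p = p) (hq : rho q = q) :
    xe F q hq * xe F p hp = xe F p hp * xe F q hq := Subtype.ext (h.eq 1 1)

theorem nco {p q : Fin 72} (h : Si p q 71) (hp : rho p = p) (hq : rho q = q) :
    xe F q hq * xe F p hp ≠ xe F p hp * xe F q hq := by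
  have := F.charP
  intro h1
  have h2 : x q.val (1 : K) * x p.val 1 = x p.val 1 * x q.val 1 := congrArg Subtype.val h1
  have h3 : x q.val (1 : K) * x p.val 1 = x p.val 1 * x q.val 1 * x 71 (1 * 1) := h.eq 1 1
  rw [mul_one, h2] at h3
  exact x_ne_one (K := K) (r := 71) (by norm_num) (left_eq_mul.1 h3)

theorem coz {q r : Fin 72} (h : Co r q) (h' : Co (rho r) q) (hq : rho q = q) (hr : r ∈ l20) (hrr : rho r ≠ r) (t : K) :
    xe F q hq * ze F r hr hrr t = ze F r hr hrr t * xe F q hq := by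
  apply Subtype.ext
  show x q.val 1 * (x r.val t * x (rho r).val (φ t)) = (x r.val t * x (rho r).val (φ t)) * x q.val 1
  rw [← mul_assoc, h.eq, mul_assoc, h'.eq, mul_assoc]

theorem s_eq_neg {r k : Fin 72} (hr : rho r = r) (hk : rho k = k) (h : Si r 60 k) (h11 : Co r 11) (hk0 : Co k 60)
    (hrk : Co r k) : (a6 F * b6 F) * xe F r hr * (a6 F * b6 F)⁻¹ * (xe F r hr)⁻¹ = xe F k hk := by
  have := F.charP
  have e : (a6 F * b6 F) * xe F r hr = xe F r hr * xe F k hk * (a6 F * b6 F) := Subtype.ext (s_neg h h11 hk0)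
  rw [e, mul_inv_cancel_right, ← co F hrk hr hk, mul_inv_cancel_right]

theorem s_eq_pos {r k : Fin 72} (hr : rho r = r) (hk : rho k = k) (h : Si r 11 k) (h60 : Co r 60) (hk0 : Si k 60 r)
    (hk' : Co k 11) : (a6 F * b6 F) * xe F r hr * (a6 F * b6 F)⁻¹ * (xe F r hr)⁻¹ = xe F r hr * xe F k hk := by
  have := F.charP
  have e : (a6 F * b6 F) * xe F r hr = xe F r hr * xe F k hk * xe F r hr * (a6 F * b6 F) :=
    Subtype.ext (s_pos h h60 hk0 hk')
  rw [e, mul_inv_cancel_right, mul_inv_cancel_right]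

theorem s_eq_short {t : K} (ht : t * φ t = 1) (h48 : (48 : Fin 72) ∈ l20) (h48' : rho 48 ≠ 48)
    (h66 : (66 : Fin 72) ∈ l20) (h66' : rho 66 ≠ 66) :
    (a6 F * b6 F) * ze F 48 h48 h48' t * (a6 F * b6 F)⁻¹ * (ze F 48 h48 h48' t)⁻¹ =
      ze F 48 h48 h48' t * (ze F 66 h66 h66' t * r0 F) * (ze F 48 h48 h48' t)⁻¹ := by
  have := F.charP
  have e : (a6 F * b6 F) * ze F 48 h48 h48' t = ze F 48 h48 h48' t * (ze F 66 h66 h66' t * r0 F) * (a6 F * b6 F) := by
    apply Subtype.ext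
    show (x 60 1 * x 11 1) * z φ 48 t = z φ 48 t * (z φ 66 t * x 71 1) * (x 60 1 * x 11 1)
    have := s_short φ t
    rwa [ht] at this
  rw [e, mul_inv_cancel_right]

/-- commuting with a conjugate by an element of `Q` -/
theorem comm_conj_iff {q w c : ↥(twistedE6 K 2)} (hq : q ∈ RE K) (hw : w ∈ RE K) (hc : c ∈ RE K) :
    (q * (w * (c * r0 F) * w⁻¹) = (w * (c * r0 F) * w⁻¹) * q) ↔ q * c = c * q := by
  have hqz := RE_comm_r0 F hq
  have hwz := RE_comm_r0 F hw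
  have hz : r0 F * r0 F = 1 := (large F).z_sq
  have key : ∀ d : ↥(twistedE6 K 2), (q * (d * r0 F) = (d * r0 F) * q ↔ q * d = d * q) := by
    intro d
    rw [mul_assoc d, ← hqz, ← mul_assoc, ← mul_assoc]
    exact mul_left_inj _
  rcases comm_RE' F hw hc with h | h
  · have e : w * (c * r0 F) * w⁻¹ = c * r0 F := by
      calc w * (c * r0 F) * w⁻¹ = (w * c) * (r0 F * w⁻¹) := by group
        _ = (c * w) * (w⁻¹ * r0 F) := by rw [h, RE_comm_r0 F (inv_mem hw)]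
        _ = _ := by group
    rw [e, key]
  · have e : w * (c * r0 F) * w⁻¹ = c := by
      calc w * (c * r0 F) * w⁻¹ = (w * c) * (r0 F * w⁻¹) := by group
        _ = (c * w * r0 F) * (w⁻¹ * r0 F) := by rw [h, RE_comm_r0 F (inv_mem hw)]
        _ = c * (w * r0 F) * w⁻¹ * r0 F := by group
        _ = c * (r0 F * w) * w⁻¹ * r0 F := by rw [hwz]
        _ = c * (r0 F * r0 F) := by group
        _ = c := by rw [hz, mul_one]
    rw [e]

/-- the two short root groups -/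
theorem nco_short {t : K} (ht : t + φ t = 1) (h50 : (50 : Fin 72) ∈ l20) (h50' : rho 50 ≠ 50)
    (h66 : (66 : Fin 72) ∈ l20) (h66' : rho 66 ≠ 66) :
    ze F 50 h50 h50' 1 * ze F 66 h66 h66' t ≠ ze F 66 h66 h66' t * ze F 50 h50 h50' 1 := by
  have := F.charP
  intro h1
  have h2 : z φ 50 1 * z φ 66 t = z φ 66 t * z φ 50 1 := congrArg Subtype.val h1
  have r50 : rho 50 = 48 := by decide +kernel
  have r66 : rho 66 = 68 := by decide +kernel
  have d1 : x 50 (1 : K) * x 66 t = x 66 t * x 50 1 * x 71 (t * 1) :=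
    (show Si 66 50 71 by decide +kernel).eq t 1
  have d2 : x 48 (1 : K) * x 66 t = x 66 t * x 48 1 := (show Co 66 48 by decide +kernel).eq t 1
  have d3 : x 50 (1 : K) * x 68 (φ t) = x 68 (φ t) * x 50 1 := (show Co 68 50 by decide +kernel).eq (φ t) 1
  have d4 : x 48 (1 : K) * x 68 (φ t) = x 68 (φ t) * x 48 1 * x 71 (φ t * 1) :=
    (show Si 68 48 71 by decide +kernel).eq (φ t) 1
  have d5 : ∀ u : K, x 71 u * x 48 1 = x 48 1 * x 71 u := fun u => comm_top (r := 48) (by decide) 1 u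
  have d6 : ∀ u : K, x 71 u * x 68 (φ t) = x 68 (φ t) * x 71 u := fun u => comm_top (r := 68) (by decide) (φ t) u
  rw [mul_one] at d1 d4
  have e1 : z φ 50 (1 : K) = x 50 1 * x 48 1 := by
    show x 50 1 * x (rho 50).val (φ 1) = _
    rw [r50, map_one]; rfl
  have e2 : z φ 66 t = x 66 t * x 68 (φ t) := by
    show x 66 t * x (rho 66).val (φ t) = _
    rw [r66]; rfl
  have h3 : z φ 50 1 * z φ 66 t = z φ 66 t * z φ 50 1 * x 71 1 := by
    rw [e1, e2]
    calc x 50 1 * x 48 1 * (x 66 t * x 68 (φ t)) = x 50 1 * (x 48 1 * x 66 t) * x 68 (φ t) := by group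
      _ = (x 50 1 * x 66 t) * (x 48 1 * x 68 (φ t)) := by rw [d2]; group
      _ = x 66 t * x 50 1 * (x 71 t * x 68 (φ t)) * x 48 1 * x 71 (φ t) := by rw [d1, d4]; group
      _ = x 66 t * (x 50 1 * x 68 (φ t)) * (x 71 t * x 48 1) * x 71 (φ t) := by rw [d6]; group
      _ = x 66 t * x 68 (φ t) * (x 50 1 * x 48 1) * (x 71 t * x 71 (φ t)) := by rw [d3, d5]; group
      _ = _ := by rw [x_add, ht]
  rw [h3] at h2
  exact x_ne_one (K := K) (r := 71) (by norm_num) (mul_eq_left.1 h2)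

theorem s_r0 : (a6 F * b6 F) * r0 F = r0 F * (a6 F * b6 F) := by
  have h1 : a6 F * r0 F = r0 F * a6 F := ab F
  have h2 : b6 F * r0 F = r0 F * b6 F := by
    have := co F (p := 11) (q := 71) (by decide +kernel) (by decide +kernel) (by decide +kernel)
    exact this.symm
  rw [mul_assoc, h2, ← mul_assoc, h1, mul_assoc]

theorem exists_t : ∃ t : K, t + φ t = 1 ∧ t * φ t = 1 := by
  obtain ⟨w, hw⟩ := Cfsg.Agent.SporadicStructure.UnitTwo.exists_omega (F := K) (by rw [F.card]; norm_num)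
  have := F.charP
  have h2 : (2 : K) = 0 := CharTwo.two_eq_zero
  refine ⟨w, ?_, ?_⟩
  · rw [F.sq]; linear_combination hw - h2
  · rw [F.sq]
    linear_combination (w - 1) * hw

omit [Fintype K] F in
theorem cmul {a b q : ↥(twistedE6 K 2)} (h1 : q * a = a * q) (h2 : q * b = b * q) : q * (a * b) = (a * b) * q :=
  (Commute.mul_right (show Commute q a from h1) (show Commute q b from h2)).eq

omit [Fintype K] F in
theorem ncmul {a b q : ↥(twistedE6 K 2)} (h1 : q * a = a * q) (h2 : q * b ≠ b * q) : q * (a * b) ≠ (a * b) * q := by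
  intro h
  apply h2
  rw [← mul_assoc, h1, mul_assoc, mul_assoc] at h
  exact mul_left_cancel h

/-- **the rank of `s`** -/
theorem idx_s : 2 ^ 9 ≤ idx (large F) (a6 F * b6 F) := by
  have := F.charP
  have : Finite ↥(twistedE6 K 2) := finite_E
  obtain ⟨t, ht1, ht2⟩ := exists_t F
  have r46 : rho 46 = 46 := by decide +kernel
  have r47 : rho 47 = 47 := by decide +kernel
  have r51 : rho 51 = 51 := by decide +kernel
  have r53 : rho 53 = 53 := by decide +kernel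
  have r63 : rho 63 = 63 := by decide +kernel
  have r65 : rho 65 = 65 := by decide +kernel
  have r69 : rho 69 = 69 := by decide +kernel
  have r70 : rho 70 = 70 := by decide +kernel
  have m48 : (48 : Fin 72) ∈ l20 := by decide
  have m50 : (50 : Fin 72) ∈ l20 := by decide
  have m66 : (66 : Fin 72) ∈ l20 := by decide
  have r48 : rho 48 ≠ 48 := by decide +kernel
  have r50 : rho 50 ≠ 50 := by decide +kernel
  have r66 : rho 66 ≠ 66 := by decide +kernel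
  have h := chain (large F) (s_r0 F)
    [(xe F 53 r53, xe F 46 r46), (xe F 51 r51, xe F 47 r47), (xe F 47 r47, xe F 51 r51), (xe F 46 r46, xe F 53 r53),
     (ze F 50 m50 r50 1, ze F 48 m48 r48 t),
     (xe F 70 r70, xe F 63 r63), (xe F 69 r69, xe F 65 r65), (xe F 65 r65, xe F 69 r69), (xe F 63 r63, xe F 70 r70)]
    ?_ ?_
  · exact h
  · simp only [List.forall_mem_cons]
    exact ⟨⟨xe_RE F _ (by decide +kernel), xe_RE F _ (by decide +kernel)⟩,
      ⟨xe_RE F _ (by decide +kernel), xe_RE F _ (by decide +kernel)⟩,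
      ⟨xe_RE F _ (by decide +kernel), xe_RE F _ (by decide +kernel)⟩,
      ⟨xe_RE F _ (by decide +kernel), xe_RE F _ (by decide +kernel)⟩,
      ⟨ze_RE F _ _ _, ze_RE F _ _ _⟩,
      ⟨xe_RE F _ (by decide +kernel), xe_RE F _ (by decide +kernel)⟩,
      ⟨xe_RE F _ (by decide +kernel), xe_RE F _ (by decide +kernel)⟩,
      ⟨xe_RE F _ (by decide +kernel), xe_RE F _ (by decide +kernel)⟩,
      ⟨xe_RE F _ (by decide +kernel), xe_RE F _ (by decide +kernel)⟩, fun _ h => absurd h List.not_mem_nil⟩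
  · have e46 := s_eq_neg F r46 r63 (by decide +kernel) (by decide +kernel) (by decide +kernel) (by decide +kernel)
    have e47 := s_eq_neg F r47 r65 (by decide +kernel) (by decide +kernel) (by decide +kernel) (by decide +kernel)
    have e51 := s_eq_neg F r51 r69 (by decide +kernel) (by decide +kernel) (by decide +kernel) (by decide +kernel)
    have e53 := s_eq_neg F r53 r70 (by decide +kernel) (by decide +kernel) (by decide +kernel) (by decide +kernel)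
    have e48 := s_eq_short F ht2 m48 r48 m66 r66
    have e63 := s_eq_pos F r63 r46 (by decide +kernel) (by decide +kernel) (by decide +kernel) (by decide +kernel)
    have e65 := s_eq_pos F r65 r47 (by decide +kernel) (by decide +kernel) (by decide +kernel) (by decide +kernel)
    have e69 := s_eq_pos F r69 r51 (by decide +kernel) (by decide +kernel) (by decide +kernel) (by decide +kernel)
    have e70 := s_eq_pos F r70 r53 (by decide +kernel) (by decide +kernel) (by decide +kernel) (by decide +kernel)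
    have hz48 := ze_RE F m48 r48 t
    have hz66 := ze_RE F m66 r66 t
    have hx : ∀ {r : Fin 72} (hr : rho r = r) (_ : IsU r), xe F r hr ∈ RE K := fun hr hU => xe_RE F hr hU
    refine ⟨?_, ?_, ?_, ?_, ?_, ?_, ?_, ?_, ?_, ?_, ?_, ?_, ?_, ?_, ?_, ?_, ?_, ?_, trivial⟩ <;>
      simp only [List.forall_mem_cons, List.not_mem_nil, false_imp_iff, implies_true, and_true, true_and, e46, e47, e51, e53, e48,
        e63, e65, e69, e70]
    · exact nco F (by decide +kernel) _ _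
    · exact ⟨co F (by decide +kernel) _ _, co F (by decide +kernel) _ _, co F (by decide +kernel) _ _,
        (coz F (by decide +kernel) (by decide +kernel) _ _ _ _).symm, co F (by decide +kernel) _ _,
        co F (by decide +kernel) _ _, co F (by decide +kernel) _ _⟩
    · exact nco F (by decide +kernel) _ _
    · exact ⟨co F (by decide +kernel) _ _, co F (by decide +kernel) _ _,
        (coz F (by decide +kernel) (by decide +kernel) _ _ _ _).symm, co F (by decide +kernel) _ _,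
        co F (by decide +kernel) _ _, co F (by decide +kernel) _ _⟩
    · exact nco F (by decide +kernel) _ _
    · exact ⟨co F (by decide +kernel) _ _,
        (coz F (by decide +kernel) (by decide +kernel) _ _ _ _).symm, co F (by decide +kernel) _ _,
        co F (by decide +kernel) _ _, co F (by decide +kernel) _ _⟩
    · exact nco F (by decide +kernel) _ _
    · exact ⟨(coz F (by decide +kernel) (by decide +kernel) _ _ _ _).symm, co F (by decide +kernel) _ _,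
        co F (by decide +kernel) _ _, co F (by decide +kernel) _ _⟩
    · rw [ne_eq, comm_conj_iff F (ze_RE F _ _ _) hz48 hz66]
      exact nco_short F ht1 _ _ _ _
    · rw [comm_conj_iff F (hx _ (by decide +kernel)) hz48 hz66, comm_conj_iff F (hx _ (by decide +kernel)) hz48 hz66,
        comm_conj_iff F (hx _ (by decide +kernel)) hz48 hz66, comm_conj_iff F (hx _ (by decide +kernel)) hz48 hz66]
      exact ⟨coz F (by decide +kernel) (by decide +kernel) _ _ _ _, coz F (by decide +kernel) (by decide +kernel) _ _ _ _,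
        coz F (by decide +kernel) (by decide +kernel) _ _ _ _, coz F (by decide +kernel) (by decide +kernel) _ _ _ _⟩
    · exact ncmul (co F (by decide +kernel) _ _) (nco F (by decide +kernel) _ _)
    · exact ⟨cmul (co F (by decide +kernel) _ _) (co F (by decide +kernel) _ _),
        cmul (co F (by decide +kernel) _ _) (co F (by decide +kernel) _ _), cmul rfl (co F (by decide +kernel) _ _)⟩
    · exact ncmul (co F (by decide +kernel) _ _) (nco F (by decide +kernel) _ _)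
    · exact ⟨cmul rfl (co F (by decide +kernel) _ _), cmul (co F (by decide +kernel) _ _) (co F (by decide +kernel) _ _)⟩
    · exact ncmul (co F (by decide +kernel) _ _) (nco F (by decide +kernel) _ _)
    · exact cmul (co F (by decide +kernel) _ _) (co F (by decide +kernel) _ _)
    · exact ncmul (co F (by decide +kernel) _ _) (nco F (by decide +kernel) _ _)

end Four

end Cfsg.Agent.H486.F4
end

-- part: H486/F4/Su
section
/-!
# F4 of S2491: moved isotropic vectors in `SU₆(2)` (helper486)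

`exists_iso` : for a noncentral `g` of `SU₆(2)` there is an isotropic `v` with `(g v, v) ≠ 0`.
-/

set_option autoImplicit false
set_option linter.unusedSectionVars false
set_option maxRecDepth 100000

namespace Cfsg.Agent.H486.F4

open Cfsg Cfsg.Agent.LieClassical.HermBasic Cfsg.Agent.ClassicalGeometry.UnitTransv
  Cfsg.Agent.SporadicStructure.UnitTwo
open Cfsg.Agent.LieClassical.HermSiegel (mat mat_mul mat_injective)
open Cfsg.Agent.ClassicalGeometry.PSUAutCount (gm guConj gm_inv_mul gm_mul_inv herm_gm gm_inv_mulVec gm_mulVec_inv)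
open Cfsg.Agent.H259.U6
open scoped Matrix

/-- isotropic vectors which the representatives move to nonorthogonal ones -/
def VV : List ℕ := [0, 5, 6, 5, 5, 5, 5, 5, 5, 5, 6, 7, 5, 17, 5, 5, 5, 5, 5, 5, 6, 5, 6, 6, 5, 5, 6, 5, 5, 5, 5, 7, 5,
  5, 6, 5, 5, 5, 5, 6]

theorem vv_tab : ∀ i < 40, i = 0 ∨ (VV.getD i 0 < 4096 ∧ hm (VV.getD i 0) (VV.getD i 0) = 0 ∧
    hm (mx (H767.U6.XP.getD i 0) (VV.getD i 0)) (VV.getD i 0) ≠ 0) := by decide +kernel

section F

variable {F : Type*} [Field F] [Fintype F] (hF : Fintype.card F = 2 ^ 2)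

include hF in
theorem exists_iso {g : SU 6 F 2} (hg : g ∉ Subgroup.center (SU 6 F 2)) :
    ∃ v : Fin 6 → F, hermForm 6 F 2 v v = 0 ∧ hermForm 6 F 2 (act g v) v ≠ 0 := by
  obtain ⟨ω, hω⟩ := exists_omega hF
  obtain ⟨i, hi, l, hl, c, hc⟩ := H767.U6.cover hF hω g
  have hl0 : l ≠ 0 := by omega
  have hl4 : l < 4 := by omega
  rcases vv_tab i hi with rfl | ⟨h1, h2, h3⟩
  · exfalso
    refine hg (scalar_central (s := H767.U6.d4 ω l) ?_)
    rw [X_zero, Matrix.smul_mul, Matrix.one_mul] at hc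
    have h3 : mat g = gm c⁻¹ * (H767.U6.d4 ω l • gm c) := by
      rw [← hc, ← Matrix.mul_assoc, gm_inv_mul, Matrix.one_mul]
    rw [h3, Matrix.mul_smul, gm_inv_mul]
  · generalize VV.getD i 0 = v at h1 h2 h3
    refine ⟨gm c⁻¹ *ᵥ dec ω v, ?_, ?_⟩
    · rw [herm_gm]
      exact (herm_eq_zero_iff hF hω v v).2 h2
    · have e : act g (gm c⁻¹ *ᵥ dec ω v) = gm c⁻¹ *ᵥ (H767.U6.d4 ω l • dec ω (mx (H767.U6.XP.getD i 0) v)) := by
        show mat g *ᵥ (gm c⁻¹ *ᵥ dec ω v) = _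
        have h4 : mat g = gm c⁻¹ * ((H767.U6.d4 ω l • H767.U6.X ω i) * gm c) := by
          rw [← hc, ← Matrix.mul_assoc, gm_inv_mul, Matrix.one_mul]
        rw [h4, ← Matrix.mulVec_mulVec, ← Matrix.mulVec_mulVec, gm_mulVec_inv, Matrix.smul_mulVec, H767.U6.X,
          ← dec_mx hF hω]
      rw [e, herm_gm, herm_smul_left]
      refine mul_ne_zero ?_ fun h => h3 ((herm_eq_zero_iff hF hω _ _).1 h)
      rw [d4_eq]
      exact d4_ne hω hl4 hl0

end F

end Cfsg.Agent.H486.F4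
end

-- part: H486/F4/Rank
section
/-!
# F4 of S2491: the rank of the elements of `U₆(2)` on `2²⁰` (helper486)

`E = ²E₆(2)`, `z = r0 F` a root involution, `Q = RE K = O₂(C(z)) = 2^(1+20)`.

* `pair_conj` : `E` is transitive on pairs of opposite root involutions;
* `triple_conj` : `C(z)` is transitive on the pairs of opposite root involutions in `C(z)`;
* `idx_pair` : the product of such a pair has `2⁹ ≤ |Q : C_{Q/⟨z⟩}|`;
* `rank` : `16 < |Q : C_{Q/⟨z⟩}(h)|` for all `h ∈ C(z) \ Q`.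
-/

set_option autoImplicit false
set_option linter.unusedSectionVars false

namespace Cfsg.Agent.H486.F4

open Cfsg Cfsg.Lie
open Cfsg.Agent.ChevalleyStructure
open Cfsg.Agent.ChevalleyStructure.Elts hiding x_add x_zero x_eq_one_iff
open Cfsg.Agent.ChevalleyStructure.TwE6Basic
open Cfsg.Agent.ChevalleyStructure.TwE6BN
open Cfsg.Agent.TwoESix.LeviA
open Cfsg.Agent.TwoESix.LeviB
open Cfsg.Agent.TwoESix.LeviC
open Cfsg.Agent.TwoESix.LeviD
open Cfsg.Agent.TwoESix.LongPairs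
open Cfsg.Agent.TwoESix.LongCard
open Cfsg.Agent.TwoESix.FlagH
open Cfsg.Agent.TwoESix.FlagI
open Cfsg.Agent.TwoESix.KeyExtra
open Cfsg.Agent.TwoESix.SheetA
open Cfsg.Agent.BabyU (rootClass)
open Cfsg.Agent.BabyU.RootCfg (Opp RootFacts ChartAt mem_cent IsVec)
open Cfsg.Agent.Co2Type.Quad (Large)
open Cfsg.Agent.LieClassical.HermBasic
open Cfsg.Agent.ClassicalGeometry.UnitAutBasic (tau pr pr_surjective)
open Cfsg.Agent.ClassicalGeometry.UnitTransv (act herm_act)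

universe u

variable {K : Type u} [Field K] [Fintype K] {φ : K →+* K} (F : Four K φ)
include F

theorem r0_T : r0 F ∈ rootClass K := xe_T F 71 (by decide +kernel)

theorem a6_T : a6 F ∈ rootClass K := xe_T F 60 (by decide +kernel)

theorem b6_T : b6 F ∈ rootClass K := xe_T F 11 (by decide +kernel)

/-- transitivity on opposite pairs, the second one is `(x₇₁(1), x₀(1))` -/
theorem pair_std {a b : ↥(twistedE6 K 2)} (ha : a ∈ rootClass K) (hb : b ∈ rootClass K) (hab : Opp a b) :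
    ∃ g : ↥(twistedE6 K 2), g * a * g⁻¹ = r0 F ∧ g * b * g⁻¹ = xe F 0 (by decide +kernel) := by
  have := F.charP
  obtain ⟨g, rfl⟩ := exists_conj F ha
  obtain ⟨h, rfl⟩ := exists_conj F hb
  obtain ⟨k, hk, h1, γ, hγ, h2⟩ := pair_general F g.2 h.2
  obtain ⟨hne, h3⟩ := hab
  have h1' : (⟨k, hk⟩ : ↥(twistedE6 K 2)) * (g * r0 F * g⁻¹) * (⟨k, hk⟩ : ↥(twistedE6 K 2))⁻¹ = r0 F := Subtype.ext h1
  refine ⟨⟨k, hk⟩, h1', ?_⟩
  have h3' : (x 71 (1 : K) * x γ 1) ^ 3 = 1 := by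
    have e : (⟨k, hk⟩ : ↥(twistedE6 K 2)) * ((g * r0 F * g⁻¹) * (h * r0 F * h⁻¹)) ^ 3 * (⟨k, hk⟩ : ↥(twistedE6 K 2))⁻¹ =
        (((⟨k, hk⟩ : ↥(twistedE6 K 2)) * (g * r0 F * g⁻¹) * (⟨k, hk⟩ : ↥(twistedE6 K 2))⁻¹) *
          ((⟨k, hk⟩ : ↥(twistedE6 K 2)) * (h * r0 F * h⁻¹) * (⟨k, hk⟩ : ↥(twistedE6 K 2))⁻¹)) ^ 3 := by
      rw [← conj_pow]
      congr 1
      group
    rw [h3, mul_one, mul_inv_cancel] at e
    have e2 := congrArg Subtype.val e.symm
    have e3 : (((⟨k, hk⟩ : ↥(twistedE6 K 2)) * (g * r0 F * g⁻¹) * (⟨k, hk⟩ : ↥(twistedE6 K 2))⁻¹ : ↥(twistedE6 K 2)) :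
        GL chevE6.Idx K) = x 71 1 := h1
    have e4 : (((⟨k, hk⟩ : ↥(twistedE6 K 2)) * (h * r0 F * h⁻¹) * (⟨k, hk⟩ : ↥(twistedE6 K 2))⁻¹ : ↥(twistedE6 K 2)) :
        GL chevE6.Idx K) = x γ 1 := h2
    rw [← e3, ← e4]
    exact e2
  have hne' : x 71 (1 : K) ≠ x γ 1 := by
    intro e
    apply hne
    have e3 : (⟨k, hk⟩ : ↥(twistedE6 K 2)) * (h * r0 F * h⁻¹) * (⟨k, hk⟩ : ↥(twistedE6 K 2))⁻¹ = r0 F :=
      Subtype.ext (h2.trans e.symm)
    have e4 := h1'.trans e3.symm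
    exact mul_left_cancel (mul_right_cancel e4)
  have hcom : ∀ s : ℕ, x 71 (1 : K) * x s 1 = x s 1 * x 71 1 → (x 71 (1 : K) * x s 1) ^ 3 = 1 → x 71 (1 : K) = x s 1 := by
    intro s hc h
    have e1 : (x 71 (1 : K) * x s 1) ^ 3 = x 71 1 * x s 1 := by
      have e2 : (x 71 (1 : K) * x s 1) * (x 71 1 * x s 1) = 1 := by
        calc (x 71 (1 : K) * x s 1) * (x 71 1 * x s 1) = x 71 1 * (x s 1 * x 71 1) * x s 1 := by group
          _ = (x 71 1 * x 71 1) * (x s 1 * x s 1) := by rw [← hc]; group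
          _ = 1 := by rw [sq_x, sq_x, one_mul]
      rw [pow_succ, pow_two, e2, one_mul]
    rw [e1] at h
    calc x 71 (1 : K) = x 71 1 * (x s 1 * x s 1) := by rw [sq_x, mul_one]
      _ = (x 71 1 * x s 1) * x s 1 := by group
      _ = x s 1 := by rw [h, one_mul]
  simp only [List.mem_cons, List.not_mem_nil, or_false] at hγ
  rcases hγ with rfl | rfl | rfl | rfl | rfl
  · exact absurd rfl hne'
  · exact absurd (hcom 70 (comm_top (r := 70) (by decide) 1 1) h3') hne'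
  · exact absurd (hcom 60 (comm_top (r := 60) (by decide) 1 1) h3') hne'
  · exfalso
    have e1 := sq25 (K := K)
    have e2 : x 70 (1 : K) * (x 71 1 * x 25 1) = 1 := by rw [← e1, ← pow_succ]; exact h3'
    have e3 : x 71 (1 : K) * x 25 1 = x 70 1 := by
      calc x 71 (1 : K) * x 25 1 = (x 70 1 * x 70 1) * (x 71 1 * x 25 1) := by rw [sq_x, one_mul]
        _ = x 70 1 * (x 70 1 * (x 71 1 * x 25 1)) := by group
        _ = x 70 1 := by rw [e2, mul_one]
    rw [e3, pow_two, sq_x] at e1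
    exact x_ne_one (K := K) (r := 70) (by norm_num) e1.symm
  · exact Subtype.ext h2

/-- **transitivity on opposite pairs** -/
theorem pair_conj {a b a' b' : ↥(twistedE6 K 2)} (ha : a ∈ rootClass K) (hb : b ∈ rootClass K) (hab : Opp a b)
    (ha' : a' ∈ rootClass K) (hb' : b' ∈ rootClass K) (hab' : Opp a' b') :
    ∃ g : ↥(twistedE6 K 2), g * a * g⁻¹ = a' ∧ g * b * g⁻¹ = b' := by
  obtain ⟨g, h1, h2⟩ := pair_std F ha hb hab
  obtain ⟨g', h1', h2'⟩ := pair_std F ha' hb' hab'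
  refine ⟨g'⁻¹ * g, ?_, ?_⟩
  · calc g'⁻¹ * g * a * (g'⁻¹ * g)⁻¹ = g'⁻¹ * (g * a * g⁻¹) * g' := by group
      _ = a' := by rw [h1, ← h1']; group
  · calc g'⁻¹ * g * b * (g'⁻¹ * g)⁻¹ = g'⁻¹ * (g * b * g⁻¹) * g' := by group
      _ = b' := by rw [h2, ← h2']; group

/-- `x₆₀(1)` and `x₁₁(1)` are opposite -/
theorem opp6 : Opp (a6 F) (b6 F) := by
  have := F.charP
  have hw1 : wpm [0, 1, 2, 1, 0] 71 = 60 := by decide +kernel
  have hw2 : wpm [0, 1, 2, 1, 0] 0 = 11 := by decide +kernel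
  have h1 := wn_conj (K := K) [0, 1, 2, 1, 0] 71 1
  have h2 := wn_conj (K := K) [0, 1, 2, 1, 0] 0 1
  rw [hw1] at h1
  rw [hw2] at h2
  constructor
  · intro h
    have h3 : x (60 : Fin 72).val (1 : K) = x (11 : Fin 72).val 1 := congrArg Subtype.val h
    exact x_ne (K := K) (r := 60) (s := 11) (by norm_num) (by norm_num) (by norm_num) h3
  · apply Subtype.ext
    show (x (60 : Fin 72).val (1 : K) * x (11 : Fin 72).val 1) ^ 3 = 1
    rw [← h1, ← h2]
    have e : wn [0, 1, 2, 1, 0] * x (71 : Fin 72).val (1 : K) * (wn [0, 1, 2, 1, 0])⁻¹ *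
        (wn [0, 1, 2, 1, 0] * x (0 : Fin 72).val 1 * (wn [0, 1, 2, 1, 0])⁻¹) =
        wn [0, 1, 2, 1, 0] * (x (71 : Fin 72).val (1 : K) * x (0 : Fin 72).val 1) * (wn [0, 1, 2, 1, 0])⁻¹ := by group
    rw [e, conj_pow]
    have := cube0 (K := K)
    show wn [0, 1, 2, 1, 0] * (x 71 (1 : K) * x 0 1) ^ 3 * (wn [0, 1, 2, 1, 0])⁻¹ = 1
    rw [this, mul_one, mul_inv_cancel]

/-- **`C(z)` is transitive on the opposite pairs in `C(z)`** -/
theorem triple_conj {a b : ↥(twistedE6 K 2)} (ha : a ∈ rootClass K) (hb : b ∈ rootClass K) (hab : Opp a b)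
    (haz : a * r0 F = r0 F * a) (hbz : b * r0 F = r0 F * b) :
    ∃ g : ↥(twistedE6 K 2), g * r0 F = r0 F * g ∧ g * a * g⁻¹ = a6 F ∧ g * b * g⁻¹ = b6 F := by
  have hF : Fintype.card K = 2 ^ 2 := by rw [F.card]; norm_num
  have RF := Cfsg.Agent.TwoESix.LeviG.rootFacts F.card hF
  obtain ⟨g, h1, h2⟩ := pair_conj F ha hb hab (a6_T F) (b6_T F) (opp6 F)
  obtain ⟨ψ, C⟩ := RF.chart (a6 F) (a6_T F)
  set r' := g * r0 F * g⁻¹ with hr'
  have hrT : r' ∈ rootClass K := RF.conj _ (r0_T F) g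
  have hra : r' * a6 F = a6 F * r' := by
    rw [hr', ← h1]
    calc g * r0 F * g⁻¹ * (g * a * g⁻¹) = g * (r0 F * a) * g⁻¹ := by group
      _ = g * (a * r0 F) * g⁻¹ := by rw [haz]
      _ = _ := by group
  have hrb : r' * b6 F = b6 F * r' := by
    rw [hr', ← h2]
    calc g * r0 F * g⁻¹ * (g * b * g⁻¹) = g * (r0 F * b) * g⁻¹ := by group
      _ = g * (b * r0 F) * g⁻¹ := by rw [hbz]
      _ = _ := by group
  have h6a : a6 F * r0 F = r0 F * a6 F := ab F
  have h6b : b6 F * r0 F = r0 F * b6 F :=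
    (co F (p := 11) (q := 71) (by decide +kernel) (by decide +kernel) (by decide +kernel)).symm
  obtain ⟨v, v0, vv, mv, ev⟩ := C.exists_vec RF (b6_T F) (opp6 F) hrT hra hrb
  obtain ⟨w, w0, ww, mw, ew⟩ := C.exists_vec RF (b6_T F) (opp6 F) (r0_T F) h6a.symm h6b.symm
  obtain ⟨u, c, hc, hu⟩ := Cfsg.Agent.SporadicStructure.UnitTwo.exists_map hF v w v0 w0 vv ww
  obtain ⟨k, hk, ek⟩ := C.surj _ (b6_T F) (opp6 F) (pr 6 K 2 u)
  have hk' := mem_cent.1 k.2
  have e1 : (k : ↥(twistedE6 K 2)) * r' * (k : ↥(twistedE6 K 2))⁻¹ = r0 F := by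
    have hm : (k : ↥(twistedE6 K 2)) * r' * (k : ↥(twistedE6 K 2))⁻¹ ∈ Subgroup.centralizer ({a6 F} : Set ↥(twistedE6 K 2)) :=
      mul_mem (mul_mem k.2 mv) (inv_mem k.2)
    refine C.inj' (b6_T F) (opp6 F) hm mw ?_ h6b.symm ?_
    · exact ((Commute.mul_left (show Commute (k : ↥(twistedE6 K 2)) (b6 F) from hk) (show Commute r' (b6 F) from hrb)).mul_left
        (show Commute (k : ↥(twistedE6 K 2)) (b6 F) from hk).inv_left).eq
    · have e2 : (⟨(k : ↥(twistedE6 K 2)) * r' * (k : ↥(twistedE6 K 2))⁻¹, hm⟩ :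
          ↥(Subgroup.centralizer ({a6 F} : Set ↥(twistedE6 K 2)))) = k * ⟨r', mv⟩ * k⁻¹ := rfl
      rw [e2, map_mul, map_mul, map_inv, ek, ev, Cfsg.Agent.R01.PSUSix.conj_tau hF u vv, hu,
        Cfsg.Agent.R01.PSUSix.tau_smul hF ww hc, ew]
  refine ⟨k * g, ?_, ?_, ?_⟩
  · have e3 : (k : ↥(twistedE6 K 2)) * g * r0 F * ((k : ↥(twistedE6 K 2)) * g)⁻¹ = r0 F := by
      calc (k : ↥(twistedE6 K 2)) * g * r0 F * ((k : ↥(twistedE6 K 2)) * g)⁻¹
            = k * (g * r0 F * g⁻¹) * (k : ↥(twistedE6 K 2))⁻¹ := by group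
        _ = r0 F := e1
    exact mul_inv_eq_iff_eq_mul.1 e3
  · calc (k : ↥(twistedE6 K 2)) * g * a * ((k : ↥(twistedE6 K 2)) * g)⁻¹
          = k * (g * a * g⁻¹) * (k : ↥(twistedE6 K 2))⁻¹ := by group
      _ = a6 F := by rw [h1, hk', mul_inv_cancel_right]
  · calc (k : ↥(twistedE6 K 2)) * g * b * ((k : ↥(twistedE6 K 2)) * g)⁻¹
          = k * (g * b * g⁻¹) * (k : ↥(twistedE6 K 2))⁻¹ := by group
      _ = b6 F := by rw [h2, hk, mul_inv_cancel_right]

/-- the product of two opposite root involutions in `C(z)` -/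
theorem idx_pair {a b : ↥(twistedE6 K 2)} (ha : a ∈ rootClass K) (hb : b ∈ rootClass K) (hab : Opp a b)
    (haz : a * r0 F = r0 F * a) (hbz : b * r0 F = r0 F * b) : 2 ^ 9 ≤ idx (large F) (a * b) := by
  have : Finite ↥(twistedE6 K 2) := finite_E
  obtain ⟨g, h1, h2, h3⟩ := triple_conj F ha hb hab haz hbz
  rw [← idx_conj (large F) h1 (a * b)]
  have e : g * (a * b) * g⁻¹ = a6 F * b6 F := by rw [← h2, ← h3]; group
  rw [e]
  exact idx_s F

/-- **the rank** -/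
theorem rank {h : ↥(twistedE6 K 2)} (hz : h * r0 F = r0 F * h) (hn : h ∉ RE K) : 16 < idx (large F) h := by
  have : Finite ↥(twistedE6 K 2) := finite_E
  have hF : Fintype.card K = 2 ^ 2 := by rw [F.card]; norm_num
  have RF := Cfsg.Agent.TwoESix.LeviG.rootFacts F.card hF
  obtain ⟨ψ, C⟩ := RF.chart (r0 F) (r0_T F)
  -- the kernel of the chart
  have hker : ∀ (y : ↥(twistedE6 K 2)) (hy : y ∈ Subgroup.centralizer ({r0 F} : Set ↥(twistedE6 K 2))),
      ψ ⟨y, hy⟩ = 1 → y ∈ RE K := by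
    intro y hy h1
    obtain ⟨M, h2, h3, h4, h5⟩ := ker_sub C ⟨y, hy⟩ h1
    exact R_max F M h3 h4 h5 h2
  have hm := mem_cent.2 hz
  obtain ⟨g, hg⟩ := pr_surjective (ψ ⟨h, hm⟩)
  have hgc : g ∉ Subgroup.center (SU 6 K 2) := by
    intro hc
    apply hn
    apply hker h hm
    rw [← hg]
    exact (QuotientGroup.eq_one_iff g).2 hc
  obtain ⟨v, vv, hv⟩ := exists_iso hF hgc
  have v0 : v ≠ 0 := by
    rintro rfl
    exact hv (herm_zero_right hF _)
  have ww : hermForm 6 K 2 (act g v) (act g v) = 0 := by rw [herm_act, vv]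
  have w0 : act g v ≠ 0 := by
    intro h0
    rw [h0, herm_zero_left] at hv
    exact hv rfl
  -- an opposite root involution
  obtain ⟨r, hr, s, hs, hrs⟩ := RF.opp
  obtain ⟨x0, hx0⟩ := RF.one r hr (r0 F) (r0_T F)
  have hs0 : Opp (r0 F) (x0 * s * x0⁻¹) := by
    refine ⟨?_, ?_⟩
    · intro e
      apply hrs.1
      rw [← hx0] at e
      exact mul_left_cancel (mul_right_cancel e)
    · rw [← hx0]
      have e : x0 * r * x0⁻¹ * (x0 * s * x0⁻¹) = x0 * (r * s) * x0⁻¹ := by group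
      rw [e, conj_pow, hrs.2, mul_one, mul_inv_cancel]
  have hsT := RF.conj s hs x0
  generalize x0 * s * x0⁻¹ = s' at hs0 hsT
  obtain ⟨b, hb, hbs, -, -, mb, eb⟩ := C.exists_root hsT hs0 v0 vv
  obtain ⟨a, ha, has, hav⟩ := C.exists_root hsT hs0 w0 ww
  have hbv : IsVec hF ψ b v := ⟨v0, vv, mb, eb⟩
  obtain ⟨-, -, ma, ea⟩ := id hav
  have haz := mem_cent.1 ma
  have hbz := mem_cent.1 mb
  have hnc : a * b ≠ b * a := fun hc => hv ((C.comm_iff hsT hs0 hav hbv has hbs).1 hc)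
  have hopp : Opp a b := by
    refine ⟨fun e => hnc (by rw [e]), ?_⟩
    rcases C.three RF hsT hs0 ha haz has hb hbz hbs with h1 | h1
    · exact absurd h1 hnc
    · exact h1
  have h9 := idx_pair F ha hb hopp haz hbz
  -- the commutator
  have e : h * b * h⁻¹ * b⁻¹ = (a * b) * ((a * b)⁻¹ * (h * b * h⁻¹ * b⁻¹)) := by group
  have hq : (a * b)⁻¹ * (h * b * h⁻¹ * b⁻¹) ∈ RE K := by
    have hm' : (a * b)⁻¹ * (h * b * h⁻¹ * b⁻¹) ∈ Subgroup.centralizer ({r0 F} : Set ↥(twistedE6 K 2)) :=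
      mul_mem (inv_mem (mul_mem ma mb)) (mul_mem (mul_mem (mul_mem hm mb) (inv_mem hm)) (inv_mem mb))
    refine hker _ hm' ?_
    have e2 : (⟨(a * b)⁻¹ * (h * b * h⁻¹ * b⁻¹), hm'⟩ : ↥(Subgroup.centralizer ({r0 F} : Set ↥(twistedE6 K 2)))) =
        (⟨a, ma⟩ * ⟨b, mb⟩)⁻¹ * (⟨h, hm⟩ * ⟨b, mb⟩ * ⟨h, hm⟩⁻¹ * ⟨b, mb⟩⁻¹) := rfl
    rw [e2, map_mul, map_inv, map_mul, map_mul, map_mul, map_mul, map_inv, map_inv, ea, eb, ← hg,
      Cfsg.Agent.R01.PSUSix.conj_tau hF g vv, Cfsg.Agent.R01.PSUSix.tau_inv hF vv, inv_mul_cancel]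
  have habz : (a * b) * r0 F = r0 F * (a * b) := by rw [mul_assoc, hbz, ← mul_assoc, haz, mul_assoc]
  have h10 := idx_comm (large F) hz hbz
  rw [e, idx_mul_right (large F) habz hq] at h10
  have h11 := h9.trans h10
  by_contra hlt
  have h12 : idx (large F) h ≤ 16 := by omega
  have h13 : idx (large F) h ^ 2 ≤ 16 ^ 2 := Nat.pow_le_pow_left h12 2
  omega

end Cfsg.Agent.H486.F4
end

-- part: H486/F4/KSeven
section
/-!
# S2491, row F4, box K7 (helper486)

* `V_eq_RE` : the unipotent radical `V φ j1` of the RGD model is `RE F` of `TwoESix`; `mem_X_th`;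
* `rank_ge` : noncentral elements of `SU₆(2)` have rank `≥ 5` on `V_1 / X_θ`.
-/

set_option autoImplicit false
set_option linter.unusedSectionVars false

namespace Cfsg.Agent.H486.F4

open CoxeterSystem Cfsg.Agent.ChevalleyStructure.CoxeterGeom Cfsg.Agent.Tits.Roots Cfsg.Agent.Tits.Core
  Cfsg.Agent.Nodes Cfsg.Agent.Nodes.Reps Cfsg.Agent.Nodes.BNOf Cfsg.Agent.Nodes.RGDLib Cfsg.Agent.Nodes.Bruhat
  Cfsg.Agent.Nodes.OppDec Cfsg.Agent.Nodes.LeviDec Cfsg.Agent.Nodes.StabComb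
open Cfsg.Lie Subgroup
open Cfsg.Agent.ChevalleyStructure.TwistedU (rspan rspan_le mem_rspan)
open Cfsg.Agent.ChevalleyStructure.TwE6Basic (x twisted_le_fix)
open Cfsg.Agent.TwoESix.LeviA (Four)
open Cfsg.Agent.TwoESix.LongCard (r0)
open Cfsg.Agent.H231.QF (KK cs th j1)

universe u

variable {F : Type u} [Field F] [Fintype F] (hF : Fintype.card F = 4) {φ : F →+* F} (hφ : ∀ t, φ t = t ^ 2)

theorem tabV : ∀ k : Fin 72, 0 < RGDFold.V chevE6 RGDTwE6.J k.val 0 →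
    36 ≤ k.val ∧ ¬ chevE6.InRootSub {j | j ∈ Cfsg.Agent.TwoESix.LeviB.Jn} k.val := by decide +kernel

theorem tabTh : ∀ k : Fin 72, RGDFold.V chevE6 RGDTwE6.J k.val = th ↔ k.val = 71 := by decide +kernel

include hF hφ in
theorem four : Four F φ where
  card := hF
  sq := hφ
  inv t := by
    rw [hφ, hφ]
    exact Cfsg.Agent.H594.QF.hqq hF t

theorem V_le_RE : Cfsg.Agent.H231.QF.V φ j1 ≤ Cfsg.Agent.TwoESix.FlagH.RE F := by
  refine RGD.Sup_le fun z hz => ?_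
  obtain ⟨-, -, k, hk, hk0⟩ := hz
  have hk' : k = 0 := by
    by_contra h
    exact hk h
  subst hk'
  have h1 : RGDFold.R chevE6 RGDTwE6.hp F RGDTwE6.J (Cfsg.Agent.ChevalleyStructure.TwE6Basic.sg φ) z ≤
      Cfsg.Agent.TwoESix.LeviA.UR F Cfsg.Agent.TwoESix.LeviB.Jn := by
    refine inf_le_left.trans (rspan_le _ fun s hs t => ?_)
    obtain ⟨hs1, hs2⟩ := hs
    have h3 := tabV ⟨s, hs1⟩ (by rw [hs2]; exact hk0)
    exact Cfsg.Agent.TwoESix.LeviA.x_mem_UR (r := ⟨s, hs1⟩) h3.1 h3.2 t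
  exact Subgroup.comap_mono h1

include hF hφ in
/-- `X_θ = {1, r0}` -/
theorem mem_X_th {y : KK F} : y ∈ Cfsg.Agent.H231.QF.X φ th ↔ y = 1 ∨ y = r0 (four hF hφ) := by
  constructor
  · intro hy
    refine Cfsg.Agent.TwoESix.FlagI.X71_E (four hF hφ) ?_
    have h1 : (y : Matrix.GeneralLinearGroup chevE6.Idx F) ∈ RGDFold.R chevE6 RGDTwE6.hp F RGDTwE6.J
      (Cfsg.Agent.ChevalleyStructure.TwE6Basic.sg φ) th := Subgroup.mem_subgroupOf.1 hy
    have h2 := (Subgroup.mem_inf.1 h1).1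
    refine (rspan_le _ (H := chevE6.rootSubgroup F 71) fun s hs t => ?_) h2
    obtain ⟨hs1, hs2⟩ := hs
    have h3 : s = 71 := (tabTh ⟨s, hs1⟩).1 hs2
    subst h3
    exact Cfsg.Agent.ChevalleyStructure.TwE6Basic.mem_X.2 ⟨t, rfl⟩
  · rintro (rfl | rfl)
    · exact one_mem _
    · refine Subgroup.mem_subgroupOf.2 (Subgroup.mem_inf.2 ⟨?_, ?_⟩)
      · exact mem_rspan (Cfsg.Agent.ChevalleyStructure.Elts.xG RGDTwE6.hp.inList) (S := {k | k < chevE6.nroots ∧ RGDFold.V chevE6 RGDTwE6.J k = th}) (r := 71) ⟨by decide +kernel, (tabTh 71).2 rfl⟩ 1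
      · exact twisted_le_fix φ hφ (Cfsg.Agent.H594.QF.hqq hF) (r0 (four hF hφ)).2

include hF hφ in
theorem V_eq_RE : Cfsg.Agent.H231.QF.V φ j1 = Cfsg.Agent.TwoESix.FlagH.RE F := by
  have : Finite (KK F) := Cfsg.Agent.TwoESix.LongCard.finite_E
  refine Subgroup.eq_of_le_of_card_ge V_le_RE ?_
  rw [(Cfsg.Agent.H594.QF.V1_struct hF hφ).2.2.2]
  exact Cfsg.Agent.TwoESix.SheetMM.card_RE_le (four hF hφ)

include hF hφ in
/-- elements of `P₁` commute with `r0` -/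
theorem comm_r0_of_P {y : KK F} (hy : y ∈ Cfsg.Agent.H231.QF.P φ j1) :
    y * r0 (four hF hφ) = r0 (four hF hφ) * y := by
  have h1 := Cfsg.Agent.H594.QF.centralizer_eq hF hφ ((mem_X_th hF hφ).2 (Or.inr rfl))
    (Cfsg.Agent.TwoESix.SheetA.large (four hF hφ)).z_ne
  rw [← h1] at hy
  exact Subgroup.mem_centralizer_singleton_iff.1 hy

include hF hφ in
/-- **rank `≥ 5` for all elements of `P₁ \ V₁`** -/
theorem rank_P {y : KK F} (hy : y ∈ Cfsg.Agent.H231.QF.P φ j1) (hn : y ∉ Cfsg.Agent.H231.QF.V φ j1) :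
    32 * Nat.card {x : KK F // x ∈ Cfsg.Agent.H231.QF.V φ j1 ∧ y * x * y⁻¹ * x⁻¹ ∈ Cfsg.Agent.H231.QF.X φ th} ≤
      Nat.card (Cfsg.Agent.H231.QF.V φ j1) := by
  have : Finite (KK F) := Cfsg.Agent.TwoESix.LongCard.finite_E
  set F4 := four hF hφ
  have hz := comm_r0_of_P hF hφ hy
  have hc := (Cfsg.Agent.H594.QF.V1_struct hF hφ).2.2.2
  rw [V_eq_RE hF hφ] at hn hc
  have h16 := rank F4 hz hn
  have hL := Cfsg.Agent.TwoESix.SheetA.large F4
  have hm := idx_mul_card hL y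
  rw [hc] at hm
  have hd : idx hL y ∣ 2 ^ 21 := ⟨_, hm.symm⟩
  obtain ⟨k, -, hk⟩ := (Nat.dvd_prime_pow Nat.prime_two).1 hd
  have h32 : 32 ≤ idx hL y := by
    rw [hk] at h16 ⊢
    have h5 : 5 ≤ k := by
      by_contra hlt
      have : 2 ^ k ≤ 2 ^ 4 := Nat.pow_le_pow_right (by norm_num) (by omega)
      omega
    exact Nat.pow_le_pow_right (n := 2) (by norm_num) h5
  have e : Nat.card {x : KK F // x ∈ Cfsg.Agent.H231.QF.V φ j1 ∧ y * x * y⁻¹ * x⁻¹ ∈ Cfsg.Agent.H231.QF.X φ th} =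
      Nat.card (cen hL y) := by
    refine Nat.card_congr (Equiv.subtypeEquivRight fun x => ?_)
    rw [V_eq_RE hF hφ, mem_X_th hF hφ, mem_cen]
    refine and_congr_right fun hx => or_congr mul_inv_eq_one ?_
    rw [mul_inv_eq_iff_eq_mul, hL.comm_z x hx]
  rw [e, V_eq_RE hF hφ, hc, ← hm]
  exact Nat.mul_le_mul_right _ h32

include hF hφ in
/-- **K7** -/
theorem rank_ge {f : SU 6 F 2 →* KK F} (hf : f.range = Cfsg.Agent.H231.QF.Lv φ j1)
    (hk : f.ker = center (SU 6 F 2)) (h : SU 6 F 2) (hh : h ∉ center (SU 6 F 2)) :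
    32 * Nat.card {x : KK F // x ∈ Cfsg.Agent.H231.QF.V φ j1 ∧ f h * x * (f h)⁻¹ * x⁻¹ ∈ Cfsg.Agent.H231.QF.X φ th} ≤
      Nat.card (Cfsg.Agent.H231.QF.V φ j1) := by
  have hl : f h ∈ Cfsg.Agent.H231.QF.Lv φ j1 := by rw [← hf]; exact ⟨h, rfl⟩
  refine rank_P hF hφ (LJ_le_PJ hl) fun hV => hh ?_
  obtain ⟨p, hp'⟩ := CharP.exists F
  have : Fact p.Prime := ⟨CharP.char_is_prime F p⟩
  have R := RGDTwE6.rgd cs hφ (Cfsg.Agent.H594.QF.hqq hF) p
  have hW : Finite CoxeterMatrix.F₄.Group := Cfsg.Agent.KFacts.TwESix.Comb.finiteW cs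
  have h1 : f h ∈ Cfsg.Agent.H231.QF.Lv φ j1 ⊓ Cfsg.Agent.H231.QF.V φ j1 := ⟨hl, hV⟩
  rw [LJ_inf_VJ R j1, Subgroup.mem_bot] at h1
  rw [← hk]
  exact h1

end Cfsg.Agent.H486.F4
end

private theorem dce_c1bcb52ffc30 : _root_.True := by
  try have : _root_.True := by simp only [_root_.Cfsg.Agent.H486.F4.a6.congr_simp]
  try have : _root_.True := by simp only [_root_.Cfsg.Agent.H486.F4.ze.congr_simp]
  try have : _root_.True := by simp only [_root_.Cfsg.Agent.H486.F4.b6.congr_simp]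
  try have : _root_.True := by simp only [_root_.Cfsg.Agent.TwoESix.FlagH.xe.congr_simp]
  exact _root_.True.intro
end
end
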